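import Mathlib
import Cfsg.Agent.Lib.Clifford.Basic
import Cfsg.Agent.Lib.CharDegreesTheory.IrrComp
import Cfsg.Prelude.Def_Blocks

/-!
# Characters of subgroups as functions on the ambient group

An irreducible character of a subgroup is treated as a function on the whole group vanishing
outside the subgroup; conjugation, restriction and multiplicities then need no coercions.
-/

set_option autoImplicit false
set_option linter.style.haveILetI false
set_option linter.unusedSectionVars false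

open scoped ComplexConjugate
open Cfsg CfsgLib.CharTheory

namespace CfsgLib.RelMcKay

noncomputable section

open scoped Classical

variable {G : Type*} [Group G] [Finite G]

/-- `f` is an irreducible character of `H` and vanishes outside `H`. -/
def IsIrrOn (H : Subgroup G) (f : G → ℂ) : Prop :=
  IsIrrCharacter H (fun h : H => f h) ∧ ∀ g, g ∉ H → f g = 0

/-- The restriction of `f` to `H` is a character. -/
def IsCharOn (H : Subgroup G) (f : G → ℂ) : Prop := IsCharacter H (fun h : H => f h)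

/-- The inner product of the restrictions to `H`. -/
def ip (H : Subgroup G) (f g : G → ℂ) : ℂ :=
  letI := Fintype.ofFinite H
  classInner (fun h : H => f h) (fun h : H => g h)

theorem ip_eq (H : Subgroup G) [Fintype H] (f g : G → ℂ) :
    ip H f g = classInner (fun h : H => f h) (fun h : H => g h) := by
  rw [ip, Subsingleton.elim (Fintype.ofFinite H) ‹_›]

/-- The multiplicity of `g` in the restriction of `f` to `H`. -/
def mu (H : Subgroup G) (f g : G → ℂ) : ℕ := ⌊(ip H f g).re⌋₊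

theorem finite_setOf_isIrrOn (H : Subgroup G) : {f : G → ℂ | IsIrrOn H f}.Finite := by
  refine (Set.finite_range fun χ : IrrCharacter H => extendByZero H (χ : H → ℂ)).subset ?_
  rintro f ⟨hf, h0⟩
  refine ⟨⟨_, hf⟩, funext fun g => ?_⟩
  by_cases hg : g ∈ H
  · exact Frobenius.extendByZero_of_mem H _ hg
  · exact (Frobenius.extendByZero_of_not_mem H _ hg).trans (h0 g hg).symm

/-- The irreducible characters of `H` as functions on the ambient group. -/
def irrOn (H : Subgroup G) : Finset (G → ℂ) := (finite_setOf_isIrrOn H).toFinset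

@[simp] theorem mem_irrOn {H : Subgroup G} {f : G → ℂ} : f ∈ irrOn H ↔ IsIrrOn H f := by
  simp [irrOn]

theorem extend_coe (H : Subgroup G) (χ : H → ℂ) :
    (fun h : H => extendByZero H χ h) = χ := funext fun h => Frobenius.extendByZero_coe H χ h

theorem isIrrOn_extend {H : Subgroup G} {χ : H → ℂ} (hχ : IsIrrCharacter H χ) :
    IsIrrOn H (extendByZero H χ) :=
  ⟨by rwa [extend_coe], fun _ hg => Frobenius.extendByZero_of_not_mem H χ hg⟩

theorem IsIrrOn.ext {H : Subgroup G} {f g : G → ℂ} (hf : IsIrrOn H f) (hg : IsIrrOn H g)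
    (h : ∀ x ∈ H, f x = g x) : f = g := funext fun x => by
  by_cases hx : x ∈ H
  · exact h x hx
  · rw [hf.2 x hx, hg.2 x hx]

/-- The irreducible characters of `H` correspond to `irrOn H`. -/
def irrEquiv (H : Subgroup G) : IrrCharacter H ≃ {f : G → ℂ // IsIrrOn H f} where
  toFun χ := ⟨extendByZero H (χ : H → ℂ), isIrrOn_extend χ.2⟩
  invFun f := ⟨fun h => (f : G → ℂ) h, f.2.1⟩
  left_inv χ := Subtype.ext (extend_coe H (χ : H → ℂ))
  right_inv f := Subtype.ext <| (isIrrOn_extend f.2.1).ext f.2 fun x hx =>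
    Frobenius.extendByZero_of_mem H _ hx

theorem irrEquiv_apply {H : Subgroup G} (χ : IrrCharacter H) (h : H) :
    (irrEquiv H χ : G → ℂ) h = (χ : H → ℂ) h :=
  Frobenius.extendByZero_coe H _ h

theorem IsIrrOn.isCharOn {H : Subgroup G} {f : G → ℂ} (hf : IsIrrOn H f) : IsCharOn H f :=
  IsIrrCharacter.isCharacter hf.1

theorem IsCharOn.mono {K H : Subgroup G} {f : G → ℂ} (hf : IsCharOn H f) (h : K ≤ H) :
    IsCharOn K f :=
  Coherence.isCharacter_comp hf (Subgroup.inclusion h)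

theorem IsCharOn.classFun {H : Subgroup G} {f : G → ℂ} (hf : IsCharOn H f) {x y : G}
    (hx : x ∈ H) (hy : y ∈ H) : f (x * y * x⁻¹) = f y :=
  IsCharacter.isClassFunction hf ⟨y, hy⟩ ⟨x, hx⟩

theorem IsIrrOn.classFun {H : Subgroup G} {f : G → ℂ} (hf : IsIrrOn H f) {x : G} (hx : x ∈ H)
    (y : G) : f (x * y * x⁻¹) = f y := by
  by_cases hy : y ∈ H
  · exact hf.isCharOn.classFun hx hy
  · rw [hf.2 y hy, hf.2]
    intro h
    exact hy (by simpa [mul_assoc] using mul_mem (mul_mem (inv_mem hx) h) hx)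

theorem ip_congr {H : Subgroup G} {f f' g g' : G → ℂ} (hf : ∀ x ∈ H, f x = f' x)
    (hg : ∀ x ∈ H, g x = g' x) : ip H f g = ip H f' g' := by
  rw [ip, ip, show (fun h : H => f h) = fun h : H => f' h from funext fun h => hf h h.2,
    show (fun h : H => g h) = fun h : H => g' h from funext fun h => hg h h.2]

theorem mu_congr {H : Subgroup G} {f f' g g' : G → ℂ} (hf : ∀ x ∈ H, f x = f' x)
    (hg : ∀ x ∈ H, g x = g' x) : mu H f g = mu H f' g' := by
  rw [mu, mu, ip_congr hf hg]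

theorem ip_self {H : Subgroup G} {f : G → ℂ} (hf : IsIrrOn H f) : ip H f f = 1 := by
  haveI := Fintype.ofFinite H
  rw [ip_eq]
  exact classInner_self_of_isIrr hf.1

theorem ip_eq_zero {H : Subgroup G} {f g : G → ℂ} (hf : IsIrrOn H f) (hg : IsIrrOn H g)
    (h : f ≠ g) : ip H f g = 0 := by
  haveI := Fintype.ofFinite H
  rw [ip_eq]
  exact classInner_eq_zero_of_ne hf.1 hg.1 fun e => h (hf.ext hg fun x hx => congrFun e ⟨x, hx⟩)

theorem mu_self {H : Subgroup G} {f : G → ℂ} (hf : IsIrrOn H f) : mu H f f = 1 := by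
  simp [mu, ip_self hf]

theorem mu_eq_zero {H : Subgroup G} {f g : G → ℂ} (hf : IsIrrOn H f) (hg : IsIrrOn H g)
    (h : f ≠ g) : mu H f g = 0 := by
  simp [mu, ip_eq_zero hf hg h]

theorem ip_eq_mu {H : Subgroup G} {f g : G → ℂ} (hf : IsCharOn H f) (hg : IsIrrOn H g) :
    ip H f g = mu H f g := by
  haveI := Fintype.ofFinite H
  obtain ⟨k, hk⟩ := IsCharacter.exists_classInner_eq_nat hf ⟨_, hg.1⟩
  rw [mu, ip_eq, hk]
  simp

theorem ip_comm (H : Subgroup G) (f g : G → ℂ) : ip H f g = conj (ip H g f) := by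
  haveI := Fintype.ofFinite H
  rw [ip_eq, ip_eq]
  exact classInner_conj_symm _ _

/-- A character is the sum of its constituents. -/
theorem IsCharOn.decomp {H : Subgroup G} {f : G → ℂ} (hf : IsCharOn H f) {x : G} (hx : x ∈ H) :
    f x = ∑ ξ ∈ irrOn H, (mu H f ξ : ℂ) * ξ x := by
  haveI := Fintype.ofFinite H
  haveI := Fintype.ofFinite (IrrCharacter H)
  obtain ⟨m, hm⟩ := IsCharacter.exists_sum hf
  have hmu : ∀ χ : IrrCharacter H, mu H f (irrEquiv H χ) = m χ := fun χ => by
    have e : ip H f (irrEquiv H χ) = (m χ : ℂ) := by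
      rw [ip_eq, show (fun h : H => (irrEquiv H χ : G → ℂ) h) = (χ : H → ℂ) from
        funext (irrEquiv_apply χ), hm]
      exact classInner_sum_irr _ χ
    simp [mu, e]
  rw [← Finset.sum_coe_sort (irrOn H)]
  have e1 := congrFun hm ⟨x, hx⟩
  simp only [Finset.sum_apply, Pi.smul_apply, smul_eq_mul] at e1
  rw [e1]
  refine Fintype.sum_equiv ((irrEquiv H).trans
    (Equiv.subtypeEquivRight fun f => mem_irrOn.symm)) _ _ fun χ => ?_
  show (m χ : ℂ) * _ = (mu H f (irrEquiv H χ) : ℂ) * (irrEquiv H χ : G → ℂ) x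
  rw [hmu, ← irrEquiv_apply χ ⟨x, hx⟩]

theorem ip_sum_left {H : Subgroup G} {ι : Type*} (s : Finset ι) (c : ι → ℂ) (F : ι → G → ℂ)
    (g : G → ℂ) : ip H (fun x => ∑ i ∈ s, c i * F i x) g = ∑ i ∈ s, c i * ip H (F i) g := by
  haveI := Fintype.ofFinite H
  simp only [ip_eq]
  rw [show (fun h : H => ∑ i ∈ s, c i * F i (h : G)) = ∑ i ∈ s, c i • fun h : H => F i h from
    funext fun h => by simp [Finset.sum_apply], classInner_sum_left]
  simp only [classInner_smul_left]

/-- Multiplicities along a chain of subgroups. -/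
theorem mu_trans {C C₁ : Subgroup G} (h : C ≤ C₁) {f ζ : G → ℂ} (hf : IsCharOn C₁ f)
    (hζ : IsIrrOn C ζ) : mu C f ζ = ∑ ξ ∈ irrOn C₁, mu C₁ f ξ * mu C ξ ζ := by
  have e : ip C f ζ = ((∑ ξ ∈ irrOn C₁, mu C₁ f ξ * mu C ξ ζ : ℕ) : ℂ) := by
    rw [ip_congr (f' := fun x => ∑ ξ ∈ irrOn C₁, (mu C₁ f ξ : ℂ) * ξ x)
      (fun x hx => hf.decomp (h hx)) (fun x _ => rfl), ip_sum_left]
    push_cast
    refine Finset.sum_congr rfl fun ξ hξ => ?_
    rw [ip_eq_mu ((mem_irrOn.1 hξ).isCharOn.mono h) hζ]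
  rw [ip_eq_mu (hf.mono h) hζ] at e
  exact_mod_cast e

/-- The degree. -/
def deg (f : G → ℂ) : ℕ := charDegree f

theorem IsCharOn.apply_one {H : Subgroup G} {f : G → ℂ} (hf : IsCharOn H f) : f 1 = deg f := by
  obtain ⟨d, hd⟩ := exists_degree_of_isCharacter hf
  have hd' : f 1 = d := hd
  simp [deg, charDegree, hd']

theorem IsIrrOn.deg_pos {H : Subgroup G} {f : G → ℂ} (hf : IsIrrOn H f) : 0 < deg f := by
  refine Nat.pos_of_ne_zero fun h0 => apply_one_ne_zero_of_isIrr hf.1 ?_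
  show f 1 = 0
  rw [hf.isCharOn.apply_one, h0, Nat.cast_zero]

theorem deg_eq_sum {H : Subgroup G} {f : G → ℂ} (hf : IsCharOn H f) :
    deg f = ∑ ξ ∈ irrOn H, mu H f ξ * deg ξ := by
  have e := hf.decomp H.one_mem
  rw [hf.apply_one, Finset.sum_congr rfl fun ξ hξ => by
    rw [(mem_irrOn.1 hξ).isCharOn.apply_one]] at e
  exact_mod_cast e

theorem exists_mu_ne_zero {H : Subgroup G} {f : G → ℂ} (hf : IsCharOn H f) (h : f 1 ≠ 0) :
    ∃ ξ, IsIrrOn H ξ ∧ mu H f ξ ≠ 0 := by
  by_contra hne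
  push Not at hne
  refine h ?_
  rw [hf.decomp H.one_mem, Finset.sum_eq_zero]
  intro ξ hξ
  rw [hne ξ (mem_irrOn.1 hξ), Nat.cast_zero, zero_mul]

/-! ### Conjugation -/

/-- Conjugation of functions. -/
def cj (g : G) (f : G → ℂ) : G → ℂ := fun x => f (g * x * g⁻¹)

theorem cj_apply (g : G) (f : G → ℂ) (x : G) : cj g f x = f (g * x * g⁻¹) := rfl

@[simp] theorem cj_one (f : G → ℂ) : cj 1 f = f := funext fun x => by simp [cj]

theorem cj_cj (a b : G) (f : G → ℂ) : cj a (cj b f) = cj (b * a) f :=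
  funext fun x => by simp [cj, mul_assoc]

theorem cj_injective (g : G) : Function.Injective (cj (G := G) g) := fun f f' h => by
  have := congrArg (cj g⁻¹) h
  simpa [cj_cj] using this

/-- The stabilizer of a function under conjugation. -/
def stab (f : G → ℂ) : Subgroup G where
  carrier := {g | cj g f = f}
  one_mem' := cj_one f
  mul_mem' := fun {a b} ha hb => by
    show cj (a * b) f = f
    rw [← cj_cj, show cj a f = f from ha]
    exact hb
  inv_mem' := fun {a} ha => by
    show cj a⁻¹ f = f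
    conv_lhs => rw [show f = cj a f from (show cj a f = f from ha).symm]
    rw [cj_cj, mul_inv_cancel, cj_one]

theorem mem_stab {f : G → ℂ} {g : G} : g ∈ stab f ↔ cj g f = f := Iff.rfl

theorem IsIrrOn.le_stab {H : Subgroup G} {f : G → ℂ} (hf : IsIrrOn H f) : H ≤ stab f :=
  fun _ hx => funext fun y => hf.classFun hx y

theorem mem_conj_iff {H : Subgroup G} {g : G} (hg : g ∈ Subgroup.normalizer (H : Set G)) (x : G) :
    g * x * g⁻¹ ∈ H ↔ x ∈ H :=
  (Subgroup.mem_normalizer_iff.1 hg x).symm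

/-- Conjugation by an element of the normalizer, as an automorphism. -/
def normConj (H : Subgroup G) (g : G) (hg : g ∈ Subgroup.normalizer (H : Set G)) : H ≃* H where
  toFun x := ⟨g * x * g⁻¹, (mem_conj_iff hg _).2 x.2⟩
  invFun x := ⟨g⁻¹ * x * g, (mem_conj_iff hg _).1 (by simp [mul_assoc])⟩
  left_inv x := Subtype.ext (by simp [mul_assoc])
  right_inv x := Subtype.ext (by simp [mul_assoc])
  map_mul' x y := Subtype.ext (by simp [mul_assoc])

theorem IsIrrOn.cj {H : Subgroup G} {f : G → ℂ} (hf : IsIrrOn H f) {g : G}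
    (hg : g ∈ Subgroup.normalizer (H : Set G)) : IsIrrOn H (cj g f) :=
  ⟨isIrrCharacter_comp_mulEquiv hf.1 (normConj H g hg),
    fun x hx => hf.2 _ fun h => hx ((mem_conj_iff hg x).1 h)⟩

theorem ip_cj {H : Subgroup G} {g : G} (hg : g ∈ Subgroup.normalizer (H : Set G))
    (f f' : G → ℂ) : ip H (cj g f) (cj g f') = ip H f f' := by
  haveI := Fintype.ofFinite H
  simp only [ip_eq]
  exact Clifford.classInner_comp_mulEquiv (normConj H g hg) (fun h : H => f h) (fun h : H => f' h)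

theorem mu_cj {H : Subgroup G} {g : G} (hg : g ∈ Subgroup.normalizer (H : Set G))
    (f f' : G → ℂ) : mu H (cj g f) (cj g f') = mu H f f' := by
  rw [mu, mu, ip_cj hg]

theorem mu_cj_of_fixed {H : Subgroup G} {g : G} (hg : g ∈ Subgroup.normalizer (H : Set G))
    {f : G → ℂ} (hf : g ∈ stab f) (f' : G → ℂ) : mu H f (cj g f') = mu H f f' := by
  conv_lhs => rw [← (mem_stab.1 hf)]
  rw [mu_cj hg]

theorem deg_cj (g : G) (f : G → ℂ) : deg (cj g f) = deg f := by
  simp [deg, charDegree, cj]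

/-! ### Summation modulo `p` over the fixed points -/

variable {p : ℕ} [hp : Fact p.Prime]

/-- A sum over a set permuted by a group of `p`-power image is congruent to the sum over the
fixed members. -/
theorem sum_fixed {Q : Subgroup G} (s : Finset (G → ℂ))
    (hs : ∀ q ∈ Q, ∀ f ∈ s, cj q f ∈ s)
    (hQ : ∀ q ∈ Q, ∃ a : ℕ, ∀ f ∈ s, q ^ (p ^ a) ∈ stab f)
    (F : (G → ℂ) → ℕ) (hF : ∀ q ∈ Q, ∀ f ∈ s, F (cj q f) = F f) :
    ((∑ f ∈ s, F f : ℕ) : ZMod p) = ∑ f ∈ s.filter (fun f => Q ≤ stab f), (F f : ZMod p) := by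
  let act : Q →* Equiv.Perm {f // f ∈ s} :=
    { toFun := fun q =>
        { toFun := fun f => ⟨cj (q : G)⁻¹ f.1, hs _ (inv_mem q.2) _ f.2⟩
          invFun := fun f => ⟨cj (q : G) f.1, hs _ q.2 _ f.2⟩
          left_inv := fun f => Subtype.ext (by simp [cj_cj])
          right_inv := fun f => Subtype.ext (by simp [cj_cj]) }
      map_one' := Equiv.ext fun f => Subtype.ext (by simp)
      map_mul' := fun a b => Equiv.ext fun f => Subtype.ext (by simp [cj_cj, mul_inv_rev]) }
  have hP : IsPGroup p act.range := by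
    rintro ⟨_, q, rfl⟩
    obtain ⟨a, ha⟩ := hQ q q.2
    refine ⟨a, Subtype.ext ?_⟩
    rw [Subgroup.coe_pow, Subgroup.coe_one, ← map_pow]
    refine Equiv.ext fun f => Subtype.ext ?_
    show cj ((q : G) ^ p ^ a)⁻¹ f.1 = f.1
    exact inv_mem (ha _ f.2)
  have hfix : ∀ f : {f // f ∈ s}, (∀ σ : act.range, (σ : Equiv.Perm _) f = f) ↔ Q ≤ stab f.1 := by
    intro f
    constructor
    · intro h q hq
      have h1 : cj (q⁻¹)⁻¹ f.1 = f.1 :=
        congrArg Subtype.val (h ⟨act ⟨q⁻¹, inv_mem hq⟩, _, rfl⟩)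
      rw [inv_inv] at h1
      exact h1
    · rintro h ⟨_, q, rfl⟩
      exact Subtype.ext (h (inv_mem q.2))
  rw [← Finset.sum_fiberwise_of_maps_to (g := F) (t := s.image F)
    (fun f hf => Finset.mem_image_of_mem F hf), Finset.sum_filter]
  rw [← Finset.sum_fiberwise_of_maps_to (g := F) (t := s.image F)
    (fun f hf => Finset.mem_image_of_mem F hf) (f := fun f => if Q ≤ stab f then (F f : ZMod p) else 0)]
  push_cast
  refine Finset.sum_congr rfl fun v _ => ?_
  rw [Finset.sum_congr rfl fun f hf => by rw [(Finset.mem_filter.1 hf).2],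
    Finset.sum_const, nsmul_eq_mul]
  rw [show (∑ f ∈ s with F f = v, if Q ≤ stab f then (F f : ZMod p) else 0) =
      ∑ f ∈ (s.filter fun f => F f = v).filter (fun f => Q ≤ stab f), (v : ZMod p) by
    rw [Finset.sum_filter (p := fun f => Q ≤ stab f)]
    refine Finset.sum_congr rfl fun f hf => ?_
    rw [(Finset.mem_filter.1 hf).2]]
  rw [Finset.sum_const, nsmul_eq_mul]
  congr 1
  -- fixed points of the fibre
  let X := {f : {f // f ∈ s} // F f.1 = v}
  letI : MulAction act.range X :=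
    { smul := fun σ x => ⟨(σ : Equiv.Perm _) x.1, by
        obtain ⟨q, hq⟩ := σ.2
        rw [← hq]
        exact (hF _ (inv_mem q.2) _ x.1.2).trans x.2⟩
      one_smul := fun x => Subtype.ext rfl
      mul_smul := fun σ τ x => Subtype.ext rfl }
  have h1 := hP.card_modEq_card_fixedPoints X
  have e1 : Nat.card X = (s.filter fun f => F f = v).card := by
    rw [← Nat.card_eq_finsetCard]
    exact Nat.card_congr
      { toFun := fun x => ⟨x.1.1, Finset.mem_filter.2 ⟨x.1.2, x.2⟩⟩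
        invFun := fun y => ⟨⟨y.1, (Finset.mem_filter.1 y.2).1⟩, (Finset.mem_filter.1 y.2).2⟩
        left_inv := fun x => rfl
        right_inv := fun y => rfl }
  have e2 : Nat.card (MulAction.fixedPoints act.range X) =
      ((s.filter fun f => F f = v).filter fun f => Q ≤ stab f).card := by
    rw [← Nat.card_eq_finsetCard]
    exact Nat.card_congr
      { toFun := fun x => ⟨x.1.1.1, Finset.mem_filter.2 ⟨Finset.mem_filter.2 ⟨x.1.1.2, x.1.2⟩,
          (hfix x.1.1).1 fun σ => congrArg Subtype.val (x.2 σ)⟩⟩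
        invFun := fun y => ⟨⟨⟨y.1, (Finset.mem_filter.1 (Finset.mem_filter.1 y.2).1).1⟩,
          (Finset.mem_filter.1 (Finset.mem_filter.1 y.2).1).2⟩,
          fun σ => Subtype.ext ((hfix _).2 (Finset.mem_filter.1 y.2).2 σ)⟩
        left_inv := fun x => rfl
        right_inv := fun y => rfl }
  rw [e1, e2] at h1
  exact (ZMod.natCast_eq_natCast_iff _ _ p).2 h1

/-- The fixed irreducible characters. -/
def fixedIrr (H Q : Subgroup G) : Finset (G → ℂ) := (irrOn H).filter fun f => Q ≤ stab f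

theorem mem_fixedIrr {H Q : Subgroup G} {f : G → ℂ} :
    f ∈ fixedIrr H Q ↔ IsIrrOn H f ∧ Q ≤ stab f := by
  rw [fixedIrr, Finset.mem_filter, mem_irrOn]

/-- Multiplicities along a chain, modulo `p`, only through the fixed characters. -/
theorem mu_trans_fixed {C C₁ Q : Subgroup G} (h : C ≤ C₁) {f ζ : G → ℂ} (hf : IsCharOn C₁ f)
    (hζ : IsIrrOn C ζ) (hQC : Q ≤ Subgroup.normalizer (C : Set G))
    (hQC₁ : Q ≤ Subgroup.normalizer (C₁ : Set G)) (hfQ : Q ≤ stab f) (hζQ : Q ≤ stab ζ)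
    (hQ : ∀ q ∈ Q, ∃ a : ℕ, q ^ (p ^ a) ∈ C₁) :
    (mu C f ζ : ZMod p) = ∑ ξ ∈ fixedIrr C₁ Q, (mu C₁ f ξ : ZMod p) * (mu C ξ ζ : ZMod p) := by
  rw [mu_trans h hf hζ, sum_fixed (Q := Q) (irrOn C₁)
    (fun q hq ξ hξ => mem_irrOn.2 ((mem_irrOn.1 hξ).cj (hQC₁ hq)))
    (fun q hq => (hQ q hq).imp fun a ha ξ hξ => (mem_irrOn.1 hξ).le_stab ha)
    (fun ξ => mu C₁ f ξ * mu C ξ ζ)]
  · simp only [Nat.cast_mul]
    rfl
  · intro q hq ξ _
    show mu C₁ f (cj q ξ) * mu C (cj q ξ) ζ = _
    rw [mu_cj_of_fixed (hQC₁ hq) (hfQ hq)]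
    congr 1
    conv_lhs => rw [← mem_stab.1 (hζQ hq)]
    rw [mu_cj (hQC hq)]

end

end CfsgLib.RelMcKay
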