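import Mathlib
import Cfsg.Agent.Lib.RelMcKay.Basic

/-!
# The coset of a `p`-element acting coprimely modulo a normal subgroup

If `C` is the fixed subgroup of `q` on `K` modulo `L` and `z` generates the same action, every element
of the coset `K z` is conjugate under `K` to an element of `C z`, with fibres of constant size.
-/

set_option autoImplicit false
set_option linter.style.haveILetI false
set_option linter.unusedSectionVars false

open scoped ComplexConjugate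

namespace CfsgLib.RelMcKay

noncomputable section

open scoped Classical

variable {G : Type*} [Group G] [Finite G] {p : ℕ} [hp : Fact p.Prime]

/-- A `p`-element acting on `K ⧸ L`, of order prime to `p`, with fixed subgroup `C ⧸ L`. -/
structure Cyc (p : ℕ) (L K C : Subgroup G) (q : G) : Prop where
  le : L ≤ K
  K_norm : K ≤ Subgroup.normalizer (L : Set G)
  q_norm_L : q ∈ Subgroup.normalizer (L : Set G)
  q_norm_K : q ∈ Subgroup.normalizer (K : Set G)
  not_dvd : ¬ p ∣ L.relIndex K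
  order : ∃ a : ℕ, q ^ p ^ a = 1
  mem_iff : ∀ k, k ∈ C ↔ k ∈ K ∧ k * q * k⁻¹ * q⁻¹ ∈ L

/-- Equality modulo `L` inside its normalizer, as equality in the quotient. -/
theorem mk_eq_mk_iff (L : Subgroup G) (a b : Subgroup.normalizer (L : Set G)) :
    (a : Subgroup.normalizer (L : Set G) ⧸ L.subgroupOf (Subgroup.normalizer (L : Set G))) = b ↔
      (a : G) * (b : G)⁻¹ ∈ L := by
  rw [← mul_inv_eq_one, ← QuotientGroup.mk_inv, ← QuotientGroup.mk_mul, QuotientGroup.eq_one_iff,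
    Subgroup.mem_subgroupOf]
  rfl

namespace Cyc

variable {L K C : Subgroup G} {q : G} (h : Cyc p L K C q)
include h

theorem C_le : C ≤ K := fun _ hk => ((h.mem_iff _).1 hk).1

theorem L_le : L ≤ C := fun l hl => (h.mem_iff l).2 ⟨h.le hl, by
  rw [mul_assoc, mul_assoc, ← mul_assoc q l⁻¹ q⁻¹]
  exact mul_mem hl ((mem_conj_iff h.q_norm_L _).2 (inv_mem hl))⟩

theorem C_norm : C ≤ Subgroup.normalizer (L : Set G) := fun _ hk => h.K_norm (h.C_le hk)

theorem q_norm_C : q ∈ Subgroup.normalizer (C : Set G) := by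
  refine Subgroup.mem_normalizer_iff.2 fun x => ?_
  rw [h.mem_iff, h.mem_iff, mem_conj_iff h.q_norm_K]
  refine and_congr_right fun _ => ?_
  rw [show q * x * q⁻¹ * q * (q * x * q⁻¹)⁻¹ * q⁻¹ = q * (x * q * x⁻¹ * q⁻¹) * q⁻¹ by group]
  exact (mem_conj_iff h.q_norm_L _).symm

theorem not_dvd_C : ¬ p ∣ L.relIndex C := fun hd => h.not_dvd
  (hd.trans (Dvd.intro (C.relIndex K) (Subgroup.relIndex_mul_relIndex L C K h.L_le h.C_le)))

theorem zpowers_le_normalizer_L : Subgroup.zpowers q ≤ Subgroup.normalizer (L : Set G) :=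
  Subgroup.zpowers_le.2 h.q_norm_L

theorem zpowers_le_normalizer_K : Subgroup.zpowers q ≤ Subgroup.normalizer (K : Set G) :=
  Subgroup.zpowers_le.2 h.q_norm_K

theorem zpowers_le_normalizer_C : Subgroup.zpowers q ≤ Subgroup.normalizer (C : Set G) :=
  Subgroup.zpowers_le.2 h.q_norm_C

omit hp in
theorem zpowers_eq_of_mem {z : G} (hz : z ∈ Subgroup.zpowers q)
    (hgen : ∀ a : ℕ, z ≠ q ^ (p * a)) [Fact p.Prime] : q ∈ Subgroup.zpowers z := by
  obtain ⟨n, rfl⟩ := mem_powers_iff_mem_zpowers.2 hz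
  obtain ⟨a, ha⟩ := h.order
  have hn : ¬ p ∣ n := fun ⟨m, hm⟩ => hgen m (by rw [← hm])
  have hc : Nat.Coprime n (p ^ a) :=
    (((Fact.out : p.Prime).coprime_iff_not_dvd.2 hn).symm).pow_right a
  obtain ⟨m, hm⟩ : ∃ m : ℤ, (q ^ n) ^ m = q := by
    refine ⟨Nat.gcdA n (p ^ a), ?_⟩
    have := Nat.gcd_eq_gcd_ab n (p ^ a)
    rw [hc, Nat.cast_one] at this
    rw [← zpow_natCast, ← zpow_mul]
    conv_rhs => rw [← zpow_one q, this, zpow_add, zpow_mul q ((p ^ a : ℕ) : ℤ), zpow_natCast, ha,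
      one_zpow, mul_one]
  exact ⟨m, hm⟩

/-- An element conjugating two members of the coset `C z` fixes `q` modulo `L`. -/
theorem mem_of_conj {z : G} (hz : z ∈ Subgroup.zpowers q) (hqz : q ∈ Subgroup.zpowers z)
    {e c c' : G} (he : e ∈ K) (hc : c ∈ C) (hc' : c' ∈ C)
    (heq : e * (c' * z) * e⁻¹ = c * z) : e ∈ C := by
  obtain ⟨a, ha⟩ := h.order
  set r := L.relIndex C with hr
  have hrp : Nat.Coprime r (p ^ a) :=
    ((hp.out.coprime_iff_not_dvd.2 h.not_dvd_C).symm).pow_right a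
  obtain ⟨m, hm1, hm0⟩ := Nat.chineseRemainder hrp 0 1
  set N := Subgroup.normalizer (L : Set G)
  haveI : (L.subgroupOf N).Normal := Subgroup.normal_in_normalizer
  have hqN : q ∈ N := h.q_norm_L
  have hzN : z ∈ N := h.zpowers_le_normalizer_L hz
  have hzp : z ^ p ^ a = 1 := by
    obtain ⟨k, rfl⟩ := Subgroup.mem_zpowers_iff.1 hz
    rw [← zpow_natCast, ← zpow_mul, mul_comm, zpow_mul, zpow_natCast, ha, one_zpow]
  let π := QuotientGroup.mk' (L.subgroupOf N)
  have hpow : ∀ d (hd : d ∈ C), π (⟨d, h.C_norm hd⟩ * ⟨z, hzN⟩) ^ m = π ⟨z, hzN⟩ := by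
    intro d hd
    have hcomm : Commute (π ⟨d, h.C_norm hd⟩) (π ⟨z, hzN⟩) := by
      have h1 : Commute (π ⟨d, h.C_norm hd⟩) (π ⟨q, hqN⟩) := by
        show π ⟨d, h.C_norm hd⟩ * π ⟨q, hqN⟩ = π ⟨q, hqN⟩ * π ⟨d, h.C_norm hd⟩
        rw [← map_mul, ← map_mul]
        refine (mk_eq_mk_iff L _ _).2 ?_
        simpa [mul_assoc] using ((h.mem_iff d).1 hd).2
      obtain ⟨k, hk⟩ := Subgroup.mem_zpowers_iff.1 hz
      rw [show (⟨z, hzN⟩ : N) = ⟨q, hqN⟩ ^ k from Subtype.ext (by simp [hk]), map_zpow]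
      exact h1.zpow_right k
    rw [map_mul, hcomm.mul_pow]
    have e1 : π ⟨d, h.C_norm hd⟩ ^ m = 1 := by
      obtain ⟨k, rfl⟩ := (Nat.modEq_zero_iff_dvd.1 hm1)
      rw [pow_mul]
      have : π ⟨d, h.C_norm hd⟩ ^ r = 1 := by
        rw [← map_pow]
        refine (QuotientGroup.eq_one_iff _).2 ?_
        rw [Subgroup.mem_subgroupOf]
        haveI : (L.subgroupOf C).Normal :=
          Subgroup.normal_subgroupOf_iff_le_normalizer h.L_le |>.2 h.C_norm
        exact Subgroup.mem_subgroupOf.1 ((L.subgroupOf C).pow_index_mem ⟨d, hd⟩)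
      rw [this, one_pow]
    have e2 : π ⟨z, hzN⟩ ^ m = π ⟨z, hzN⟩ := by
      rw [← map_pow]
      refine congrArg π (Subtype.ext ?_)
      rw [Subgroup.coe_pow]
      show z ^ m = z
      conv_rhs => rw [← pow_one z]
      exact pow_eq_pow_iff_modEq.2 (Nat.ModEq.of_dvd (orderOf_dvd_of_pow_eq_one hzp) hm0)
    rw [e1, e2, one_mul]
  have h2 : π ⟨e, h.K_norm he⟩ * π ⟨z, hzN⟩ * (π ⟨e, h.K_norm he⟩)⁻¹ = π ⟨z, hzN⟩ := by
    conv_lhs => rw [← hpow c' hc']
    rw [← conj_pow, ← map_inv, ← map_mul, ← map_mul]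
    conv_rhs => rw [← hpow c hc]
    congr 2
    exact Subtype.ext heq
  obtain ⟨k, hk⟩ := Subgroup.mem_zpowers_iff.1 hqz
  have h3 : Commute (π ⟨e, h.K_norm he⟩) (π ⟨q, hqN⟩) := by
    rw [show (⟨q, hqN⟩ : N) = ⟨z, hzN⟩ ^ k from Subtype.ext (by simp [hk]), map_zpow]
    exact Commute.zpow_right (mul_inv_eq_iff_eq_mul.1 h2) k
  refine (h.mem_iff e).2 ⟨he, ?_⟩
  have h4 := (mk_eq_mk_iff L (⟨e, h.K_norm he⟩ * ⟨q, hqN⟩) (⟨q, hqN⟩ * ⟨e, h.K_norm he⟩)).1
    (by rw [QuotientGroup.mk_mul, QuotientGroup.mk_mul]; exact h3)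
  simpa [mul_assoc] using h4

/-- Sums of conjugation-invariant functions over `K z` reduce to `C z`. -/
theorem card_mul_sum_coset {z : G} (hz : z ∈ Subgroup.zpowers q)
    (hqz : q ∈ Subgroup.zpowers z) [Fintype K] [Fintype C] (F : G → ℂ)
    (hF : ∀ k ∈ K, ∀ c ∈ C, F (k * (c * z) * k⁻¹) = F (c * z)) :
    (Nat.card C : ℂ) * ∑ k : K, F ((k : G) * z) =
      (Nat.card K : ℂ) * ∑ c : C, F ((c : G) * z) := by
  have hzK : z ∈ Subgroup.normalizer (K : Set G) := h.zpowers_le_normalizer_K hz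
  have hmem : ∀ x : K × C, (x.1 : G) * ((x.2 : G) * z) * (x.1 : G)⁻¹ * z⁻¹ ∈ K := by
    intro x
    have h1 : z * (x.1 : G)⁻¹ * z⁻¹ ∈ K := (mem_conj_iff hzK _).2 (inv_mem x.1.2)
    have := mul_mem (mul_mem x.1.2 (h.C_le x.2.2)) h1
    simpa [mul_assoc] using this
  let Φ : K × C → K := fun x => ⟨_, hmem x⟩
  have hfib : ∀ y : K, (Finset.univ.filter fun x => Φ x = y).card ≤ Nat.card C := by
    intro y
    rcases (Finset.univ.filter fun x => Φ x = y).eq_empty_or_nonempty with he | ⟨x₀, hx₀⟩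
    · simp [he]
    have hd : ∀ x ∈ Finset.univ.filter (fun x => Φ x = y), (x.1 : G)⁻¹ * (x₀.1 : G) ∈ C := by
      intro x hx
      have e := congrArg Subtype.val ((Finset.mem_filter.1 hx₀).2.trans (Finset.mem_filter.1 hx).2.symm)
      simp only [Φ] at e
      have e' := mul_right_cancel e
      refine h.mem_of_conj hz hqz (mul_mem (inv_mem x.1.2) x₀.1.2) x.2.2 x₀.2.2 ?_
      calc (x.1 : G)⁻¹ * x₀.1 * ((x₀.2 : G) * z) * ((x.1 : G)⁻¹ * x₀.1)⁻¹
          = (x.1 : G)⁻¹ * ((x₀.1 : G) * ((x₀.2 : G) * z) * (x₀.1 : G)⁻¹) * x.1 := by group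
        _ = (x.1 : G)⁻¹ * ((x.1 : G) * ((x.2 : G) * z) * (x.1 : G)⁻¹) * x.1 := by rw [e']
        _ = _ := by group
    refine (Finset.card_le_card_of_injOn
      (fun x => if hx : (x.1 : G)⁻¹ * x₀.1 ∈ C then (⟨_, hx⟩ : C) else 1)
      (t := Finset.univ) (fun x _ => Finset.mem_univ _) ?_).trans
      (Nat.card_eq_fintype_card (α := C)).ge
    intro x hx x' hx' he
    have hxd := hd x hx
    have hxd' := hd x' hx'
    simp only [dif_pos hxd, dif_pos hxd'] at he
    have e1 : x.1 = x'.1 := Subtype.ext (inv_injective (mul_right_cancel (congrArg Subtype.val he)))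
    have e := congrArg Subtype.val ((Finset.mem_filter.1 hx).2.trans (Finset.mem_filter.1 hx').2.symm)
    simp only [Φ, e1] at e
    exact Prod.ext e1 (Subtype.ext (mul_right_cancel
      (mul_left_cancel (mul_right_cancel (mul_right_cancel e)))))
  have htot : ∑ y : K, (Finset.univ.filter fun x => Φ x = y).card = ∑ _y : K, Nat.card C := by
    rw [← Finset.card_eq_sum_card_fiberwise fun x _ => Finset.mem_univ (Φ x), Finset.card_univ,
      Fintype.card_prod, Finset.sum_const, Finset.card_univ, smul_eq_mul,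
      ← Nat.card_eq_fintype_card (α := C)]
  have heq := (Finset.sum_eq_sum_iff_of_le fun y _ => hfib y).1 htot
  calc (Nat.card C : ℂ) * ∑ k : K, F ((k : G) * z)
      = ∑ y : K, ∑ x ∈ Finset.univ.filter (fun x => Φ x = y), F ((y : G) * z) := by
        rw [Finset.mul_sum]
        refine Finset.sum_congr rfl fun y hy => ?_
        rw [Finset.sum_const, heq y hy, nsmul_eq_mul]
    _ = ∑ y : K, ∑ x ∈ Finset.univ.filter (fun x => Φ x = y), F ((x.2 : G) * z) := by
        refine Finset.sum_congr rfl fun y _ => Finset.sum_congr rfl fun x hx => ?_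
        rw [← (Finset.mem_filter.1 hx).2]
        show F ((x.1 : G) * ((x.2 : G) * z) * (x.1 : G)⁻¹ * z⁻¹ * z) = _
        rw [inv_mul_cancel_right]
        exact hF _ x.1.2 _ x.2.2
    _ = ∑ x : K × C, F ((x.2 : G) * z) := Finset.sum_fiberwise _ _ _
    _ = _ := by
        rw [Fintype.sum_prod_type]
        simp [← Nat.card_eq_fintype_card, Finset.mul_sum]

end Cyc

end

end CfsgLib.RelMcKay
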