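import Mathlib
import Cfsg.Agent.Lib.RelMcKay.Coset
import Cfsg.Agent.Lib.Jordan.RelGlauberman
import Cfsg.Agent.Lib.CharTheory.Ito

/-!
# A cyclic `p`-extension: averages, extensions and the linear character of order `p`
-/

set_option autoImplicit false
set_option linter.style.haveILetI false
set_option linter.unusedSectionVars false

open scoped ComplexConjugate Pointwise
open Cfsg CfsgLib.CharTheory

namespace CfsgLib.RelMcKay

noncomputable section

open scoped Classical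

variable {G : Type*} [Group G] [Finite G] {p : ℕ} [hp : Fact p.Prime]

/-- The average over a subgroup. -/
def avg (H : Subgroup G) (F : G → ℂ) : ℂ :=
  letI := Fintype.ofFinite H
  (Nat.card H : ℂ)⁻¹ * ∑ h : H, F h

theorem avg_eq (H : Subgroup G) [Fintype H] (F : G → ℂ) :
    avg H F = (Nat.card H : ℂ)⁻¹ * ∑ h : H, F h := by
  rw [avg, Subsingleton.elim (Fintype.ofFinite H) ‹_›]

theorem ip_eq_avg (H : Subgroup G) (f g : G → ℂ) : ip H f g = avg H (fun x => f x * conj (g x)) := by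
  haveI := Fintype.ofFinite H
  rw [ip_eq, avg_eq, classInner]

theorem avg_const (H : Subgroup G) (c : ℂ) : avg H (fun _ => c) = c := by
  haveI := Fintype.ofFinite H
  rw [avg_eq, Finset.sum_const, Finset.card_univ, ← Nat.card_eq_fintype_card, nsmul_eq_mul,
    ← mul_assoc, inv_mul_cancel₀ (Nat.cast_ne_zero.2 Nat.card_pos.ne'), one_mul]

theorem avg_congr {H : Subgroup G} {F F' : G → ℂ} (h : ∀ x ∈ H, F x = F' x) :
    avg H F = avg H F' := by
  haveI := Fintype.ofFinite H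
  rw [avg_eq, avg_eq]
  exact congrArg _ (Finset.sum_congr rfl fun x _ => h x x.2)

theorem avg_sum {ι : Type*} (s : Finset ι) (H : Subgroup G) (F : ι → G → ℂ) :
    avg H (fun x => ∑ i ∈ s, F i x) = ∑ i ∈ s, avg H (F i) := by
  haveI := Fintype.ofFinite H
  simp only [avg_eq, ← Finset.mul_sum]
  rw [Finset.sum_comm]

theorem avg_sub (H : Subgroup G) (F F' : G → ℂ) :
    avg H (fun x => F x - F' x) = avg H F - avg H F' := by
  haveI := Fintype.ofFinite H
  simp only [avg_eq, Finset.sum_sub_distrib, mul_sub]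

theorem avg_const_mul (H : Subgroup G) (c : ℂ) (F : G → ℂ) :
    avg H (fun x => c * F x) = c * avg H F := by
  haveI := Fintype.ofFinite H
  simp only [avg_eq, ← Finset.mul_sum]
  ring

/-- An average over `K ⊔ Z` is an iterated average. -/
theorem avg_sup {K Z : Subgroup G} (hZ : Z ≤ Subgroup.normalizer (K : Set G)) [Fintype Z]
    (F : G → ℂ) :
    avg (K ⊔ Z) F = (Nat.card Z : ℂ)⁻¹ * ∑ z : Z, avg K (fun k => F (k * z)) := by
  haveI := Fintype.ofFinite K
  haveI := Fintype.ofFinite (K ⊔ Z : Subgroup G)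
  have hset := Subgroup.coe_mul_of_right_le_normalizer_left K Z hZ
  set Γ := K ⊔ Z
  have key : (Nat.card K : ℂ) * Nat.card Z * ∑ x : Γ, F x =
      (Nat.card Γ : ℂ) * ∑ z : Z, ∑ k : K, F ((k : G) * z) := by
    have h1 : ∀ x : Γ, ∑ z : Z, ∑ k : K, F ((k : G) * x * z) = ∑ z : Z, ∑ k : K, F ((k : G) * z) := by
      intro x
      have hx : (x : G) ∈ (K : Set G) * (Z : Set G) := by
        rw [← hset]
        exact x.2
      obtain ⟨k₀, hk₀, z₀, hz₀, e⟩ := hx
      refine Fintype.sum_equiv (Equiv.mulLeft (⟨z₀, hz₀⟩ : Z)) _ _ fun z => ?_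
      refine Fintype.sum_equiv (Equiv.mulRight (⟨k₀, hk₀⟩ : K)) _ _ fun k => ?_
      simp [← e, mul_assoc]
    have h2 : ∀ (k : K) (z : Z), ∑ x : Γ, F ((k : G) * x * z) = ∑ x : Γ, F x := fun k z =>
      Fintype.sum_equiv ((Equiv.mulLeft (⟨k, le_sup_left (b := Z) k.2⟩ : Γ)).trans
        (Equiv.mulRight (⟨z, le_sup_right (a := K) z.2⟩ : Γ))) _ _ fun x => rfl
    calc (Nat.card K : ℂ) * Nat.card Z * ∑ x : Γ, F x
        = ∑ z : Z, ∑ k : K, ∑ x : Γ, F ((k : G) * x * z) := by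
          simp only [h2, Finset.sum_const, Finset.card_univ, ← Nat.card_eq_fintype_card, nsmul_eq_mul]
          ring
      _ = ∑ x : Γ, ∑ z : Z, ∑ k : K, F ((k : G) * x * z) := by
          rw [Finset.sum_congr rfl fun z _ => Finset.sum_comm]
          rw [Finset.sum_comm]
      _ = _ := by simp only [h1, Finset.sum_const, Finset.card_univ, ← Nat.card_eq_fintype_card,
          nsmul_eq_mul]
  have hK : (Nat.card K : ℂ) ≠ 0 := Nat.cast_ne_zero.2 Nat.card_pos.ne'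
  have hZ0 : (Nat.card Z : ℂ) ≠ 0 := Nat.cast_ne_zero.2 Nat.card_pos.ne'
  have hΓ : (Nat.card Γ : ℂ) ≠ 0 := Nat.cast_ne_zero.2 Nat.card_pos.ne'
  simp only [avg_eq, ← Finset.mul_sum]
  field_simp
  linear_combination key

/-- Two characters restricting irreducibly to a normal subgroup: the product averaged over a coset. -/
theorem avg_coset_mul_conj {K H : Subgroup G} (hKH : K ≤ H)
    (hn : H ≤ Subgroup.normalizer (K : Set G)) {θ θ' f f' : G → ℂ}
    (hθ : IsIrrOn K θ) (hθ' : IsIrrOn K θ') (hf : IsIrrOn H f) (hf' : IsIrrOn H f')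
    (hfθ : ∀ x ∈ K, f x = θ x) (hf'θ : ∀ x ∈ K, f' x = θ' x) {z : G} (hz : z ∈ H)
    (hsame : θ = θ' → f = f') :
    avg K (fun k => f (k * z) * conj (f' (k * z))) = if θ = θ' then 1 else 0 := by
  haveI := Fintype.ofFinite K
  haveI := Fintype.ofFinite H
  haveI : (K.subgroupOf H).Normal := (Subgroup.normal_subgroupOf_iff_le_normalizer hKH).2 hn
  haveI := Fintype.ofFinite (K.subgroupOf H)
  let e : K.subgroupOf H ≃* K := Subgroup.subgroupOfEquivOfLe hKH
  let F : H → ℂ := fun x => f x * conj (f' x)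
  have hF : IsCharacter H F := isCharacter_mul hf.isCharOn (isCharacter_conj hf'.isCharOn)
  have havg : ∀ x : H, Clifford.cosetAvg (K.subgroupOf H) F x =
      avg K (fun k => f (k * x) * conj (f' (k * x))) := by
    intro x
    rw [Clifford.cosetAvg, avg_eq, Nat.card_congr e.toEquiv]
    congr 1
    exact Fintype.sum_equiv e.toEquiv _ _ fun k => rfl
  rw [← havg ⟨z, hz⟩]
  split_ifs with h
  · obtain rfl := hsame h
    have hres : IsIrrCharacter (K.subgroupOf H) (fun n : K.subgroupOf H => f ((n : H) : G)) := by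
      rw [show (fun n : K.subgroupOf H => f ((n : H) : G)) = fun n => (fun k : K => θ k) (e n) from
        funext fun n => hfθ _ n.2]
      exact isIrrCharacter_comp_mulEquiv hθ.1 e
    exact congrFun (Clifford.cosetAvg_mul_conj_self (N := K.subgroupOf H) hf.1 hres) _
  · have h0 : Clifford.cosetAvg (K.subgroupOf H) F 1 = 0 := by
      rw [havg, show ((1 : H) : G) = 1 from rfl]
      rw [avg_congr (F' := fun k => θ k * conj (θ' k)) (fun k hk => by rw [mul_one, hfθ k hk, hf'θ k hk]),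
        ← ip_eq_avg, ip_eq_zero hθ hθ' h]
    rw [Clifford.eq_zero_of_isCharacter_apply_one (Clifford.isCharacter_cosetAvg _ hF) h0,
      Pi.zero_apply]

/-- A quotient by a normal subgroup with a generator. -/
theorem isCyclic_quotient_of_sup {K Z : Subgroup G} [IsCyclic Z]
    [(K.subgroupOf (K ⊔ Z)).Normal] : IsCyclic ((K ⊔ Z : Subgroup G) ⧸ K.subgroupOf (K ⊔ Z)) := by
  refine isCyclic_of_surjective ((QuotientGroup.mk' _).comp (Subgroup.inclusion le_sup_right)) ?_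
  intro x
  obtain ⟨⟨y, hy⟩, rfl⟩ := QuotientGroup.mk_surjective x
  have hy' : y ∈ K ⊔ Z := hy
  haveI hn : (K.subgroupOf (K ⊔ Z)).Normal := inferInstance
  have hZ : Z ≤ Subgroup.normalizer (K : Set G) :=
    le_sup_right.trans ((Subgroup.normal_subgroupOf_iff_le_normalizer le_sup_left).1 hn)
  rw [← SetLike.mem_coe, Subgroup.coe_mul_of_right_le_normalizer_left K Z hZ] at hy'
  obtain ⟨k, hk, z, hz, e⟩ := hy'
  refine ⟨⟨z, hz⟩, ?_⟩
  refine QuotientGroup.eq.2 ?_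
  rw [Subgroup.mem_subgroupOf]
  show z⁻¹ * y ∈ K
  rw [← e]
  show z⁻¹ * (k * z) ∈ K
  rw [← mul_assoc]
  simpa using (mem_conj_iff (inv_mem (hZ hz)) k).2 hk

/-- An invariant character extends over a cyclic quotient. -/
theorem exists_ext_cyclic {K Z : Subgroup G} [IsCyclic Z]
    (hZ : Z ≤ Subgroup.normalizer (K : Set G)) {θ : G → ℂ} (hθ : IsIrrOn K θ) (hs : Z ≤ stab θ) :
    ∃ f, IsIrrOn (K ⊔ Z) f ∧ ∀ x ∈ K, f x = θ x := by
  haveI : (K.subgroupOf (K ⊔ Z)).Normal := (Subgroup.normal_subgroupOf_iff_le_normalizer le_sup_left).2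
    (sup_le Subgroup.le_normalizer hZ)
  let e : K.subgroupOf (K ⊔ Z) ≃* K := Subgroup.subgroupOfEquivOfLe le_sup_left
  obtain ⟨χ, hχ, hχθ⟩ := RealChar.exists_extension_character_of_cyclic (K.subgroupOf (K ⊔ Z))
    isCyclic_quotient_of_sup _ (isIrrCharacter_comp_mulEquiv hθ.1 e) (fun g n => by
      have h1 : (g : G) ∈ stab θ := sup_le hθ.le_stab hs g.2
      refine Eq.trans ?_ (congrFun (mem_stab.1 h1) ((e n : K) : G))
      exact congrArg θ (by simp [e, Subgroup.subgroupOfEquivOfLe, MulAut.conjNormal_apply]))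
  exact ⟨_, isIrrOn_extend hχ, fun x hx =>
    (Frobenius.extendByZero_of_mem _ _ (le_sup_left (b := Z) hx)).trans
      (hχθ ⟨⟨x, le_sup_left (b := Z) hx⟩, hx⟩)⟩

/-- Over an invariant character and a cyclic quotient, irreducible characters restrict to it. -/
theorem res_eq_of_over {K Z : Subgroup G} [IsCyclic Z]
    (hZ : Z ≤ Subgroup.normalizer (K : Set G)) {θ f : G → ℂ} (hθ : IsIrrOn K θ) (hs : Z ≤ stab θ)
    (hf : IsIrrOn (K ⊔ Z) f) (hmu : mu K f θ ≠ 0) : ∀ x ∈ K, f x = θ x := by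
  haveI hn : (K.subgroupOf (K ⊔ Z)).Normal := (Subgroup.normal_subgroupOf_iff_le_normalizer le_sup_left).2
    (sup_le Subgroup.le_normalizer hZ)
  haveI := Fintype.ofFinite (K ⊔ Z : Subgroup G)
  haveI := Fintype.ofFinite (K.subgroupOf (K ⊔ Z))
  haveI := Fintype.ofFinite K
  obtain ⟨f₀, hf₀, hf₀θ⟩ := exists_ext_cyclic hZ hθ hs
  let e : K.subgroupOf (K ⊔ Z) ≃* K := Subgroup.subgroupOfEquivOfLe le_sup_left
  have hres : (fun n : K.subgroupOf (K ⊔ Z) => f₀ ((n : (K ⊔ Z : Subgroup G)) : G)) =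
      fun n => (fun k : K => θ k) (e n) := funext fun n => hf₀θ _ n.2
  obtain ⟨a, ha⟩ := Jordan.exists_twist (K.subgroupOf (K ⊔ Z)) hf₀.1
    (hres ▸ isIrrCharacter_comp_mulEquiv hθ.1 e) hf.1 (by
      rw [hres]
      have h1 : ip K f θ ≠ 0 := by
        rw [ip_eq_mu (hf.isCharOn.mono le_sup_left) hθ]
        exact_mod_cast hmu
      rw [ip_eq, ← Clifford.classInner_comp_mulEquiv e] at h1
      exact h1)
  haveI := isCyclic_quotient_of_sup (K := K) (Z := Z)
  letI := IsCyclic.commGroup (α := (K ⊔ Z : Subgroup G) ⧸ K.subgroupOf (K ⊔ Z))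
  have ha1 := apply_one_eq_one_of_comm mul_comm a.2
  intro x hx
  have h2 := congrFun ha ⟨x, le_sup_left (b := Z) hx⟩
  rw [show ((⟨x, le_sup_left (b := Z) hx⟩ : (K ⊔ Z : Subgroup G)) :
      (K ⊔ Z : Subgroup G) ⧸ K.subgroupOf (K ⊔ Z)) = 1 from (QuotientGroup.eq_one_iff _).2 hx, ha1,
    one_mul] at h2
  exact h2.trans (hf₀θ x hx)

namespace Cyc

variable {L K C : Subgroup G} {q : G} (h : Cyc p L K C q)
include h

theorem not_mem_K (hne : C ≠ K) : q ∉ K := by
  intro hqK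
  obtain ⟨a, ha⟩ := h.order
  have hq : q ∈ L := by
    haveI : (L.subgroupOf K).Normal :=
      (Subgroup.normal_subgroupOf_iff_le_normalizer h.le).2 h.K_norm
    have h1 : q ^ L.relIndex K ∈ L :=
      Subgroup.mem_subgroupOf.1 ((L.subgroupOf K).pow_index_mem ⟨q, hqK⟩)
    have hc : Nat.Coprime (p ^ a) (L.relIndex K) :=
      (hp.out.coprime_iff_not_dvd.2 h.not_dvd).pow_left a
    have hb := Nat.gcd_eq_gcd_ab (p ^ a) (L.relIndex K)
    rw [hc, Nat.cast_one] at hb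
    rw [← zpow_one q, hb, zpow_add, zpow_mul, zpow_natCast, ha, one_zpow, one_mul, zpow_mul,
      zpow_natCast]
    exact zpow_mem h1 _
  refine hne (le_antisymm h.C_le fun k hk => (h.mem_iff k).2 ⟨hk, ?_⟩)
  exact mul_mem ((mem_conj_iff (h.K_norm hk) q).2 hq) (inv_mem hq)

/-- A character of `K⟨q⟩` trivial on `K` of order `p`. -/
theorem exists_lam (hne : C ≠ K) : ∃ lam : G → ℂ,
    (∀ x ∈ K ⊔ Subgroup.zpowers q, ∀ y ∈ K ⊔ Subgroup.zpowers q, lam (x * y) = lam x * lam y) ∧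
      (∀ x ∈ K, lam x = 1) ∧
      (∀ x ∈ K ⊔ Subgroup.zpowers q, lam x ^ p = 1) ∧ lam q ≠ 1 := by
  set Γ := K ⊔ Subgroup.zpowers q
  haveI : (K.subgroupOf Γ).Normal := (Subgroup.normal_subgroupOf_iff_le_normalizer le_sup_left).2
    (sup_le Subgroup.le_normalizer h.zpowers_le_normalizer_K)
  haveI : IsCyclic (Γ ⧸ K.subgroupOf Γ) := isCyclic_quotient_of_sup
  letI := IsCyclic.commGroup (α := Γ ⧸ K.subgroupOf Γ)
  have hqΓ : q ∈ Γ := le_sup_right (a := K) (Subgroup.mem_zpowers q)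
  have hne1 : ((⟨q, hqΓ⟩ : Γ) : Γ ⧸ K.subgroupOf Γ) ≠ 1 := fun e =>
    h.not_mem_K hne (Subgroup.mem_subgroupOf.1 ((QuotientGroup.eq_one_iff _).1 e))
  obtain ⟨g, hg⟩ := CommGroup.exists_apply_ne_one_of_hasEnoughRootsOfUnity (Γ ⧸ K.subgroupOf Γ) ℂ hne1
  obtain ⟨a, ha⟩ := h.order
  set u := g ((⟨q, hqΓ⟩ : Γ) : Γ ⧸ K.subgroupOf Γ) with hu
  have hua : u ^ p ^ a = 1 := by
    rw [hu, ← map_pow, ← QuotientGroup.mk_pow,
      show (⟨q, hqΓ⟩ : Γ) ^ p ^ a = 1 from Subtype.ext (by simp [ha]), QuotientGroup.mk_one, map_one]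
  obtain ⟨i, hi, hio⟩ := (Nat.dvd_prime_pow hp.out).1 (orderOf_dvd_of_pow_eq_one hua)
  obtain ⟨j, rfl⟩ : ∃ j, i = j + 1 := by
    rcases Nat.eq_zero_or_eq_succ_pred i with rfl | h'
    · rw [pow_zero, orderOf_eq_one_iff] at hio
      exact absurd hio hg
    · exact ⟨_, h'⟩
  have hcl : ∀ x : Γ ⧸ K.subgroupOf Γ, (g x ^ p ^ j) ^ p = 1 := by
    intro x
    obtain ⟨⟨y, hy⟩, rfl⟩ := QuotientGroup.mk_surjective x
    have hy' : y ∈ (K : Set G) * (Subgroup.zpowers q : Set G) := by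
      rw [← Subgroup.coe_mul_of_right_le_normalizer_left K _ h.zpowers_le_normalizer_K]
      exact hy
    obtain ⟨k, hk, z, hz, e⟩ := hy'
    obtain ⟨n, rfl⟩ := Subgroup.mem_zpowers_iff.1 hz
    have e1 : ((⟨y, hy⟩ : Γ) : Γ ⧸ K.subgroupOf Γ) = ((⟨q, hqΓ⟩ : Γ) : Γ ⧸ K.subgroupOf Γ) ^ n := by
      rw [show (⟨y, hy⟩ : Γ) = ⟨k, le_sup_left (b := Subgroup.zpowers q) hk⟩ * ⟨q, hqΓ⟩ ^ n from
        Subtype.ext (by simpa using e.symm), QuotientGroup.mk_mul, QuotientGroup.mk_zpow,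
        show ((⟨k, le_sup_left (b := Subgroup.zpowers q) hk⟩ : Γ) : Γ ⧸ K.subgroupOf Γ) = 1 from
          (QuotientGroup.eq_one_iff _).2 hk, one_mul]
    rw [← pow_mul, ← pow_succ, e1, map_zpow, ← hu, ← zpow_natCast, ← zpow_mul, mul_comm, zpow_mul,
      zpow_natCast, ← hio, pow_orderOf_eq_one, one_zpow]
  refine ⟨fun x => if hx : x ∈ Γ then ((g ((⟨x, hx⟩ : Γ) : Γ ⧸ K.subgroupOf Γ) ^ p ^ j : ℂˣ) : ℂ) else 0,
    fun x hx y hy => ?_, fun x hx => ?_, fun x hx => ?_, ?_⟩ <;> beta_reduce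
  · rw [dif_pos hx, dif_pos hy, dif_pos (mul_mem hx hy),
      show (⟨x * y, mul_mem hx hy⟩ : Γ) = ⟨x, hx⟩ * ⟨y, hy⟩ from rfl, QuotientGroup.mk_mul, map_mul,
      mul_pow, Units.val_mul]
  · rw [dif_pos (show x ∈ Γ from le_sup_left (b := Subgroup.zpowers q) hx)]
    rw [show ((⟨x, le_sup_left (b := Subgroup.zpowers q) hx⟩ : Γ) : Γ ⧸ K.subgroupOf Γ) = 1 from
      (QuotientGroup.eq_one_iff _).2 hx, map_one, one_pow, Units.val_one]
  · rw [dif_pos hx, ← Units.val_pow_eq_pow_val, hcl, Units.val_one]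
  · rw [dif_pos hqΓ, Ne, Units.val_eq_one, ← hu]
    intro e
    exact absurd (hio ▸ orderOf_dvd_of_pow_eq_one e)
      (Nat.not_dvd_of_pos_of_lt (pow_pos hp.out.pos j) (pow_lt_pow_right₀ hp.out.one_lt (by omega)))

end Cyc

end

end CfsgLib.RelMcKay
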