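import Mathlib

/-!
# The twist identity: an integer function on a set acted on by `ZMod p`
-/

set_option autoImplicit false
set_option linter.unusedSectionVars false

namespace CfsgLib.RelMcKay

noncomputable section

open scoped Classical

namespace TwistOrbit

variable {X : Type*} [Fintype X] {p : ℕ} [hp : Fact p.Prime] (t : Multiplicative (ZMod p) →* Equiv.Perm X)

/-- The action. -/
def act (j : ZMod p) (x : X) : X := t (Multiplicative.ofAdd j) x

theorem act_zero (x : X) : act t 0 x = x := by simp [act]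

theorem act_add (i j : ZMod p) (x : X) : act t (i + j) x = act t i (act t j x) := by
  simp [act, ofAdd_add]

theorem act_bijective (j : ZMod p) : Function.Bijective (act t j) := Equiv.bijective _

/-- The pairing. -/
def pair (m m' : X → ℤ) (x : X) : ℤ :=
  ∑ j : ZMod p, (m x - m (act t j x)) * (m' x - m' (act t j x))

theorem sum_pair (m m' : X → ℤ) :
    ∑ x, pair t m m' x = 2 * ((p : ℤ) * ∑ x, m x * m' x - ∑ j : ZMod p, ∑ x, m x * m' (act t j x)) := by
  have h1 : ∀ j, ∑ x, m (act t j x) * m' (act t j x) = ∑ x, m x * m' x := fun j =>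
    (act_bijective t j).sum_comp fun x => m x * m' x
  have h2 : ∑ j : ZMod p, ∑ x, m (act t j x) * m' x = ∑ j : ZMod p, ∑ x, m x * m' (act t j x) := by
    refine Fintype.sum_equiv (Equiv.neg (ZMod p)) _ _ fun j => ?_
    rw [← (act_bijective t j).sum_comp fun x => m x * m' (act t ((Equiv.neg (ZMod p)) j) x)]
    refine Finset.sum_congr rfl fun x _ => ?_
    rw [← act_add, Equiv.neg_apply, neg_add_cancel, act_zero]
  have e : ∀ x j, (m x - m (act t j x)) * (m' x - m' (act t j x)) =
      m x * m' x + m (act t j x) * m' (act t j x) - (m x * m' (act t j x) + m (act t j x) * m' x) :=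
    fun x j => by ring
  simp only [pair]
  rw [Finset.sum_comm]
  simp only [e, Finset.sum_sub_distrib, Finset.sum_add_distrib, h1, h2, Finset.sum_const,
    Finset.card_univ, ZMod.card, nsmul_eq_mul]
  ring

theorem pair_self_nonneg (m : X → ℤ) (x : X) : 0 ≤ pair t m m x :=
  Finset.sum_nonneg fun _ _ => mul_self_nonneg _

theorem pair_self_eq_zero_iff (m : X → ℤ) (x : X) :
    pair t m m x = 0 ↔ ∀ j, m (act t j x) = m x := by
  rw [pair, Finset.sum_eq_zero_iff_of_nonneg fun j _ => mul_self_nonneg _]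
  simp only [Finset.mem_univ, true_implies, mul_self_eq_zero, sub_eq_zero]
  exact forall_congr' fun j => eq_comm

/-- The orbit. -/
def orb (x : X) : Finset X := Finset.univ.image fun j => act t j x

theorem mem_orb {x y : X} : y ∈ orb t x ↔ ∃ j, act t j x = y := by simp [orb]

theorem act_mem_orb {x y : X} (h : y ∈ orb t x) (j : ZMod p) : act t j y ∈ orb t x := by
  obtain ⟨i, rfl⟩ := (mem_orb t).1 h
  exact (mem_orb t).2 ⟨j + i, act_add t j i x⟩

/-- A point is free or fixed. -/
theorem free_or_fixed (x : X) : Function.Injective (fun j => act t j x) ∨ ∀ j, act t j x = x := by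
  by_cases h : ∃ i : ZMod p, i ≠ 0 ∧ act t i x = x
  · refine Or.inr fun j => ?_
    obtain ⟨i, hi, hx⟩ := h
    have hn : ∀ n : ℕ, act t ((n : ZMod p) * i) x = x := by
      intro n
      induction n with
      | zero => simp [act_zero]
      | succ n ih => rw [Nat.cast_succ, add_mul, one_mul, act_add, hx, ih]
    have := hn (j * i⁻¹).val
    rwa [ZMod.natCast_zmod_val, mul_assoc, inv_mul_cancel₀ hi, mul_one] at this
  · refine Or.inl fun a b hab => ?_
    by_contra hne
    refine h ⟨-b + a, fun e => hne (by linear_combination e), ?_⟩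
    rw [act_add]
    show act t (-b) ((fun j => act t j x) a) = x
    rw [hab]
    show act t (-b) (act t b x) = x
    rw [← act_add, neg_add_cancel, act_zero]

theorem sum_orb {x : X} (hx : Function.Injective (fun j => act t j x)) {M : Type*} [AddCommMonoid M]
    (F : X → M) : ∑ y ∈ orb t x, F y = ∑ j, F (act t j x) := by
  rw [orb, Finset.sum_image fun a _ b _ h => hx h]

/-- An invariant function vanishing at the fixed points sums to a multiple of `p`. -/
theorem sum_eq_zero_mod (F : X → ℤ) (hF : ∀ j x, F (act t j x) = F x)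
    (h0 : ∀ x, (∀ j, act t j x = x) → F x = 0) (s : Finset X)
    (hs : ∀ j, ∀ x ∈ s, act t j x ∈ s) : ((∑ x ∈ s, F x : ℤ) : ZMod p) = 0 := by
  induction s using Finset.strongInduction with
  | _ s ih =>
    rcases s.eq_empty_or_nonempty with rfl | ⟨x, hx⟩
    · simp
    · have hsub : orb t x ⊆ s := fun y hy => by
        obtain ⟨j, rfl⟩ := (mem_orb t).1 hy
        exact hs j x hx
      rw [← Finset.sum_sdiff hsub, Int.cast_add, ih _ (Finset.sdiff_ssubset hsub
        ⟨x, (mem_orb t).2 ⟨0, act_zero t x⟩⟩) (fun j y hy => ?_), zero_add]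
      · rcases free_or_fixed t x with hf | hf
        · rw [sum_orb t hf]
          simp [hF]
        · rw [Finset.sum_eq_zero fun y hy => ?_, Int.cast_zero]
          obtain ⟨j, rfl⟩ := (mem_orb t).1 hy
          rw [hF, h0 x hf]
      · rw [Finset.mem_sdiff] at hy ⊢
        refine ⟨hs j y hy.1, fun h => hy.2 ?_⟩
        have := act_mem_orb t h (-j)
        rwa [← act_add, neg_add_cancel, act_zero] at this

theorem sum_sub_mul_sub (a b : ZMod p → ℤ) :
    ∑ i, ∑ j, (a i - a j) * (b i - b j) = 2 * ((p : ℤ) * ∑ i, a i * b i - (∑ i, a i) * ∑ i, b i) := by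
  have e : ∀ i j, (a i - a j) * (b i - b j) = a i * b i + a j * b j - (a i * b j + a j * b i) :=
    fun i j => by ring
  simp only [e, Finset.sum_sub_distrib, Finset.sum_add_distrib, Finset.sum_const, Finset.card_univ,
    ZMod.card, nsmul_eq_mul, ← Finset.mul_sum, ← Finset.sum_mul]
  ring

/-- A nonconstant function on `ZMod p` has pairing at least `2 (p - 1)`. -/
theorem two_mul_sub_one_le (a : ZMod p → ℤ) {i₀ j₀ : ZMod p} (h : a i₀ ≠ a j₀) :
    2 * ((p : ℤ) - 1) ≤ ∑ i, ∑ j, (a i - a j) * (a i - a j) := by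
  have hij : i₀ ≠ j₀ := fun e => h (congrArg a e)
  have key : ∀ i, (a i - a i₀) * (a i - a i₀) + (a i - a j₀) * (a i - a j₀) ≥ 1 := by
    intro i
    by_cases hi : a i = a i₀
    · have : a i - a j₀ ≠ 0 := sub_ne_zero.2 (hi ▸ h)
      nlinarith [mul_self_pos.2 this, mul_self_nonneg (a i - a i₀)]
    · nlinarith [mul_self_pos.2 (sub_ne_zero.2 hi), mul_self_nonneg (a i - a j₀)]
  let f : ZMod p → ZMod p → ℤ := fun i j => (a i - a j) * (a i - a j)
  have hsym : ∀ i j, f i j = f j i := fun i j => by simp only [f]; ring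
  have hnn : ∀ i j, 0 ≤ f i j := fun i j => mul_self_nonneg _
  set R := (Finset.univ.erase i₀).erase j₀ with hR
  have hsplit : ∀ g : ZMod p → ℤ, ∑ i, g i = g i₀ + (g j₀ + ∑ i ∈ R, g i) := fun g => by
    rw [← Finset.add_sum_erase _ _ (Finset.mem_univ i₀),
      ← Finset.add_sum_erase _ _ (Finset.mem_erase.2 ⟨hij.symm, Finset.mem_univ j₀⟩)]
  have hcard : (R.card : ℤ) = (p : ℤ) - 2 := by
    rw [hR, Finset.card_erase_of_mem (Finset.mem_erase.2 ⟨hij.symm, Finset.mem_univ j₀⟩),
      Finset.card_erase_of_mem (Finset.mem_univ i₀), Finset.card_univ, ZMod.card]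
    have := hp.out.two_le
    omega
  have h1 : (R.card : ℤ) ≤ ∑ i ∈ R, (f i i₀ + f i j₀) := by
    refine le_trans (by simp) (Finset.sum_le_sum (f := fun _ => (1 : ℤ)) fun i _ => key i)
  have h2 : 1 ≤ f i₀ j₀ := by
    have := mul_self_pos.2 (sub_ne_zero.2 h)
    simp only [f]; omega
  have h3 : ∑ i ∈ R, (f i i₀ + f i j₀) ≤ ∑ i ∈ R, ∑ j, f i j := Finset.sum_le_sum fun i _ => by
    rw [hsplit (f i)]
    have := Finset.sum_nonneg (s := R) fun j _ => hnn i j
    linarith
  have h4 : f i₀ j₀ + ∑ i ∈ R, f i₀ i ≤ ∑ j, f i₀ j := by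
    rw [hsplit (f i₀)]; linarith [hnn i₀ i₀]
  have h5 : f j₀ i₀ + ∑ i ∈ R, f j₀ i ≤ ∑ j, f j₀ j := by
    rw [hsplit (f j₀)]; linarith [hnn j₀ j₀]
  have h6 := hsplit fun i => ∑ j, f i j
  have h7 : ∑ i ∈ R, f i₀ i + ∑ i ∈ R, f j₀ i = ∑ i ∈ R, (f i i₀ + f i j₀) := by
    rw [← Finset.sum_add_distrib]
    exact Finset.sum_congr rfl fun i _ => by rw [hsym i₀ i, hsym j₀ i]
  have := hsym i₀ j₀
  simp only [f] at *
  linarith

theorem sum_orb_pair {x : X} (hx : Function.Injective (fun j => act t j x)) (m m' : X → ℤ) :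
    ∑ y ∈ orb t x, pair t m m' y =
      2 * ((p : ℤ) * ∑ j, m (act t j x) * m' (act t j x) -
        (∑ j, m (act t j x)) * ∑ j, m' (act t j x)) := by
  rw [sum_orb t hx, ← sum_sub_mul_sub]
  refine Finset.sum_congr rfl fun i _ => ?_
  rw [pair]
  refine Fintype.sum_equiv (Equiv.addRight i) _ _ fun j => ?_
  rw [Equiv.coe_addRight, ← act_add]

/-- The conclusion drawn from a pairing of value `p - 1`. -/
theorem exists_special (m : X → ℤ)
    (hm : (p : ℤ) * ∑ x, m x * m x - ∑ j : ZMod p, ∑ x, m x * m (act t j x) = (p : ℤ) - 1) :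
    ∃ x₀, Function.Injective (fun j => act t j x₀) ∧
      (∀ x, x ∉ orb t x₀ → ∀ j, m (act t j x) = m x) ∧
      ((∑ j, m (act t j x₀) : ℤ) : ZMod p) ^ 2 = 1 := by
  have hp2 := hp.out.two_le
  have hS : ∑ x, pair t m m x = 2 * ((p : ℤ) - 1) := by rw [sum_pair, hm]
  obtain ⟨x₀, hx₀⟩ : ∃ x₀, pair t m m x₀ ≠ 0 := by
    by_contra h
    push Not at h
    rw [Finset.sum_eq_zero fun x _ => h x] at hS
    omega
  have hbig : ∀ x, pair t m m x ≠ 0 → Function.Injective (fun j => act t j x) ∧
      2 * ((p : ℤ) - 1) ≤ ∑ y ∈ orb t x, pair t m m y := by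
    intro x hx
    have hx' : ¬ ∀ j, m (act t j x) = m x := fun h => hx ((pair_self_eq_zero_iff t m x).2 h)
    push Not at hx'
    obtain ⟨j, hj⟩ := hx'
    have hfree := (free_or_fixed t x).resolve_right fun h => hj (by rw [h j])
    refine ⟨hfree, ?_⟩
    rw [sum_orb_pair t hfree, ← sum_sub_mul_sub]
    exact two_mul_sub_one_le _ (i₀ := j) (j₀ := 0) (by rwa [act_zero])
  obtain ⟨hfree, hle⟩ := hbig x₀ hx₀
  have hrest : ∀ x, x ∉ orb t x₀ → pair t m m x = 0 := by
    intro x hx
    by_contra hne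
    obtain ⟨-, hle'⟩ := hbig x hne
    have hdisj : Disjoint (orb t x₀) (orb t x) := Finset.disjoint_left.2 fun y hy hy' => hx (by
      obtain ⟨j, rfl⟩ := (mem_orb t).1 hy'
      have := act_mem_orb t hy (-j)
      rwa [← act_add, neg_add_cancel, act_zero] at this)
    have h1 := Finset.sum_le_sum_of_subset_of_nonneg
      (Finset.subset_univ (orb t x₀ ∪ orb t x)) fun y _ _ => pair_self_nonneg t m y
    rw [Finset.sum_union hdisj, hS] at h1
    omega
  refine ⟨x₀, hfree, fun x hx => (pair_self_eq_zero_iff t m x).1 (hrest x hx), ?_⟩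
  have h2 : ∑ y ∈ orb t x₀, pair t m m y = 2 * ((p : ℤ) - 1) := by
    rw [← hS]
    exact Finset.sum_subset (Finset.subset_univ _) fun x _ hx => hrest x hx
  rw [sum_orb_pair t hfree] at h2
  have h3 : (p : ℤ) * ∑ j, m (act t j x₀) * m (act t j x₀) -
      (∑ j, m (act t j x₀)) * ∑ j, m (act t j x₀) = (p : ℤ) - 1 := by linarith
  have h4 := congrArg (fun z : ℤ => (z : ZMod p)) h3
  simp only [Int.cast_sub, Int.cast_mul, Int.cast_natCast, ZMod.natCast_self, zero_mul, zero_sub,
    Int.cast_one] at h4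
  rw [pow_two]
  exact neg_injective h4

/-- Two functions with the same special orbit and pairing zero. -/
theorem mul_eq_zero_of_common {x₀ : X} (hx : Function.Injective (fun j => act t j x₀))
    (m m' : X → ℤ) (hm : ∀ x, x ∉ orb t x₀ → ∀ j, m (act t j x) = m x)
    (h0 : (p : ℤ) * ∑ x, m x * m' x - ∑ j : ZMod p, ∑ x, m x * m' (act t j x) = 0) :
    ((∑ j, m (act t j x₀) : ℤ) : ZMod p) * ((∑ j, m' (act t j x₀) : ℤ) : ZMod p) = 0 := by
  have h1 := sum_pair t m m'
  rw [h0, mul_zero, ← Finset.sum_subset (Finset.subset_univ (orb t x₀)) fun x _ hx' => by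
    rw [pair, Finset.sum_eq_zero]
    intro j _
    rw [hm x hx' j, sub_self, zero_mul], sum_orb_pair t hx] at h1
  have h2 : (p : ℤ) * ∑ j, m (act t j x₀) * m' (act t j x₀) =
      (∑ j, m (act t j x₀)) * ∑ j, m' (act t j x₀) := by linarith
  rw [← Int.cast_mul, ← h2, Int.cast_mul, Int.cast_natCast, ZMod.natCast_self, zero_mul]

/-- A weighted sum only sees the special orbit, modulo `p`. -/
theorem sum_mul_eq {x₀ : X} (hx : Function.Injective (fun j => act t j x₀)) (m a : X → ℤ)
    (hm : ∀ x, x ∉ orb t x₀ → ∀ j, m (act t j x) = m x)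
    (ha : ∀ j x, a (act t j x) = a x) (ha0 : ∀ x, (∀ j, act t j x = x) → a x = 0) :
    ((∑ x, m x * a x : ℤ) : ZMod p) = ((∑ j, m (act t j x₀) : ℤ) : ZMod p) * (a x₀ : ZMod p) := by
  let F : X → ℤ := fun x => if x ∈ orb t x₀ then 0 else m x * a x
  have hF : ((∑ x, F x : ℤ) : ZMod p) = 0 := by
    refine sum_eq_zero_mod t F (fun j x => ?_) (fun x h => ?_) _ fun j x _ => Finset.mem_univ _
    · by_cases hxo : x ∈ orb t x₀
      · simp [F, hxo, act_mem_orb t hxo j]
      · have : act t j x ∉ orb t x₀ := fun hh => hxo (by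
          have := act_mem_orb t hh (-j)
          rwa [← act_add, neg_add_cancel, act_zero] at this)
        simp [F, hxo, this, hm x hxo j, ha]
    · simp [F, ha0 x h]
  have hsplit : ∑ x, m x * a x = ∑ x ∈ orb t x₀, m x * a x + ∑ x, F x := by
    rw [show ∑ x, F x = ∑ x ∈ Finset.univ.filter (· ∉ orb t x₀), m x * a x by
      rw [Finset.sum_filter]; exact Finset.sum_congr rfl fun x _ => by simp [F],
      ← Finset.sum_filter_add_sum_filter_not Finset.univ (· ∈ orb t x₀)]
    congr 1
    exact Finset.sum_congr (by ext; simp) fun _ _ => rfl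
  rw [hsplit, Int.cast_add, hF, add_zero, sum_orb t hx]
  simp only [ha, ← Finset.sum_mul, Int.cast_mul]

end TwistOrbit

end

end CfsgLib.RelMcKay
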