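import Mathlib
import Cfsg.Agent.Lib.RelMcKay.CyclicBase
import Cfsg.Agent.Lib.RelMcKay.TwistOrbit
import Cfsg.Agent.Lib.Clifford.Extension

/-!
# Twisting the characters of a cyclic extension by a linear character of order `p`
-/

set_option autoImplicit false
set_option linter.style.haveILetI false
set_option linter.unusedSectionVars false

open scoped ComplexConjugate Pointwise
open Cfsg CfsgLib.CharTheory

namespace CfsgLib.RelMcKay

noncomputable section

open scoped Classical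

variable {G : Type*} [Group G] [Finite G] {p : ℕ} [hp : Fact p.Prime]

/-- A linear character of order `p` of `B⟨q⟩` trivial on `B`, with kernel missing the generators. -/
structure TwistData (p : ℕ) (B : Subgroup G) (q : G) (lam : G → ℂ) : Prop where
  norm : q ∈ Subgroup.normalizer (B : Set G)
  mul : ∀ x ∈ B ⊔ Subgroup.zpowers q, ∀ y ∈ B ⊔ Subgroup.zpowers q, lam (x * y) = lam x * lam y
  one_on : ∀ x ∈ B, lam x = 1
  pow : ∀ x ∈ B ⊔ Subgroup.zpowers q, lam x ^ p = 1
  ne : lam q ≠ 1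
  gen : ∀ z ∈ Subgroup.zpowers q, lam z ≠ 1 → q ∈ Subgroup.zpowers z

/-- The twist of a function by a power of `lam`. -/
def tw (lam : G → ℂ) (j : ZMod p) (f : G → ℂ) : G → ℂ := fun x => lam x ^ j.val * f x

/-- The weight: `p` off the kernel of `lam` and zero on it. -/
def wt (p : ℕ) [Fact p.Prime] (lam : G → ℂ) (x : G) : ℂ := (p : ℂ) - ∑ j : ZMod p, lam x ^ j.val

theorem tw_zero (lam : G → ℂ) (f : G → ℂ) : tw (p := p) lam 0 f = f := by
  funext x
  simp [tw]

namespace TwistData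

variable {B : Subgroup G} {q : G} {lam : G → ℂ} (d : TwistData p B q lam)
include d

theorem norm_zpowers : Subgroup.zpowers q ≤ Subgroup.normalizer (B : Set G) :=
  Subgroup.zpowers_le.2 d.norm

theorem mem_self : q ∈ B ⊔ Subgroup.zpowers q := le_sup_right (a := B) (Subgroup.mem_zpowers q)

theorem ne_zero {x : G} (hx : x ∈ B ⊔ Subgroup.zpowers q) : lam x ≠ 0 := fun h0 => by
  have h := d.pow x hx
  rw [h0, zero_pow hp.out.ne_zero] at h
  exact zero_ne_one h

/-- `lam` as a homomorphism. -/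
def hom : (B ⊔ Subgroup.zpowers q : Subgroup G) →* ℂˣ where
  toFun x := Units.mk0 (lam x) (d.ne_zero x.2)
  map_one' := Units.ext (d.one_on 1 (one_mem B))
  map_mul' x y := Units.ext (d.mul _ x.2 _ y.2)

theorem pow_mod {x : G} (hx : x ∈ B ⊔ Subgroup.zpowers q) (n : ℕ) :
    lam x ^ n = lam x ^ (n % p) := by
  conv_lhs => rw [← Nat.mod_add_div n p, pow_add, pow_mul, d.pow x hx, one_pow, mul_one]

theorem isIrrOn_tw {f : G → ℂ} (hf : IsIrrOn (B ⊔ Subgroup.zpowers q) f) (j : ZMod p) :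
    IsIrrOn (B ⊔ Subgroup.zpowers q) (tw lam j f) := by
  refine ⟨?_, fun g hg => by simp [tw, hf.2 g hg]⟩
  convert Clifford.isIrrCharacter_linFun_mul (d.hom ^ j.val) hf.1 using 1
  funext x
  simp [tw, hom, Clifford.linFun_apply]

theorem tw_add {f : G → ℂ} (hf : IsIrrOn (B ⊔ Subgroup.zpowers q) f) (i j : ZMod p) :
    tw lam (i + j) f = tw lam i (tw lam j f) := by
  funext x
  by_cases hx : x ∈ B ⊔ Subgroup.zpowers q
  · simp only [tw, ← mul_assoc, ← pow_add]
    rw [d.pow_mod hx (i.val + j.val), ZMod.val_add]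
  · simp [tw, hf.2 x hx]

/-- The action of `ZMod p` on the irreducible characters by twisting. -/
def perm : Multiplicative (ZMod p) →* Equiv.Perm {f // f ∈ irrOn (B ⊔ Subgroup.zpowers q)} where
  toFun j :=
    { toFun := fun f => ⟨tw lam j.toAdd f.1, mem_irrOn.2 (d.isIrrOn_tw (mem_irrOn.1 f.2) _)⟩
      invFun := fun f => ⟨tw lam (-j.toAdd) f.1, mem_irrOn.2 (d.isIrrOn_tw (mem_irrOn.1 f.2) _)⟩
      left_inv := fun f => Subtype.ext (by
        show tw lam (-j.toAdd) (tw lam j.toAdd f.1) = f.1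
        rw [← d.tw_add (mem_irrOn.1 f.2), neg_add_cancel, tw_zero])
      right_inv := fun f => Subtype.ext (by
        show tw lam j.toAdd (tw lam (-j.toAdd) f.1) = f.1
        rw [← d.tw_add (mem_irrOn.1 f.2), add_neg_cancel, tw_zero]) }
  map_one' := Equiv.ext fun f => Subtype.ext (by
    show tw lam 0 f.1 = f.1
    rw [tw_zero])
  map_mul' i j := Equiv.ext fun f => Subtype.ext (by
    show tw lam (i.toAdd + j.toAdd) f.1 = _
    rw [d.tw_add (mem_irrOn.1 f.2)]
    rfl)

theorem coe_act (j : ZMod p) (f : {f // f ∈ irrOn (B ⊔ Subgroup.zpowers q)}) :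
    ((TwistOrbit.act d.perm j f : {f // f ∈ irrOn (B ⊔ Subgroup.zpowers q)}) : G → ℂ) =
      tw lam j f.1 := rfl

theorem tw_of_mem {f : G → ℂ} {x : G} (hx : x ∈ B) (j : ZMod p) : tw lam j f x = f x := by
  simp [tw, d.one_on x hx]

theorem sum_pow_eq_zero {x : G} (hx : x ∈ B ⊔ Subgroup.zpowers q) (hne : lam x ≠ 1) :
    ∑ j : ZMod p, lam x ^ j.val = 0 := by
  have e : lam x * ∑ j : ZMod p, lam x ^ j.val = ∑ j : ZMod p, lam x ^ j.val := by
    rw [Finset.mul_sum]
    refine Fintype.sum_equiv (Equiv.addRight 1) _ _ fun j => ?_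
    rw [Equiv.coe_addRight, ← pow_succ', d.pow_mod hx (j.val + 1), ZMod.val_add, ZMod.val_one]
  have : (lam x - 1) * ∑ j : ZMod p, lam x ^ j.val = 0 := by rw [sub_mul, e, one_mul, sub_self]
  exact (mul_eq_zero.1 this).resolve_left (sub_ne_zero.2 hne)

theorem wt_eq_zero {x : G} (h : lam x = 1) : wt p lam x = 0 := by simp [wt, h]

theorem avg_wt_mul (H : Subgroup G) (F : G → ℂ) :
    avg H (fun x => wt p lam x * F x) =
      (p : ℂ) * avg H F - ∑ j : ZMod p, avg H (fun x => lam x ^ j.val * F x) := by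
  simp only [wt, sub_mul, Finset.sum_mul]
  rw [avg_sub, avg_const_mul, avg_sum]

theorem avg_pow {j : ZMod p} (hj : j ≠ 0) :
    avg (B ⊔ Subgroup.zpowers q) (fun x => lam x ^ j.val) = 0 := by
  haveI := Fintype.ofFinite (B ⊔ Subgroup.zpowers q : Subgroup G)
  rw [avg_eq]
  have h1 : lam q ^ j.val ≠ 1 := by
    intro h
    refine d.ne ?_
    have hjp : Nat.Coprime j.val p :=
      ((hp.out.coprime_iff_not_dvd).2 fun hd => hj (by
        rw [← ZMod.natCast_zmod_val j]; exact (ZMod.natCast_eq_zero_iff _ _).2 hd)).symm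
    have := pow_gcd_eq_one.2 ⟨h, d.pow q d.mem_self⟩
    rwa [hjp.gcd_eq_one, pow_one] at this
  set T := ∑ x : (B ⊔ Subgroup.zpowers q : Subgroup G), lam x ^ j.val with hT
  have e : lam q ^ j.val * T = T := by
    rw [hT, Finset.mul_sum]
    refine Fintype.sum_equiv (Equiv.mulLeft (⟨q, d.mem_self⟩ : (B ⊔ Subgroup.zpowers q : Subgroup G)))
      _ _ fun x => ?_
    rw [← mul_pow, ← d.mul q d.mem_self x x.2]
    rfl
  have : (lam q ^ j.val - 1) * T = 0 := by rw [sub_mul, e, one_mul, sub_self]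
  rw [(mul_eq_zero.1 this).resolve_left (sub_ne_zero.2 h1), mul_zero]

theorem sum_avg_pow :
    ∑ j : ZMod p, avg (B ⊔ Subgroup.zpowers q) (fun x => lam x ^ j.val) = 1 := by
  rw [Finset.sum_eq_single (0 : ZMod p) (fun j _ hj => d.avg_pow hj) (by simp)]
  simp [avg_const]

theorem avg_wt : avg (B ⊔ Subgroup.zpowers q) (wt p lam) = (p : ℂ) - 1 := by
  have h := d.avg_wt_mul (B ⊔ Subgroup.zpowers q) (fun _ => (1 : ℂ))
  simp only [mul_one, avg_const] at h
  rw [h, d.sum_avg_pow]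

theorem wt_mul_left {k z : G} (hk : k ∈ B) (hz : z ∈ Subgroup.zpowers q) :
    wt p lam (k * z) = wt p lam z := by
  simp only [wt, d.mul k (le_sup_left (b := Subgroup.zpowers q) hk) z
    (le_sup_right (a := B) hz), d.one_on k hk, one_mul]

/-- Weighted product of two extensions. -/
theorem avg_wt_ext {θ θ' f f' : G → ℂ} (hθ : IsIrrOn B θ) (hθ' : IsIrrOn B θ')
    (hf : IsIrrOn (B ⊔ Subgroup.zpowers q) f) (hf' : IsIrrOn (B ⊔ Subgroup.zpowers q) f')
    (hfθ : ∀ x ∈ B, f x = θ x) (hf'θ : ∀ x ∈ B, f' x = θ' x) (hsame : θ = θ' → f = f') :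
    avg (B ⊔ Subgroup.zpowers q) (fun x => wt p lam x * (f x * conj (f' x))) =
      ((p : ℂ) - 1) * if θ = θ' then 1 else 0 := by
  haveI := Fintype.ofFinite (Subgroup.zpowers q)
  rw [avg_sup d.norm_zpowers, ← d.avg_wt, avg_sup d.norm_zpowers (wt p lam), mul_assoc,
    Finset.sum_mul]
  congr 1
  refine Finset.sum_congr rfl fun z _ => ?_
  rw [avg_congr (F' := fun k => wt p lam z * (f (k * z) * conj (f' (k * z))))
      (fun k hk => by rw [d.wt_mul_left hk z.2]),
    avg_const_mul, avg_coset_mul_conj le_sup_left (sup_le Subgroup.le_normalizer d.norm_zpowers) hθ hθ'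
      hf hf' hfθ hf'θ (le_sup_right (a := B) z.2) hsame,
    avg_congr (F' := fun _ => wt p lam z) (fun k hk => d.wt_mul_left hk z.2), avg_const]

/-- The weighted product in terms of the multiplicities. -/
theorem avg_wt_char {f f' : G → ℂ} (hf : IsCharOn (B ⊔ Subgroup.zpowers q) f)
    (hf' : IsCharOn (B ⊔ Subgroup.zpowers q) f') :
    avg (B ⊔ Subgroup.zpowers q) (fun x => wt p lam x * (f x * conj (f' x))) =
      (((p : ℤ) * ∑ ω : {f // f ∈ irrOn (B ⊔ Subgroup.zpowers q)},
          (mu (B ⊔ Subgroup.zpowers q) f ω.1 : ℤ) * mu (B ⊔ Subgroup.zpowers q) f' ω.1 -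
        ∑ j : ZMod p, ∑ ω : {f // f ∈ irrOn (B ⊔ Subgroup.zpowers q)},
          (mu (B ⊔ Subgroup.zpowers q) f ω.1 : ℤ) *
            mu (B ⊔ Subgroup.zpowers q) f' (TwistOrbit.act d.perm j ω).1 : ℤ) : ℂ) := by
  set H := B ⊔ Subgroup.zpowers q
  have key : ∀ j : ZMod p, avg H (fun x => lam x ^ j.val * (f x * conj (f' x))) =
      ∑ ω : {f // f ∈ irrOn H}, (mu H f ω.1 : ℂ) * mu H f' (tw lam j ω.1) := by
    intro j
    rw [avg_congr (F' := fun x => tw lam j f x * conj (f' x)) (fun x _ => by simp [tw, mul_assoc]),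
      ← ip_eq_avg,
      ip_congr (f' := fun x => ∑ ω ∈ irrOn H, (mu H f ω : ℂ) * tw lam j ω x)
        (fun x hx => by
          simp only [tw]
          rw [hf.decomp hx, Finset.mul_sum]
          exact Finset.sum_congr rfl fun ω _ => by ring) (fun x _ => rfl),
      ip_sum_left, ← Finset.sum_coe_sort (irrOn H)]
    refine Finset.sum_congr rfl fun ω _ => ?_
    rw [ip_comm, ip_eq_mu hf' (d.isIrrOn_tw (mem_irrOn.1 ω.2) j), Complex.conj_natCast]
  have h0 := key 0
  simp only [ZMod.val_zero, pow_zero, one_mul, tw_zero] at h0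
  rw [d.avg_wt_mul, h0]
  simp only [d.coe_act]
  rw [Finset.sum_congr rfl fun j _ => key j]
  push_cast
  rfl

/-- A twist-moved character lies over a fixed character to which it restricts. -/
theorem exists_fixed_of_moved {f : G → ℂ} (hf : IsIrrOn (B ⊔ Subgroup.zpowers q) f)
    (hm : tw lam (1 : ZMod p) f ≠ f) :
    ∃ ξ, IsIrrOn B ξ ∧ q ∈ stab ξ ∧ ∀ x ∈ B, f x = ξ x := by
  set H := B ⊔ Subgroup.zpowers q
  let Hk : Subgroup G :=
    { carrier := {x | x ∈ H ∧ lam x = 1}
      one_mem' := ⟨one_mem H, d.one_on 1 (one_mem B)⟩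
      mul_mem' := fun {a b} ha hb => ⟨mul_mem ha.1 hb.1, by rw [d.mul a ha.1 b hb.1, ha.2, hb.2, one_mul]⟩
      inv_mem' := fun {a} ha => ⟨inv_mem ha.1, by
        have h := d.mul a ha.1 a⁻¹ (inv_mem ha.1)
        rwa [mul_inv_cancel, d.one_on 1 (one_mem B), ha.2, one_mul, eq_comm] at h⟩ }
  have hHk : ∀ x, x ∈ Hk ↔ x ∈ H ∧ lam x = 1 := fun _ => Iff.rfl
  have hkH : Hk ≤ H := fun x hx => hx.1
  have hBk : B ≤ Hk := fun x hx => ⟨le_sup_left (b := Subgroup.zpowers q) hx, d.one_on x hx⟩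
  haveI := Fintype.ofFinite H
  haveI := Fintype.ofFinite Hk
  have hsum : ∀ F : G → ℂ, ∑ j : ZMod p, avg H (fun x => lam x ^ j.val * F x) =
      (p : ℂ) * ((Nat.card H : ℂ)⁻¹ * ∑ x : Hk, F x) := by
    intro F
    rw [← avg_sum]
    simp only [← Finset.sum_mul, avg_eq]
    rw [← mul_assoc, mul_comm (p : ℂ), mul_assoc]
    congr 1
    rw [Finset.mul_sum]
    have h1 : ∀ x : H, (∑ j : ZMod p, lam x ^ j.val) * F x =
        if lam x = 1 then (p : ℂ) * F x else 0 := fun x => by
      split_ifs with h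
      · simp [h]
      · rw [d.sum_pow_eq_zero x.2 h, zero_mul]
    simp only [h1]
    rw [← Finset.sum_filter]
    refine Finset.sum_bij (fun x hx => (⟨x.1, x.2, (Finset.mem_filter.1 hx).2⟩ : Hk))
      (fun _ _ => Finset.mem_univ _)
      (fun a _ b _ h => Subtype.ext (congrArg (fun y : Hk => (y : G)) h))
      (fun y _ => ⟨⟨y.1, y.2.1⟩, Finset.mem_filter.2 ⟨Finset.mem_univ _, y.2.2⟩, rfl⟩)
      (fun x hx => rfl)
  have hcard : (p : ℂ) * ((Nat.card H : ℂ)⁻¹ * Nat.card Hk) = 1 := by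
    have h := hsum fun _ => 1
    simp only [mul_one, Finset.sum_const, Finset.card_univ, nsmul_eq_mul,
      ← Nat.card_eq_fintype_card] at h
    exact h.symm.trans d.sum_avg_pow
  have hne : ∀ j : ZMod p, j ≠ 0 → tw lam j f ≠ f := by
    intro j hj he
    refine hm ?_
    rcases TwistOrbit.free_or_fixed d.perm ⟨f, mem_irrOn.2 hf⟩ with h | h
    · exact absurd (h (a₁ := j) (a₂ := 0) (Subtype.ext (by
        simp only [d.coe_act]
        rw [he, tw_zero]))) hj
    · exact congrArg Subtype.val (h 1)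
  have hself : ip Hk f f = 1 := by
    have h := hsum fun x => f x * conj (f x)
    rw [Finset.sum_eq_single (0 : ZMod p) (fun j _ hj => ?_) (by simp)] at h
    · simp only [ZMod.val_zero, pow_zero, one_mul, ← ip_eq_avg, ip_self hf] at h
      rw [ip_eq_avg, avg_eq]
      have hk0 : (Nat.card Hk : ℂ) ≠ 0 := Nat.cast_ne_zero.2 Nat.card_pos.ne'
      have hH0 : (Nat.card H : ℂ) ≠ 0 := Nat.cast_ne_zero.2 Nat.card_pos.ne'
      have hp0 : (p : ℂ) ≠ 0 := Nat.cast_ne_zero.2 hp.out.ne_zero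
      rw [← mul_assoc] at h hcard
      have hS : ∑ x : Hk, f x * conj (f x) = Nat.card Hk :=
        mul_left_cancel₀ (mul_ne_zero hp0 (inv_ne_zero hH0)) (h.symm.trans hcard.symm)
      rw [hS, inv_mul_cancel₀ hk0]
    · rw [avg_congr (F' := fun x => tw lam j f x * conj (f x)) (fun x _ => by simp [tw, mul_assoc]),
        ← ip_eq_avg, ip_eq_zero (d.isIrrOn_tw hf j) hf (hne j hj)]
  have hfk : IsIrrCharacter Hk (fun h : Hk => f h) := by
    rw [isIrrCharacter_iff_norm_one (hf.isCharOn.mono hkH), ← ip_eq]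
    exact hself
  obtain ⟨ξ, hξ, hξ0⟩ := exists_mu_ne_zero (H := B)
    (hf.isCharOn.mono le_sup_left) (by rw [hf.isCharOn.apply_one]; exact_mod_cast hf.deg_pos.ne')
  have hqstab : q ∈ stab ξ := by
    haveI : (B.subgroupOf Hk).Normal := (Subgroup.normal_subgroupOf_iff_le_normalizer hBk).2
      (hkH.trans (sup_le Subgroup.le_normalizer d.norm_zpowers))
    haveI := Fintype.ofFinite (B.subgroupOf Hk)
    haveI := Fintype.ofFinite B
    let e : B.subgroupOf Hk ≃* B := Subgroup.subgroupOfEquivOfLe hBk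
    have hcon : ∀ η : G → ℂ, IsIrrOn B η → mu B f η ≠ 0 →
        classInner (fun n : B.subgroupOf Hk => f ((n : Hk) : G)) (fun n => η (e n)) ≠ 0 := by
      intro η hη hη0 h0
      have h1 : ip B f η ≠ 0 := by
        rw [ip_eq_mu (hf.isCharOn.mono le_sup_left) hη]
        exact_mod_cast hη0
      rw [ip_eq, ← Clifford.classInner_comp_mulEquiv e] at h1
      exact h1 h0
    have hqξ : mu B f (cj q ξ) ≠ 0 := by
      rw [mu_cj_of_fixed d.norm (hf.le_stab d.mem_self)]
      exact hξ0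
    obtain ⟨g, hg⟩ := Clifford.exists_conj_of_constituents (B.subgroupOf Hk) hfk
      (θ := fun n => ξ (e n)) (η := fun n => cj q ξ (e n))
      (isIrrCharacter_comp_mulEquiv hξ.1 e) (isIrrCharacter_comp_mulEquiv (hξ.cj d.norm).1 e)
      (hcon ξ hξ hξ0) (hcon _ (hξ.cj d.norm) hqξ)
    have hgN : (g : G) ∈ Subgroup.normalizer (B : Set G) :=
      sup_le Subgroup.le_normalizer d.norm_zpowers g.2.1
    have heq : cj q ξ = cj (g : G) ξ := (hξ.cj d.norm).ext (hξ.cj hgN) fun x hx => by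
      have := congrFun hg (e.symm ⟨x, hx⟩)
      simpa [Clifford.conjChar, cj, e, Subgroup.subgroupOfEquivOfLe] using this
    have hg' : (g : G) ∈ (B : Set G) * (Subgroup.zpowers q : Set G) := by
      rw [← Subgroup.coe_mul_of_right_le_normalizer_left B _ d.norm_zpowers]
      exact g.2.1
    obtain ⟨b, hb, z, hz, e1⟩ := hg'
    have hlz : lam z = 1 := by
      have h1 := g.2.2
      rw [← e1, d.mul b (le_sup_left (b := Subgroup.zpowers q) hb) z (le_sup_right (a := B) hz),
        d.one_on b hb, one_mul] at h1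
      exact h1
    have h2 : q * z⁻¹ ∈ stab ξ := by
      have h3 : cj (q * z⁻¹) ξ = cj (b * z * z⁻¹) ξ := by
        rw [← cj_cj, heq, show (g : G) = b * z from e1.symm, cj_cj]
      rw [mem_stab, h3, mul_inv_cancel_right]
      exact hξ.le_stab hb
    have hz' : q * z⁻¹ ∈ Subgroup.zpowers q := mul_mem (Subgroup.mem_zpowers q) (inv_mem hz)
    refine Subgroup.zpowers_le.2 h2 (d.gen _ hz' ?_)
    have hqz : q = q * z⁻¹ * z := by simp
    intro h1
    refine d.ne ?_
    rw [hqz, d.mul _ (le_sup_right (a := B) hz') z (le_sup_right (a := B) hz), h1, hlz, one_mul]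
  exact ⟨ξ, hξ, hqstab, res_eq_of_over d.norm_zpowers hξ (Subgroup.zpowers_le.2 hqstab) hf hξ0⟩

/-- A character over a fixed character is moved by the twist. -/
theorem moved_of_res {f ξ : G → ℂ} (hf : IsIrrOn (B ⊔ Subgroup.zpowers q) f) (hξ : IsIrrOn B ξ)
    (hres : ∀ x ∈ B, f x = ξ x) : tw lam (1 : ZMod p) f ≠ f := by
  intro he
  have hz : ∀ k ∈ B, f (k * q) * conj (f (k * q)) = 0 := by
    intro k hk
    have hkq : k * q ∈ B ⊔ Subgroup.zpowers q :=
      mul_mem (le_sup_left (b := Subgroup.zpowers q) hk) d.mem_self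
    have := congrFun he (k * q)
    simp only [tw, ZMod.val_one, pow_one,
      d.mul k (le_sup_left (b := Subgroup.zpowers q) hk) q d.mem_self, d.one_on k hk, one_mul] at this
    rw [show f (k * q) = 0 by
      by_contra hne
      exact d.ne (mul_eq_right₀ hne |>.1 this)]
    simp
  have h := avg_coset_mul_conj le_sup_left (sup_le Subgroup.le_normalizer d.norm_zpowers) hξ hξ hf hf
    hres hres d.mem_self (fun _ => rfl)
  rw [if_pos rfl, avg_congr (F' := fun _ => (0 : ℂ)) hz, avg_const] at h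
  exact zero_ne_one h

end TwistData

end

end CfsgLib.RelMcKay
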