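import Mathlib
import Cfsg.Agent.Lib.RelMcKay.TwistData

/-!
# The correspondence for a cyclic `p`-group acting coprimely modulo a normal subgroup
-/

set_option autoImplicit false
set_option linter.style.haveILetI false
set_option linter.unusedSectionVars false

open scoped ComplexConjugate Pointwise
open Cfsg CfsgLib.CharTheory

namespace CfsgLib.RelMcKay

noncomputable section

open scoped Classical

variable {G : Type*} [Group G] [Finite G] {p : ℕ} [hp : Fact p.Prime]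

namespace TwistData

variable {B : Subgroup G} {q : G} {lam : G → ℂ} (d : TwistData p B q lam)
include d

/-- The multiplicities of a character of `B⟨q⟩` as an integer function. -/
def coef (_d : TwistData p B q lam) (f : G → ℂ) (ω : {f // f ∈ irrOn (B ⊔ Subgroup.zpowers q)}) : ℤ :=
  mu (B ⊔ Subgroup.zpowers q) f ω.1

/-- The indicator of restricting to `ξ`. -/
def cov (_d : TwistData p B q lam) (ξ : G → ℂ) (ω : {f // f ∈ irrOn (B ⊔ Subgroup.zpowers q)}) : ℤ :=
  mu B ω.1 ξ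

theorem sum_coef_cov {f ξ : G → ℂ} (hf : IsCharOn (B ⊔ Subgroup.zpowers q) f) (hξ : IsIrrOn B ξ) :
    (mu B f ξ : ℤ) = ∑ ω, d.coef f ω * d.cov ξ ω := by
  rw [mu_trans le_sup_left hf hξ, Nat.cast_sum, ← Finset.sum_coe_sort (irrOn (B ⊔ Subgroup.zpowers q))]
  push_cast
  rfl

theorem cov_act {ξ : G → ℂ} (j : ZMod p) (ω : {f // f ∈ irrOn (B ⊔ Subgroup.zpowers q)}) :
    d.cov ξ (TwistOrbit.act d.perm j ω) = d.cov ξ ω := by
  simp only [cov, d.coe_act]
  rw [mu_congr (fun x hx => d.tw_of_mem hx j) (fun x _ => rfl)]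

theorem cov_fixed {ξ : G → ℂ} (hξ : IsIrrOn B ξ) (hs : q ∈ stab ξ)
    (ω : {f // f ∈ irrOn (B ⊔ Subgroup.zpowers q)}) (hω : ∀ j, TwistOrbit.act d.perm j ω = ω) :
    d.cov ξ ω = 0 := by
  by_contra hne
  have hne' : mu B ω.1 ξ ≠ 0 := fun h0 => hne (by simp [cov, h0])
  exact d.moved_of_res (mem_irrOn.1 ω.2) hξ
    (res_eq_of_over d.norm_zpowers hξ (Subgroup.zpowers_le.2 hs) (mem_irrOn.1 ω.2) hne')
    (congrArg Subtype.val (hω 1))

theorem moved_of_free {ω : {f // f ∈ irrOn (B ⊔ Subgroup.zpowers q)}}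
    (h : Function.Injective fun j => TwistOrbit.act d.perm j ω) : tw lam (1 : ZMod p) ω.1 ≠ ω.1 := by
  intro he
  have := h (a₁ := 1) (a₂ := 0) (Subtype.ext (by
    simp only [d.coe_act]
    rw [he, tw_zero]))
  exact one_ne_zero this

theorem cov_eq {ξ ξ₀ : G → ℂ} (hξ : IsIrrOn B ξ) (hξ₀ : IsIrrOn B ξ₀)
    {ω : {f // f ∈ irrOn (B ⊔ Subgroup.zpowers q)}} (hω : ∀ x ∈ B, ω.1 x = ξ₀ x) :
    d.cov ξ ω = if ξ = ξ₀ then 1 else 0 := by
  rw [cov, mu_congr hω (fun x _ => rfl)]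
  split_ifs with h
  · rw [h, mu_self hξ₀, Nat.cast_one]
  · rw [mu_eq_zero hξ₀ hξ (Ne.symm h), Nat.cast_zero]

/-- From weighted norm `p - 1`: exactly one fixed constituent of multiplicity prime to `p`. -/
theorem exists_special_constituent {f : G → ℂ} (hf : IsCharOn (B ⊔ Subgroup.zpowers q) f)
    (h : avg (B ⊔ Subgroup.zpowers q) (fun x => wt p lam x * (f x * conj (f x))) = (p : ℂ) - 1) :
    ∃ ω₀ : {f // f ∈ irrOn (B ⊔ Subgroup.zpowers q)}, ∃ ξ₀, IsIrrOn B ξ₀ ∧ q ∈ stab ξ₀ ∧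
      (∀ x ∈ B, ω₀.1 x = ξ₀ x) ∧ Function.Injective (fun j => TwistOrbit.act d.perm j ω₀) ∧
      (∀ ω, ω ∉ TwistOrbit.orb d.perm ω₀ → ∀ j, d.coef f (TwistOrbit.act d.perm j ω) = d.coef f ω) ∧
      ((∑ j, d.coef f (TwistOrbit.act d.perm j ω₀) : ℤ) : ZMod p) ^ 2 = 1 ∧
      ∀ ξ, IsIrrOn B ξ → q ∈ stab ξ → (mu B f ξ : ZMod p) =
        if ξ = ξ₀ then ((∑ j, d.coef f (TwistOrbit.act d.perm j ω₀) : ℤ) : ZMod p) else 0 := by
  rw [d.avg_wt_char hf hf, show (p : ℂ) - 1 = (((p : ℤ) - 1 : ℤ) : ℂ) by push_cast; rfl] at h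
  obtain ⟨ω₀, hfree, hout, hS⟩ := TwistOrbit.exists_special d.perm (d.coef f) (Int.cast_injective h)
  obtain ⟨ξ₀, hξ₀, hs₀, hres⟩ := d.exists_fixed_of_moved (mem_irrOn.1 ω₀.2) (d.moved_of_free hfree)
  refine ⟨ω₀, ξ₀, hξ₀, hs₀, hres, hfree, hout, hS, fun ξ hξ hs => ?_⟩
  rw [← Int.cast_natCast, d.sum_coef_cov hf hξ, TwistOrbit.sum_mul_eq d.perm hfree _ _ hout
    (fun j ω => d.cov_act j ω) (fun ω hω => d.cov_fixed hξ hs ω hω), d.cov_eq hξ hξ₀ hres]
  split_ifs <;> simp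

end TwistData

namespace Cyc

variable {L K C : Subgroup G} {q : G} (h : Cyc p L K C q)
include h

theorem sup_le_sup : C ⊔ Subgroup.zpowers q ≤ K ⊔ Subgroup.zpowers q := sup_le_sup_right h.C_le _

theorem isCyclic_zpowers : IsCyclic (Subgroup.zpowers q) :=
  Subgroup.isCyclic_zpowers q

/-- Twist data on both levels. -/
theorem exists_twist_data (hne : C ≠ K) :
    ∃ lam, TwistData p K q lam ∧ TwistData p C q lam := by
  obtain ⟨lam, hmul, hone, hpow, hq⟩ := h.exists_lam hne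
  have hgen : ∀ z ∈ Subgroup.zpowers q, lam z ≠ 1 → q ∈ Subgroup.zpowers z := by
    intro z hz hz1
    refine h.zpowers_eq_of_mem hz fun a ha => hz1 ?_
    have hmem : ∀ n : ℕ, q ^ n ∈ K ⊔ Subgroup.zpowers q := fun n =>
      le_sup_right (a := K) (pow_mem (Subgroup.mem_zpowers q) n)
    have hpw : ∀ n : ℕ, lam (q ^ n) = lam q ^ n := by
      intro n
      induction n with
      | zero => simp [hone 1 (one_mem K)]
      | succ n ih =>
        rw [pow_succ, hmul _ (hmem n) _ (le_sup_right (a := K) (Subgroup.mem_zpowers q)), ih, pow_succ]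
    rw [ha, hpw, pow_mul, hpow q (le_sup_right (a := K) (Subgroup.mem_zpowers q)), one_pow]
  exact ⟨lam, ⟨h.q_norm_K, hmul, hone, hpow, hq, hgen⟩,
    ⟨h.q_norm_C, fun x hx y hy => hmul x (h.sup_le_sup hx) y (h.sup_le_sup hy),
      fun x hx => hone x (h.C_le hx), fun x hx => hpow x (h.sup_le_sup hx), hq, hgen⟩⟩

/-- Weighted averages agree on both levels. -/
theorem avg_wt_eq {lam : G → ℂ} (dK : TwistData p K q lam) (dC : TwistData p C q lam) (F : G → ℂ)
    (hF : ∀ k ∈ K, ∀ x ∈ C ⊔ Subgroup.zpowers q, F (k * x * k⁻¹) = F x) :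
    avg (K ⊔ Subgroup.zpowers q) (fun x => wt p lam x * F x) =
      avg (C ⊔ Subgroup.zpowers q) (fun x => wt p lam x * F x) := by
  haveI := Fintype.ofFinite (Subgroup.zpowers q)
  haveI := Fintype.ofFinite K
  haveI := Fintype.ofFinite C
  rw [avg_sup dK.norm_zpowers, avg_sup dC.norm_zpowers]
  congr 1
  refine Finset.sum_congr rfl fun z _ => ?_
  by_cases hz1 : lam z = 1
  · rw [avg_congr (F' := fun _ => (0 : ℂ)) (fun k hk => by
        rw [dK.wt_mul_left hk z.2, dK.wt_eq_zero hz1, zero_mul]),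
      avg_congr (H := C) (F' := fun _ => (0 : ℂ)) (fun k hk => by
        rw [dC.wt_mul_left hk z.2, dC.wt_eq_zero hz1, zero_mul]), avg_const, avg_const]
  rw [avg_congr (F' := fun k => wt p lam z * F (k * z)) (fun k hk => by rw [dK.wt_mul_left hk z.2]),
    avg_congr (H := C) (F' := fun k => wt p lam z * F (k * z))
      (fun k hk => by rw [dC.wt_mul_left hk z.2]), avg_const_mul, avg_const_mul]
  congr 1
  have key := h.card_mul_sum_coset z.2 (dK.gen z z.2 hz1) F (fun k hk c hc => hF k hk _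
    (mul_mem (le_sup_left (b := Subgroup.zpowers q) hc) (le_sup_right (a := C) z.2)))
  have hK0 : (Nat.card K : ℂ) ≠ 0 := Nat.cast_ne_zero.2 Nat.card_pos.ne'
  have hC0 : (Nat.card C : ℂ) ≠ 0 := Nat.cast_ne_zero.2 Nat.card_pos.ne'
  rw [avg_eq, avg_eq]
  field_simp
  linear_combination key

/-- Products of class functions are invariant under conjugation by `K`. -/
theorem mul_conj_invariant {f f' : G → ℂ}
    (hf : IsIrrOn (K ⊔ Subgroup.zpowers q) f) (hf' : IsIrrOn (K ⊔ Subgroup.zpowers q) f') :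
    ∀ k ∈ K, ∀ x ∈ C ⊔ Subgroup.zpowers q,
      f (k * x * k⁻¹) * conj (f' (k * x * k⁻¹)) = f x * conj (f' x) := by
  intro k hk x _
  rw [hf.classFun (le_sup_left (b := Subgroup.zpowers q) hk),
    hf'.classFun (le_sup_left (b := Subgroup.zpowers q) hk)]

/-- The correspondent of an invariant character. -/
theorem exists_corr {θ : G → ℂ} (hθ : IsIrrOn K θ) (hs : q ∈ stab θ) :
    ∃ ξ₀, IsIrrOn C ξ₀ ∧ q ∈ stab ξ₀ ∧ ∃ S : ZMod p, S ^ 2 = 1 ∧
      ∀ ξ, IsIrrOn C ξ → q ∈ stab ξ → (mu C θ ξ : ZMod p) = if ξ = ξ₀ then S else 0 := by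
  by_cases hne : C = K
  · subst hne
    refine ⟨θ, hθ, hs, 1, one_pow 2, fun ξ hξ _ => ?_⟩
    split_ifs with he
    · rw [he, mu_self hθ, Nat.cast_one]
    · rw [mu_eq_zero hθ hξ (Ne.symm he), Nat.cast_zero]
  obtain ⟨lam, dK, dC⟩ := h.exists_twist_data hne
  haveI := h.isCyclic_zpowers
  obtain ⟨f, hf, hfθ⟩ := exists_ext_cyclic dK.norm_zpowers hθ (Subgroup.zpowers_le.2 hs)
  have hval := dK.avg_wt_ext hθ hθ hf hf hfθ hfθ (fun _ => rfl)
  rw [if_pos rfl, mul_one, h.avg_wt_eq dK dC (fun x => f x * conj (f x)) (h.mul_conj_invariant hf hf)]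
    at hval
  obtain ⟨ω₀, ξ₀, hξ₀, hs₀, -, -, -, hS, hmu⟩ :=
    dC.exists_special_constituent (hf.isCharOn.mono h.sup_le_sup) hval
  refine ⟨ξ₀, hξ₀, hs₀, _, hS, fun ξ hξ hsξ => ?_⟩
  rw [← mu_congr (f := f) (f' := θ) (fun x hx => hfθ x (h.C_le hx)) (fun x _ => rfl)]
  exact hmu ξ hξ hsξ

/-- Linear characters of the quotient `(C⟨q⟩)/C` come from `(K⟨q⟩)/K`. -/
theorem exists_linear_lift (hl : (C ⊔ Subgroup.zpowers q : Subgroup G) →* ℂˣ)
    (hl1 : ∀ x : (C ⊔ Subgroup.zpowers q : Subgroup G), (x : G) ∈ C → hl x = 1) :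
    ∃ μ : (K ⊔ Subgroup.zpowers q : Subgroup G) →* ℂˣ,
      (∀ x : (K ⊔ Subgroup.zpowers q : Subgroup G), (x : G) ∈ K → μ x = 1) ∧
      ∀ x : (C ⊔ Subgroup.zpowers q : Subgroup G), μ (Subgroup.inclusion h.sup_le_sup x) = hl x := by
  haveI : (K.subgroupOf (K ⊔ Subgroup.zpowers q : Subgroup G)).Normal := (Subgroup.normal_subgroupOf_iff_le_normalizer le_sup_left).2
    (sup_le Subgroup.le_normalizer h.zpowers_le_normalizer_K)
  let φ : (C ⊔ Subgroup.zpowers q : Subgroup G) →* (K ⊔ Subgroup.zpowers q : Subgroup G) ⧸ K.subgroupOf (K ⊔ Subgroup.zpowers q : Subgroup G) := (QuotientGroup.mk' _).comp (Subgroup.inclusion h.sup_le_sup)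
  have hsurj : Function.Surjective φ := by
    intro x
    obtain ⟨⟨y, hy⟩, rfl⟩ := QuotientGroup.mk_surjective x
    have hy' : y ∈ (K : Set G) * (Subgroup.zpowers q : Set G) := by
      rw [← Subgroup.coe_mul_of_right_le_normalizer_left K _ h.zpowers_le_normalizer_K]
      exact hy
    obtain ⟨k, hk, z, hz, e⟩ := hy'
    refine ⟨⟨z, le_sup_right (a := C) hz⟩, QuotientGroup.eq.2 ?_⟩
    rw [Subgroup.mem_subgroupOf]
    show z⁻¹ * y ∈ K
    rw [← e]
    show z⁻¹ * (k * z) ∈ K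
    rw [← mul_assoc]
    simpa using (mem_conj_iff (inv_mem (h.zpowers_le_normalizer_K hz)) k).2 hk
  have hker : φ.ker ≤ hl.ker := by
    rintro ⟨x, hx⟩ hxk
    have hxK : x ∈ K := Subgroup.mem_subgroupOf.1 ((QuotientGroup.eq_one_iff _).1 hxk)
    rw [MonoidHom.mem_ker]
    refine hl1 _ ?_
    show x ∈ C
    have hx' : x ∈ (C : Set G) * (Subgroup.zpowers q : Set G) := by
      rw [← Subgroup.coe_mul_of_right_le_normalizer_left C _ h.zpowers_le_normalizer_C]
      exact hx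
    obtain ⟨c, hc, z, hz, e⟩ := hx'
    refine e ▸ mul_mem hc ((h.mem_iff z).2 ⟨?_, ?_⟩)
    · rw [← e] at hxK
      simpa using mul_mem (inv_mem (h.C_le hc)) hxK
    · obtain ⟨n, rfl⟩ := Subgroup.mem_zpowers_iff.1 hz
      rw [show q ^ n * q * (q ^ n)⁻¹ * q⁻¹ = 1 by group]
      exact one_mem L
  refine ⟨((φ.liftOfSurjective hsurj) ⟨hl, hker⟩).comp (QuotientGroup.mk' _), fun x hx => ?_, fun x => ?_⟩
  · rw [MonoidHom.comp_apply, QuotientGroup.mk'_apply, (QuotientGroup.eq_one_iff (N := K.subgroupOf _) x).2 hx, map_one]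
  · exact φ.liftOfRightInverse_comp_apply _ (Function.rightInverse_surjInv hsurj) ⟨hl, hker⟩ x

/-- Distinct invariant characters have distinct correspondents. -/
theorem injective {θ θ' ξ : G → ℂ} (hθ : IsIrrOn K θ) (hs : q ∈ stab θ) (hθ' : IsIrrOn K θ')
    (hs' : q ∈ stab θ') (hξ : IsIrrOn C ξ) (hsξ : q ∈ stab ξ)
    (hm : (mu C θ ξ : ZMod p) ≠ 0) (hm' : (mu C θ' ξ : ZMod p) ≠ 0) : θ = θ' := by
  by_cases hne : C = K
  · subst hne
    have e1 : θ = ξ := by_contra fun e => hm (by rw [mu_eq_zero hθ hξ e, Nat.cast_zero])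
    have e2 : θ' = ξ := by_contra fun e => hm' (by rw [mu_eq_zero hθ' hξ e, Nat.cast_zero])
    rw [e1, e2]
  by_contra hdiff
  obtain ⟨lam, dK, dC⟩ := h.exists_twist_data hne
  haveI := h.isCyclic_zpowers
  obtain ⟨f, hf, hfθ⟩ := exists_ext_cyclic dK.norm_zpowers hθ (Subgroup.zpowers_le.2 hs)
  obtain ⟨f₁, hf₁, hf₁θ⟩ := exists_ext_cyclic dK.norm_zpowers hθ' (Subgroup.zpowers_le.2 hs')
  set D := C ⊔ Subgroup.zpowers q
  have hspec : ∀ {g η : G → ℂ}, IsIrrOn (K ⊔ Subgroup.zpowers q) g → IsIrrOn K η →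
      (∀ x ∈ K, g x = η x) → (mu C η ξ : ZMod p) ≠ 0 →
      ∃ ω₀ : {f // f ∈ irrOn D}, (∀ x ∈ C, ω₀.1 x = ξ x) ∧
        Function.Injective (fun j => TwistOrbit.act dC.perm j ω₀) ∧
        (∀ ω, ω ∉ TwistOrbit.orb dC.perm ω₀ → ∀ j, dC.coef g (TwistOrbit.act dC.perm j ω) = dC.coef g ω) ∧
        ((∑ j, dC.coef g (TwistOrbit.act dC.perm j ω₀) : ℤ) : ZMod p) ≠ 0 := by
    intro g η hg hη hgη hmη
    have hval := dK.avg_wt_ext hη hη hg hg hgη hgη (fun _ => rfl)
    rw [if_pos rfl, mul_one, h.avg_wt_eq dK dC (fun x => g x * conj (g x)) (h.mul_conj_invariant hg hg)]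
      at hval
    obtain ⟨ω₀, ξ₀, hξ₀, -, hres, hfree, hout, hS, hmu⟩ :=
      dC.exists_special_constituent (hg.isCharOn.mono h.sup_le_sup) hval
    have h1 := hmu ξ hξ hsξ
    rw [mu_congr (f := g) (f' := η) (fun x hx => hgη x (h.C_le hx)) (fun x _ => rfl)] at h1
    have he : ξ = ξ₀ := by_contra fun e => hmη (by rw [h1, if_neg e])
    subst he
    exact ⟨ω₀, hres, hfree, hout, fun e => hmη (by rw [h1, if_pos rfl, e])⟩
  obtain ⟨ω₀, hres, hfree, hout, hS⟩ := hspec hf hθ hfθ hm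
  obtain ⟨ω₁, hres₁, hfree₁, -, hS₁⟩ := hspec hf₁ hθ' hf₁θ hm'
  -- align the orbits by a linear character
  haveI hn : (C.subgroupOf D).Normal := (Subgroup.normal_subgroupOf_iff_le_normalizer le_sup_left).2
    (sup_le Subgroup.le_normalizer h.zpowers_le_normalizer_C)
  let e : C.subgroupOf D ≃* C := Subgroup.subgroupOfEquivOfLe le_sup_left
  obtain ⟨l, hl1, hl⟩ := Clifford.exists_linFun_of_extensions (N := C.subgroupOf D)
    (θ := fun n => ξ (e n)) (isIrrCharacter_comp_mulEquiv hξ.1 e)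
    (mem_irrOn.1 ω₁.2).1 (fun n => hres₁ _ n.2) (mem_irrOn.1 ω₀.2).1 (fun n => hres _ n.2)
  obtain ⟨μ, hμ1, hμ⟩ := h.exists_linear_lift l (fun x hx => hl1 ⟨x, hx⟩)
  let f' : G → ℂ := fun x => if hx : x ∈ (K ⊔ Subgroup.zpowers q : Subgroup G) then (μ ⟨x, hx⟩ : ℂ) * f₁ x else 0
  have hf' : IsIrrOn (K ⊔ Subgroup.zpowers q : Subgroup G) f' := by
    refine ⟨?_, fun g hg => by simp [f', hg]⟩
    convert Clifford.isIrrCharacter_linFun_mul μ hf₁.1 using 1
    funext x
    simp [f', Clifford.linFun_apply]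
  have hf'θ : ∀ x ∈ K, f' x = θ' x := fun x hx => by
    have hxΓ : x ∈ (K ⊔ Subgroup.zpowers q : Subgroup G) := le_sup_left (b := Subgroup.zpowers q) hx
    simp only [f', dif_pos hxΓ, hμ1 ⟨x, hxΓ⟩ hx, Units.val_one, one_mul, hf₁θ x hx]
  have hcoef : ∀ j, dC.coef f' (TwistOrbit.act dC.perm j ω₀) = dC.coef f₁ (TwistOrbit.act dC.perm j ω₁) := by
    intro j
    simp only [TwistData.coef, dC.coe_act]
    congr 1
    haveI := Fintype.ofFinite D
    simp only [mu, ip_eq, classInner]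
    congr 4
    funext x
    have e0 : (tw lam j ω₀.1 : G → ℂ) x = (l x : ℂ) * tw lam j ω₁.1 x := by
      simp only [tw]
      rw [show ω₀.1 (x : G) = (l x : ℂ) * ω₁.1 x from congrFun hl x]
      ring
    have e1 : f' (x : G) = (l x : ℂ) * f₁ x := by
      rw [show f' (x : G) = (μ ⟨x, h.sup_le_sup x.2⟩ : ℂ) * f₁ x from dif_pos (h.sup_le_sup x.2), ← hμ x]
      rfl
    rw [e0, e1, map_mul]
    have h1 : (l x : ℂ) * conj (l x : ℂ) = 1 := by
      rw [Complex.mul_conj']
      rw [norm_eq_one_of_pow_eq_one' (Nat.card_pos (α := D)).ne' (by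
        rw [← Units.val_pow_eq_pow_val, ← map_pow, pow_card_eq_one', map_one, Units.val_one])]
      simp
    linear_combination (f₁ x * conj (tw lam j ω₁.1 x)) * h1
  have hval := dK.avg_wt_ext hθ hθ' hf hf' hfθ hf'θ (fun e => absurd e hdiff)
  rw [if_neg hdiff, mul_zero,
    h.avg_wt_eq dK dC (fun x => f x * conj (f' x)) (h.mul_conj_invariant hf hf'),
    dC.avg_wt_char (hf.isCharOn.mono h.sup_le_sup) (hf'.isCharOn.mono h.sup_le_sup)] at hval
  have := TwistOrbit.mul_eq_zero_of_common dC.perm hfree (dC.coef f) (dC.coef f') hout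
    (Int.cast_eq_zero.1 hval)
  simp only [hcoef] at this
  exact (mul_eq_zero.1 this).elim hS hS₁

/-- Every invariant character of `C` is a correspondent. -/
theorem surjective {ξ : G → ℂ} (hξ : IsIrrOn C ξ) (hsξ : q ∈ stab ξ) :
    ∃ θ, IsIrrOn K θ ∧ q ∈ stab θ ∧ (mu C θ ξ : ZMod p) ≠ 0 := by
  by_cases hne : C = K
  · subst hne
    exact ⟨ξ, hξ, hsξ, by rw [mu_self hξ, Nat.cast_one]; exact one_ne_zero⟩
  obtain ⟨lam, dK, dC⟩ := h.exists_twist_data hne
  haveI := h.isCyclic_zpowers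
  obtain ⟨fξ, hfξ, hfξθ⟩ := exists_ext_cyclic dC.norm_zpowers hξ (Subgroup.zpowers_le.2 hsξ)
  set Γ := K ⊔ Subgroup.zpowers q
  set D := C ⊔ Subgroup.zpowers q
  obtain ⟨f, hf, hfne⟩ : ∃ f, IsIrrOn Γ f ∧ avg D (fun x => wt p lam x * (f x * conj (fξ x))) ≠ 0 := by
    by_contra hno
    push Not at hno
    haveI := Fintype.ofFinite Γ
    haveI := Fintype.ofFinite D
    haveI := Fintype.ofFinite (D.subgroupOf Γ)
    let e : D.subgroupOf Γ ≃* D := Subgroup.subgroupOfEquivOfLe h.sup_le_sup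
    let Φ : D.subgroupOf Γ → ℂ := fun x => conj (wt p lam ((x : Γ) : G)) * fξ ((x : Γ) : G)
    have hind : indFun (D.subgroupOf Γ) Φ = 0 := by
      refine eq_zero_of_forall_classInner (Frobenius.indFun_isClassFunction _ _) fun χ => ?_
      obtain ⟨χ, hχ⟩ := χ
      rw [Frobenius.classInner_indFun _ _ _ (IsIrrCharacter.isClassFunction hχ), classInner_conj_symm]
      rw [map_eq_zero]
      have h1 := hno _ (isIrrOn_extend hχ)
      rw [avg_eq] at h1
      simp only [classInner, Nat.card_congr e.toEquiv]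
      refine Eq.trans (congrArg _ ?_) h1
      refine Fintype.sum_equiv e.toEquiv _ _ fun x => ?_
      show χ (x : Γ) * conj (Φ x) = wt p lam ((x : Γ) : G) *
        (extendByZero Γ χ ((x : Γ) : G) * conj (fξ ((x : Γ) : G)))
      rw [Frobenius.extendByZero_coe Γ χ (x : Γ)]
      simp only [Φ, map_mul, Complex.conj_conj]
      ring
    -- evaluate the induced function at a suitable point
    obtain ⟨c, hc, hcne⟩ : ∃ c ∈ C, fξ (c * q) ≠ 0 := by
      by_contra hz
      push Not at hz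
      have h2 := avg_coset_mul_conj le_sup_left (sup_le Subgroup.le_normalizer h.zpowers_le_normalizer_C)
        hξ hξ hfξ hfξ hfξθ hfξθ dC.mem_self (fun _ => rfl)
      rw [if_pos rfl, avg_congr (F' := fun _ => (0 : ℂ)) (fun k hk => by rw [hz k hk, zero_mul]),
        avg_const] at h2
      exact zero_ne_one h2
    have hcqD : c * q ∈ D := mul_mem (le_sup_left (b := Subgroup.zpowers q) hc) dC.mem_self
    have h0 := congrFun hind ⟨c * q, h.sup_le_sup hcqD⟩
    rw [Pi.zero_apply, indFun, mul_eq_zero, inv_eq_zero, Nat.cast_eq_zero] at h0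
    have hlq : lam (c * q) ≠ 1 := by
      rw [dC.mul c (le_sup_left (b := Subgroup.zpowers q) hc) q dC.mem_self, dC.one_on c hc, one_mul]
      exact dC.ne
    have hterm : ∀ x : Γ, extendByZero (D.subgroupOf Γ) Φ (x⁻¹ * ⟨c * q, h.sup_le_sup hcqD⟩ * x) =
        if (x : G) ∈ D then conj (wt p lam (c * q)) * fξ (c * q) else 0 := by
      intro x
      by_cases hxD : (x : G) ∈ D
      · have hm : x⁻¹ * ⟨c * q, h.sup_le_sup hcqD⟩ * x ∈ D.subgroupOf Γ := by
          rw [Subgroup.mem_subgroupOf]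
          exact mul_mem (mul_mem (inv_mem hxD) hcqD) hxD
        rw [if_pos hxD, Frobenius.extendByZero_of_mem _ _ hm]
        show conj (wt p lam ((x : G)⁻¹ * (c * q) * x)) * fξ ((x : G)⁻¹ * (c * q) * x) = _
        congr 1
        · have hl : lam ((x : G)⁻¹ * (c * q) * x) = lam (c * q) := by
            rw [dC.mul _ (mul_mem (inv_mem hxD) hcqD) _ hxD, dC.mul _ (inv_mem hxD) _ hcqD,
              mul_right_comm, ← dC.mul _ (inv_mem hxD) _ hxD, inv_mul_cancel,
              dC.one_on 1 (one_mem C), one_mul]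
          simp only [wt, hl]
        · simpa using hfξ.classFun (inv_mem hxD) (c * q)
      · rw [if_neg hxD]
        by_contra hne0
        have hm : x⁻¹ * ⟨c * q, h.sup_le_sup hcqD⟩ * x ∈ D.subgroupOf Γ := by
          by_contra hm
          exact hne0 (Frobenius.extendByZero_of_not_mem _ _ hm)
        rw [Subgroup.mem_subgroupOf] at hm
        rw [Frobenius.extendByZero_of_mem _ _ (Subgroup.mem_subgroupOf.2 hm)] at hne0
        have hm' : (x : G)⁻¹ * (c * q) * x ∈ D := hm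
        have hw : wt p lam ((x : G)⁻¹ * (c * q) * x) ≠ 0 := fun e0 => hne0 (by simp [Φ, e0])
        have hxΓ : (x : G) ∈ (K : Set G) * (Subgroup.zpowers q : Set G) := by
          rw [← Subgroup.coe_mul_of_right_le_normalizer_left K _ h.zpowers_le_normalizer_K]
          exact x.2
        obtain ⟨k, hk, z, hz, ex⟩ := hxΓ
        have hzD : z ∈ D := le_sup_right (a := C) hz
        have hy : k⁻¹ * (c * q) * k ∈ D := by
          have := mul_mem (mul_mem hzD hm') (inv_mem hzD)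
          rw [← ex] at this
          simpa [mul_assoc] using this
        have hy' : k⁻¹ * (c * q) * k ∈ (C : Set G) * (Subgroup.zpowers q : Set G) := by
          rw [← Subgroup.coe_mul_of_right_le_normalizer_left C _ h.zpowers_le_normalizer_C]
          exact hy
        obtain ⟨c', hc', z', hz', ey⟩ := hy'
        obtain ⟨n, rfl⟩ := Subgroup.mem_zpowers_iff.1 hz'
        have hqn : q ^ n * q⁻¹ ∈ L := by
          have hKz : q ^ n * q⁻¹ ∈ K := by
            have e2 : c'⁻¹ * (k⁻¹ * (c * (q * k * q⁻¹))) = q ^ n * q⁻¹ := by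
              calc c'⁻¹ * (k⁻¹ * (c * (q * k * q⁻¹))) = c'⁻¹ * (k⁻¹ * (c * q) * k) * q⁻¹ := by group
                _ = c'⁻¹ * (c' * q ^ n) * q⁻¹ := by rw [show k⁻¹ * (c * q) * k = c' * q ^ n from ey.symm]
                _ = _ := by group
            rw [← e2]
            exact mul_mem (inv_mem (h.C_le hc')) (mul_mem (inv_mem hk)
              (mul_mem (h.C_le hc) ((mem_conj_iff h.q_norm_K k).2 hk)))
          haveI : (L.subgroupOf K).Normal :=
            (Subgroup.normal_subgroupOf_iff_le_normalizer h.le).2 h.K_norm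
          have h1 : (q ^ n * q⁻¹) ^ L.relIndex K ∈ L :=
            Subgroup.mem_subgroupOf.1 ((L.subgroupOf K).pow_index_mem ⟨_, hKz⟩)
          obtain ⟨a, ha⟩ := h.order
          have hpa : (q ^ n * q⁻¹) ^ (p ^ a) = 1 := by
            rw [← zpow_neg_one, ← zpow_add, ← zpow_natCast, ← zpow_mul, mul_comm, zpow_mul,
              zpow_natCast, ha, one_zpow]
          have hcop : Nat.Coprime (p ^ a) (L.relIndex K) :=
            (hp.out.coprime_iff_not_dvd.2 h.not_dvd).pow_left a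
          have hb := Nat.gcd_eq_gcd_ab (p ^ a) (L.relIndex K)
          rw [hcop, Nat.cast_one] at hb
          rw [← zpow_one (q ^ n * q⁻¹), hb, zpow_add, zpow_mul, zpow_natCast, hpa, one_zpow, one_mul,
            zpow_mul, zpow_natCast]
          exact zpow_mem h1 _
        have hkC : k ∈ C := by
          refine h.mem_of_conj (Subgroup.mem_zpowers q) (Subgroup.mem_zpowers q)
            (c := c) (c' := c' * (q ^ n * q⁻¹)) hk hc (mul_mem hc' (h.L_le hqn)) ?_
          rw [show c' * (q ^ n * q⁻¹) * q = c' * q ^ n by group,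
            show c' * q ^ n = k⁻¹ * (c * q) * k from ey]
          group
        exact hxD (ex ▸ mul_mem (le_sup_left (b := Subgroup.zpowers q) hkC) hzD)
    rcases h0 with h0 | h0
    · exact Nat.card_pos.ne' h0
    simp only [hterm, ← Finset.sum_filter, Finset.sum_const, nsmul_eq_mul, mul_eq_zero,
      Nat.cast_eq_zero, Finset.card_eq_zero, map_eq_zero] at h0
    rcases h0 with h0 | h0 | h0
    · exact Finset.notMem_empty (1 : Γ) (h0 ▸ Finset.mem_filter.2 ⟨Finset.mem_univ _, one_mem D⟩)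
    · rw [wt, dC.sum_pow_eq_zero hcqD hlq, sub_zero, Nat.cast_eq_zero] at h0
      exact hp.out.ne_zero h0
    · exact hcne h0
  -- `f` is moved, so restricts to an invariant character
  have hmoved : tw lam (1 : ZMod p) f ≠ f := by
    intro he
    refine hfne ?_
    rw [avg_congr (F' := fun _ => (0 : ℂ)) (fun x hx => ?_), avg_const]
    by_cases h1 : lam x = 1
    · rw [dC.wt_eq_zero h1, zero_mul]
    · have h2 := congrFun he x
      simp only [tw, ZMod.val_one, pow_one] at h2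
      rw [show f x = 0 by
        by_contra hx0
        exact h1 ((mul_eq_right₀ hx0).1 h2), zero_mul, mul_zero]
  obtain ⟨θ, hθ, hsθ, hfθ⟩ := dK.exists_fixed_of_moved hf hmoved
  refine ⟨θ, hθ, hsθ, ?_⟩
  have hval := dK.avg_wt_ext hθ hθ hf hf hfθ hfθ (fun _ => rfl)
  rw [if_pos rfl, mul_one, h.avg_wt_eq dK dC (fun x => f x * conj (f x)) (h.mul_conj_invariant hf hf)]
    at hval
  obtain ⟨ω₀, ξ₀, hξ₀, -, hres, hfree, hout, hS, hmu⟩ :=
    dC.exists_special_constituent (hf.isCharOn.mono h.sup_le_sup) hval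
  rw [← mu_congr (f := f) (f' := θ) (fun x hx => hfθ x (h.C_le hx)) (fun x _ => rfl), hmu ξ hξ hsξ]
  have he : ξ = ξ₀ := by
    by_contra hne'
    refine hfne ?_
    rw [dC.avg_wt_char (hf.isCharOn.mono h.sup_le_sup) hfξ.isCharOn, Int.cast_eq_zero]
    set ω := (⟨fξ, mem_irrOn.2 hfξ⟩ : {f // f ∈ irrOn D}) with hω
    have hnot : ω ∉ TwistOrbit.orb dC.perm ω₀ := by
      intro hmem
      obtain ⟨j, hj⟩ := (TwistOrbit.mem_orb dC.perm).1 hmem
      refine hne' (hξ.ext hξ₀ fun x hx => ?_)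
      rw [← hfξθ x hx, ← hres x hx, show fξ = tw lam j ω₀.1 from (congrArg Subtype.val hj).symm]
      exact dC.tw_of_mem hx j
    have hsingle : ∀ x : {f // f ∈ irrOn D}, (mu D fξ x.1 : ℤ) = if x = ω then 1 else 0 := by
      intro x
      split_ifs with hx
      · subst hx
        exact_mod_cast mu_self hfξ
      · exact_mod_cast mu_eq_zero hfξ (mem_irrOn.1 x.2) fun e => hx (Subtype.ext e.symm)
    have hconst := hout ω hnot
    show (p : ℤ) * ∑ x : {f // f ∈ irrOn D}, (mu D f x.1 : ℤ) * mu D fξ x.1 -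
      ∑ j : ZMod p, ∑ x : {f // f ∈ irrOn D},
        (mu D f x.1 : ℤ) * mu D fξ (TwistOrbit.act dC.perm j x).1 = 0
    simp only [hsingle, mul_ite, mul_one, mul_zero, Finset.sum_ite_eq', Finset.mem_univ, if_true]
    rw [Finset.sum_congr rfl fun j _ => ?_, Finset.sum_const, Finset.card_univ, ZMod.card, nsmul_eq_mul,
      sub_self]
    rw [Finset.sum_eq_single (TwistOrbit.act dC.perm (-j) ω) (fun x _ hx => ?_) (by simp)]
    · rw [if_pos (by rw [← TwistOrbit.act_add, add_neg_cancel, TwistOrbit.act_zero])]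
      exact hconst (-j)
    · rw [if_neg]
      intro e
      exact hx (by rw [← e, ← TwistOrbit.act_add, neg_add_cancel, TwistOrbit.act_zero])
  rw [if_pos he]
  intro e
  rw [e, pow_two, mul_zero] at hS
  exact zero_ne_one hS

end Cyc

end

end CfsgLib.RelMcKay
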