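import Mathlib
import Cfsg.Agent.Lib.RelMcKay.Cyclic
import Cfsg.Agent.Lib.RealChar.DegreeRatio

/-!
# The correspondence for a `p`-group acting coprimely modulo a normal subgroup

`L ≤ K` are normalized by `Q ⊇ L` with `Q ⧸ L` a `p`-group and `|K : L|` prime to `p`; `C ⧸ L` is the
fixed subgroup of `Q` on `K ⧸ L`. Each fixed irreducible character of `K` has exactly one fixed
constituent on `C` of multiplicity prime to `p`, and this is a bijection.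
-/

set_option autoImplicit false
set_option linter.style.haveILetI false
set_option linter.unusedSectionVars false

open scoped ComplexConjugate Pointwise
open Cfsg CfsgLib.CharTheory

namespace CfsgLib.RelMcKay

noncomputable section

open scoped Classical

variable {G : Type*} [Group G] [Finite G] {p : ℕ} [hp : Fact p.Prime]

/-- Coprime action of a `p`-group modulo `L`, with fixed subgroup `C`. -/
structure Rel (p : ℕ) (L K C Q : Subgroup G) : Prop where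
  le : L ≤ K
  le_Q : L ≤ Q
  K_norm : K ≤ Subgroup.normalizer (L : Set G)
  Q_norm_L : Q ≤ Subgroup.normalizer (L : Set G)
  Q_norm_K : Q ≤ Subgroup.normalizer (K : Set G)
  not_dvd : ¬ p ∣ L.relIndex K
  pow : ∀ q ∈ Q, ∃ a : ℕ, q ^ p ^ a ∈ L
  mem_iff : ∀ k, k ∈ C ↔ k ∈ K ∧ ∀ q ∈ Q, k * q * k⁻¹ * q⁻¹ ∈ L

/-- The fixed subgroup of `Q` on `K` modulo `L`. -/
def relFix {L K : Subgroup G} (hK : K ≤ Subgroup.normalizer (L : Set G)) (Q : Subgroup G) :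
    Subgroup G where
  carrier := {k | k ∈ K ∧ ∀ q ∈ Q, k * q * k⁻¹ * q⁻¹ ∈ L}
  one_mem' := ⟨one_mem K, fun q _ => by simp⟩
  mul_mem' := fun {a b} ha hb => ⟨mul_mem ha.1 hb.1, fun q hq => by
    rw [show a * b * q * (a * b)⁻¹ * q⁻¹ = a * (b * q * b⁻¹ * q⁻¹) * a⁻¹ * (a * q * a⁻¹ * q⁻¹) by group]
    exact mul_mem ((mem_conj_iff (hK ha.1) _).2 (hb.2 q hq)) (ha.2 q hq)⟩
  inv_mem' := fun {a} ha => ⟨inv_mem ha.1, fun q hq => by
    rw [show a⁻¹ * q * a⁻¹⁻¹ * q⁻¹ = a⁻¹ * (a * q * a⁻¹ * q⁻¹)⁻¹ * a⁻¹⁻¹ by group]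
    exact (mem_conj_iff (hK (inv_mem ha.1)) _).2 (inv_mem (ha.2 q hq))⟩

/-- `Q` acts trivially on `k` modulo `L` for a subgroup of `q`. -/
def fixingSubgroup' {L N : Subgroup G} (hN : N ≤ Subgroup.normalizer (L : Set G)) (k : G) : Subgroup G where
  carrier := {q | q ∈ N ∧ k * q * k⁻¹ * q⁻¹ ∈ L}
  one_mem' := ⟨one_mem N, by simp⟩
  mul_mem' := fun {a b} ha hb => ⟨mul_mem ha.1 hb.1, by
    rw [show k * (a * b) * k⁻¹ * (a * b)⁻¹ = (k * a * k⁻¹ * a⁻¹) * (a * (k * b * k⁻¹ * b⁻¹) * a⁻¹) by group]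
    exact mul_mem ha.2 ((mem_conj_iff (hN ha.1) _).2 hb.2)⟩
  inv_mem' := fun {a} ha => ⟨inv_mem ha.1, by
    rw [show k * a⁻¹ * k⁻¹ * a⁻¹⁻¹ = a⁻¹ * (k * a * k⁻¹ * a⁻¹)⁻¹ * a⁻¹⁻¹ by group]
    exact (mem_conj_iff (hN (inv_mem ha.1)) _).2 (inv_mem ha.2)⟩

theorem stab_cj {x : G} {f : G → ℂ} {y : G} (h : x * y * x⁻¹ ∈ stab f) : y ∈ stab (cj x f) := by
  rw [mem_stab, cj_cj, show x * y = x * y * x⁻¹ * x by simp, ← cj_cj, mem_stab.1 h]

/-- `ξ` is the correspondent of `θ`. -/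
def IsCorr (p : ℕ) (C Q : Subgroup G) (θ ξ : G → ℂ) : Prop :=
  IsIrrOn C ξ ∧ Q ≤ stab ξ ∧ (mu C θ ξ : ZMod p) ≠ 0

namespace Rel

variable {L K C Q : Subgroup G} (h : Rel p L K C Q)
include h

theorem C_le : C ≤ K := fun _ hk => ((h.mem_iff _).1 hk).1

theorem L_le : L ≤ C := fun l hl => (h.mem_iff l).2 ⟨h.le hl, fun q hq => by
  rw [mul_assoc, mul_assoc, ← mul_assoc q l⁻¹ q⁻¹]
  exact mul_mem hl ((mem_conj_iff (h.Q_norm_L hq) _).2 (inv_mem hl))⟩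

theorem not_dvd_C : ¬ p ∣ L.relIndex C := fun hd => h.not_dvd
  (hd.trans (Dvd.intro (C.relIndex K) (Subgroup.relIndex_mul_relIndex L C K h.L_le h.C_le)))

theorem mem_normalizer_C {x : G} (hL : x ∈ Subgroup.normalizer (L : Set G))
    (hK : x ∈ Subgroup.normalizer (K : Set G)) (hQ : x ∈ Subgroup.normalizer (Q : Set G)) :
    x ∈ Subgroup.normalizer (C : Set G) := by
  refine Subgroup.mem_normalizer_iff.2 fun k => ?_
  rw [h.mem_iff, h.mem_iff, mem_conj_iff hK]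
  refine and_congr_right fun _ => ⟨fun hk q hq => ?_, fun hk q hq => ?_⟩
  · have h1 := hk (x⁻¹ * q * x) ((mem_conj_iff hQ _).1 (by simpa [mul_assoc] using hq))
    have h2 := (mem_conj_iff hL _).2 h1
    simpa [mul_assoc] using h2
  · have h1 := hk (x * q * x⁻¹) ((mem_conj_iff hQ _).2 hq)
    refine (mem_conj_iff hL _).1 ?_
    simpa [mul_assoc] using h1

theorem Q_norm_C : Q ≤ Subgroup.normalizer (C : Set G) := fun _ hx =>
  h.mem_normalizer_C (h.Q_norm_L hx) (h.Q_norm_K hx) (Subgroup.le_normalizer hx)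

theorem pow_mem {H : Subgroup G} (hH : L ≤ H) : ∀ q ∈ Q, ∃ a : ℕ, q ^ p ^ a ∈ H :=
  fun q hq => (h.pow q hq).imp fun _ ha => hH ha

theorem L_le_stab {H : Subgroup G} (hH : L ≤ H) {f : G → ℂ} (hf : IsIrrOn H f) : L ≤ stab f :=
  hH.trans hf.le_stab

end Rel

/-- A step down the acting group. -/
theorem Rel.exists_step {L K C Q : Subgroup G} (h : Rel p L K C Q) (hne : Q ≠ L) :
    ∃ (Q₁ : Subgroup G) (q : G) (hK : K ≤ Subgroup.normalizer (L : Set G)),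
      L ≤ Q₁ ∧ Q₁ < Q ∧ Q ≤ Subgroup.normalizer (Q₁ : Set G) ∧ q ∈ Q ∧ Q₁ ⊔ Subgroup.zpowers q = Q ∧
      Rel p L K (relFix hK Q₁) Q₁ ∧ Cyc p L (relFix hK Q₁) C q := by
  classical
  haveI hn : (L.subgroupOf Q).Normal :=
    (Subgroup.normal_subgroupOf_iff_le_normalizer h.le_Q).2 h.Q_norm_L
  set π := QuotientGroup.mk' (L.subgroupOf Q) with hπ
  have hP : IsPGroup p (Q ⧸ L.subgroupOf Q) := by
    intro x
    obtain ⟨⟨q, hq⟩, rfl⟩ := QuotientGroup.mk_surjective x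
    obtain ⟨a, ha⟩ := h.pow q hq
    refine ⟨a, ?_⟩
    rw [← QuotientGroup.mk_pow, QuotientGroup.eq_one_iff, Subgroup.mem_subgroupOf]
    exact ha
  obtain ⟨n, hn'⟩ := IsPGroup.iff_card.1 hP
  have hn0 : n ≠ 0 := by
    rintro rfl
    refine hne (le_antisymm (fun q hq => ?_) h.le_Q)
    rw [pow_zero, Nat.card_eq_one_iff_unique] at hn'
    have := hn'.1.elim ((⟨q, hq⟩ : Q) : Q ⧸ L.subgroupOf Q) 1
    exact Subgroup.mem_subgroupOf.1 ((QuotientGroup.eq_one_iff _).1 this)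
  obtain ⟨k, rfl⟩ := Nat.exists_eq_succ_of_ne_zero hn0
  obtain ⟨M, hM⟩ := Sylow.exists_subgroup_card_pow_prime p
    (show p ^ k ∣ Nat.card (Q ⧸ L.subgroupOf Q) by rw [hn']; exact pow_dvd_pow p (Nat.le_succ k))
  have hMi : M.index = p := by
    have := M.card_mul_index
    rw [hM, hn', pow_succ] at this
    exact Nat.eq_of_mul_eq_mul_left (pow_pos hp.out.pos k) this
  haveI : M.Normal := Subgroup.normal_of_index_eq_minFac_card (by
    rw [hMi, hn', Nat.pow_minFac (Nat.succ_ne_zero k), hp.out.minFac_eq])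
  set Q₁ := (M.comap π).map Q.subtype with hQ₁
  have hsub : Q₁.subgroupOf Q = M.comap π := by
    rw [hQ₁, Subgroup.subgroupOf, Subgroup.comap_map_eq_self_of_injective Subtype.val_injective]
  have hidx : Q₁.relIndex Q = p := by
    rw [Subgroup.relIndex, hsub, Subgroup.index_comap_of_surjective _ (QuotientGroup.mk'_surjective _), hMi]
  have hQ₁le : Q₁ ≤ Q := Subgroup.map_subtype_le _
  have hLQ₁ : L ≤ Q₁ := fun l hl => ⟨⟨l, h.le_Q hl⟩, by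
    rw [SetLike.mem_coe, Subgroup.mem_comap, hπ, QuotientGroup.mk'_apply,
      (QuotientGroup.eq_one_iff _).2 (Subgroup.mem_subgroupOf.2 hl)]
    exact one_mem M, rfl⟩
  have hnorm : Q ≤ Subgroup.normalizer (Q₁ : Set G) :=
    (Subgroup.normal_subgroupOf_iff_le_normalizer hQ₁le).1 (by rw [hsub]; infer_instance)
  have hlt : Q₁ < Q := lt_of_le_of_ne hQ₁le fun e => by
    rw [e, Subgroup.relIndex_self] at hidx
    exact hp.out.ne_one hidx.symm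
  obtain ⟨q₀, hq₀, hq₀'⟩ := SetLike.exists_of_lt hlt
  obtain ⟨b, hb⟩ := h.pow q₀ hq₀
  obtain ⟨a, r, hr, hord⟩ := Nat.exists_eq_pow_mul_and_not_dvd (orderOf_pos q₀).ne' p hp.out.ne_one
  set q := q₀ ^ r with hq
  have hqQ : q ∈ Q := Subgroup.pow_mem _ hq₀ r
  have hqord : q ^ p ^ a = 1 := by rw [hq, ← pow_mul, mul_comm, ← hord, pow_orderOf_eq_one]
  have hqn : q ∉ Q₁ := by
    intro hmem
    refine hq₀' ?_
    have hcop : Nat.Coprime r (p ^ b) := ((hp.out.coprime_iff_not_dvd.2 hr).symm).pow_right b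
    have hbz := Nat.gcd_eq_gcd_ab r (p ^ b)
    rw [hcop, Nat.cast_one] at hbz
    rw [← zpow_one q₀, hbz, zpow_add, zpow_mul, zpow_natCast, zpow_mul, zpow_natCast]
    exact mul_mem (zpow_mem hmem _) (zpow_mem (hLQ₁ hb) _)
  have hsup : Q₁ ⊔ Subgroup.zpowers q = Q := by
    have hle : Q₁ ⊔ Subgroup.zpowers q ≤ Q := sup_le hQ₁le (Subgroup.zpowers_le.2 hqQ)
    have hm := Subgroup.relIndex_mul_relIndex Q₁ (Q₁ ⊔ Subgroup.zpowers q) Q le_sup_left hle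
    rw [hidx] at hm
    rcases (Nat.dvd_prime hp.out).1 (Dvd.intro _ hm) with h1 | h1
    · exact absurd ((Subgroup.relIndex_eq_one.1 h1) (le_sup_right (a := Q₁) (Subgroup.mem_zpowers q))) hqn
    · rw [h1] at hm
      have h2 : (Q₁ ⊔ Subgroup.zpowers q).relIndex Q = 1 :=
        Nat.eq_of_mul_eq_mul_left hp.out.pos (by rw [hm, mul_one])
      exact le_antisymm hle (Subgroup.relIndex_eq_one.1 h2)
  have hrel₁ : Rel p L K (relFix h.K_norm Q₁) Q₁ :=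
    ⟨h.le, hLQ₁, h.K_norm, hQ₁le.trans h.Q_norm_L, hQ₁le.trans h.Q_norm_K, h.not_dvd,
      fun x hx => h.pow x (hQ₁le hx), fun k => Iff.rfl⟩
  refine ⟨Q₁, q, h.K_norm, hLQ₁, hlt, hnorm, hqQ, hsup, hrel₁, hrel₁.L_le, ?_, h.Q_norm_L hqQ, ?_,
    hrel₁.not_dvd_C, ⟨a, hqord⟩, fun k => ?_⟩
  · exact fun k hk => h.K_norm hk.1
  · exact hrel₁.mem_normalizer_C (h.Q_norm_L hqQ) (h.Q_norm_K hqQ) (hnorm hqQ)
  · rw [h.mem_iff]
    constructor
    · exact fun hk => ⟨⟨hk.1, fun x hx => hk.2 x (hQ₁le hx)⟩, hk.2 q hqQ⟩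
    · intro hk
      refine ⟨hk.1.1, fun x hx => ?_⟩
      have hle : Q ≤ fixingSubgroup' h.Q_norm_L k := by
        exact hsup.symm.le.trans
          (sup_le (fun y hy => ⟨hQ₁le hy, hk.1.2 y hy⟩) (Subgroup.zpowers_le.2 ⟨hqQ, hk.2⟩))
      exact (hle hx).2

/-- The three properties of the correspondence. -/
def CorrProps (p : ℕ) (K C Q : Subgroup G) : Prop :=
  (∀ θ, IsIrrOn K θ → Q ≤ stab θ → ∃ ξ₀, IsIrrOn C ξ₀ ∧ Q ≤ stab ξ₀ ∧ ∃ S : ZMod p, S ^ 2 = 1 ∧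
      ∀ ξ, IsIrrOn C ξ → Q ≤ stab ξ → (mu C θ ξ : ZMod p) = if ξ = ξ₀ then S else 0) ∧
    (∀ θ θ' ξ, IsIrrOn K θ → Q ≤ stab θ → IsIrrOn K θ' → Q ≤ stab θ' →
      IsCorr p C Q θ ξ → IsCorr p C Q θ' ξ → θ = θ') ∧
    ∀ ξ, IsIrrOn C ξ → Q ≤ stab ξ → ∃ θ, IsIrrOn K θ ∧ Q ≤ stab θ ∧ (mu C θ ξ : ZMod p) ≠ 0

theorem Rel.props {L K C Q : Subgroup G} (h : Rel p L K C Q) : CorrProps p K C Q := by
  induction hn : Nat.card Q using Nat.strong_induction_on generalizing Q C with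
  | _ n ih =>
  subst hn
  by_cases hne : Q = L
  · have hCK : C = K := le_antisymm h.C_le fun k hk => (h.mem_iff k).2 ⟨hk, fun q hq => by
      rw [hne] at hq
      exact mul_mem ((mem_conj_iff (h.K_norm hk) q).2 hq) (inv_mem hq)⟩
    subst hCK
    refine ⟨fun θ hθ hs => ⟨θ, hθ, hs, 1, one_pow 2, fun ξ hξ _ => ?_⟩, fun θ θ' ξ hθ _ hθ' _ h1 h2 => ?_,
      fun ξ hξ hs => ⟨ξ, hξ, hs, by rw [mu_self hξ, Nat.cast_one]; exact one_ne_zero⟩⟩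
    · split_ifs with he
      · rw [he, mu_self hθ, Nat.cast_one]
      · rw [mu_eq_zero hθ hξ (Ne.symm he), Nat.cast_zero]
    · have e1 : θ = ξ := by_contra fun e => h1.2.2 (by rw [mu_eq_zero hθ h1.1 e, Nat.cast_zero])
      have e2 : θ' = ξ := by_contra fun e => h2.2.2 (by rw [mu_eq_zero hθ' h2.1 e, Nat.cast_zero])
      rw [e1, e2]
  obtain ⟨Q₁, q, hK, hLQ₁, hlt, hnorm, hqQ, hsup, h₁, hc⟩ := h.exists_step hne
  set C₁ := relFix hK Q₁ with hC₁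
  have hcard : Nat.card Q₁ < Nat.card Q := by
    refine Nat.lt_of_not_le fun hle => hlt.ne ?_
    exact SetLike.coe_injective (Set.eq_of_subset_of_ncard_le hlt.le
      (by rwa [← Nat.card_coe_set_eq, ← Nat.card_coe_set_eq]) (Set.toFinite _))
  obtain ⟨hex, hinj, hsur⟩ := ih _ hcard h₁ rfl
  have hQC₁ : Q ≤ Subgroup.normalizer (C₁ : Set G) := fun x hx =>
    h₁.mem_normalizer_C (h.Q_norm_L hx) (h.Q_norm_K hx) (hnorm hx)
  have hfix : ∀ {f : G → ℂ}, Q₁ ≤ stab f → ∀ x ∈ Q, Q₁ ≤ stab (cj x f) := fun {f} hf x hx y hy =>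
    stab_cj (hf ((mem_conj_iff (hnorm hx) y).2 hy))
  -- fixed correspondents stay fixed under `Q`
  have hQfix : ∀ θ η, IsIrrOn K θ → Q ≤ stab θ → IsCorr p C₁ Q₁ θ η → Q ≤ stab η := by
    intro θ η hθ hs hη x hx
    obtain ⟨ξ₁, hξ₁, -, S, -, hmu⟩ := hex θ hθ (hlt.le.trans hs)
    have e1 : η = ξ₁ := by_contra fun e => hη.2.2 (by rw [hmu η hη.1 hη.2.1, if_neg e])
    have h2 := hmu _ (hη.1.cj (hQC₁ hx)) (hfix hη.2.1 x hx)
    rw [mu_cj_of_fixed (hQC₁ hx) (hs hx)] at h2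
    have e2 : cj x η = ξ₁ := by_contra fun e => hη.2.2 (by rw [h2, if_neg e])
    rw [mem_stab, e2, e1]
  have htrans : ∀ θ η ξ S, IsIrrOn K θ → Q ≤ stab θ → IsIrrOn C₁ η → Q ≤ stab η →
      (∀ ζ, IsIrrOn C₁ ζ → Q₁ ≤ stab ζ → (mu C₁ θ ζ : ZMod p) = if ζ = η then S else 0) →
      IsIrrOn C ξ → Q ≤ stab ξ → (mu C θ ξ : ZMod p) = S * (mu C η ξ : ZMod p) := by
    intro θ η ξ S hθ hs hη hsη hmu hξ hsξ
    rw [mu_trans_fixed hc.C_le (hθ.isCharOn.mono h₁.C_le) hξ h.Q_norm_C hQC₁ hs hsξ (h.pow_mem h₁.L_le),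
      Finset.sum_eq_single η]
    · rw [hmu η hη (hlt.le.trans hsη), if_pos rfl]
    · intro ζ hζ hne'
      rw [mem_fixedIrr] at hζ
      rw [hmu ζ hζ.1 (hlt.le.trans hζ.2), if_neg hne', zero_mul]
    · exact fun hni => absurd (mem_fixedIrr.2 ⟨hη, hsη⟩) hni
  refine ⟨fun θ hθ hs => ?_, fun θ θ' ξ hθ hs hθ' hs' h1 h2 => ?_, fun ξ hξ hsξ => ?_⟩
  · obtain ⟨ξ₁, hξ₁, hs₁, S₁, hS₁, hmu₁⟩ := hex θ hθ (hlt.le.trans hs)
    have hξ₁Q : Q ≤ stab ξ₁ := hQfix θ ξ₁ hθ hs ⟨hξ₁, hs₁, by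
      rw [hmu₁ ξ₁ hξ₁ hs₁, if_pos rfl]
      intro e
      rw [e, pow_two, mul_zero] at hS₁
      exact zero_ne_one hS₁⟩
    obtain ⟨ξ₀, hξ₀, hq₀, S₀, hS₀, hmu₀⟩ := hc.exists_corr hξ₁ (hξ₁Q hqQ)
    have hS0 : S₀ ≠ 0 := fun e => by
      rw [e, pow_two, mul_zero] at hS₀
      exact zero_ne_one hS₀
    have hξ₀Q : Q ≤ stab ξ₀ := by
      -- some `Q`-fixed character attains a nonzero multiplicity
      have hex' : ∃ ξ, IsIrrOn C ξ ∧ Q ≤ stab ξ ∧ (mu C ξ₁ ξ : ZMod p) ≠ 0 := by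
        have h1 : ∀ (R : Subgroup G), R ≤ Q →
            ((∑ ξ ∈ irrOn C, mu C ξ₁ ξ * mu C ξ₁ ξ : ℕ) : ZMod p) =
              ∑ ξ ∈ fixedIrr C R, ((mu C ξ₁ ξ * mu C ξ₁ ξ : ℕ) : ZMod p) := by
          intro R hR
          exact sum_fixed (Q := R) (irrOn C)
            (fun x hx ξ hξ => mem_irrOn.2 ((mem_irrOn.1 hξ).cj (h.Q_norm_C (hR hx))))
            (fun x hx => (h.pow x (hR hx)).imp fun a ha ξ hξ => h.L_le_stab h.L_le (mem_irrOn.1 hξ) ha)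
            (fun ξ => mu C ξ₁ ξ * mu C ξ₁ ξ)
            (fun x hx ξ _ => by
              show mu C ξ₁ (cj x ξ) * mu C ξ₁ (cj x ξ) = _
              rw [mu_cj_of_fixed (h.Q_norm_C (hR hx)) (hξ₁Q (hR hx))])
        by_contra hno
        push Not at hno
        have h2 := (h1 (Subgroup.zpowers q) (Subgroup.zpowers_le.2 hqQ)).symm.trans (h1 Q le_rfl)
        rw [Finset.sum_eq_single ξ₀, Finset.sum_eq_zero] at h2
        · rw [Nat.cast_mul, hmu₀ ξ₀ hξ₀ hq₀, if_pos rfl] at h2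
          exact hS0 (mul_self_eq_zero.1 h2)
        · intro ξ hξ
          rw [mem_fixedIrr] at hξ
          rw [Nat.cast_mul, hno ξ hξ.1 hξ.2, mul_zero]
        · intro ξ hξ hne'
          rw [mem_fixedIrr, Subgroup.zpowers_le] at hξ
          rw [Nat.cast_mul, hmu₀ ξ hξ.1 hξ.2, if_neg hne', mul_zero]
        · exact fun hni => absurd (mem_fixedIrr.2 ⟨hξ₀, Subgroup.zpowers_le.2 hq₀⟩) hni
      obtain ⟨ξ, hξ, hsξ, hne'⟩ := hex'
      have e : ξ = ξ₀ := by_contra fun e => hne' (by rw [hmu₀ ξ hξ (hsξ hqQ), if_neg e])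
      exact e ▸ hsξ
    refine ⟨ξ₀, hξ₀, hξ₀Q, S₁ * S₀, by rw [mul_pow, hS₁, hS₀, mul_one], fun ξ hξ hsξ => ?_⟩
    rw [htrans θ ξ₁ ξ S₁ hθ hs hξ₁ hξ₁Q hmu₁ hξ hsξ, hmu₀ ξ hξ (hsξ hqQ)]
    split_ifs <;> simp
  · obtain ⟨η, hη, hsη, S, hS, hmu⟩ := hex θ hθ (hlt.le.trans hs)
    obtain ⟨η', hη', hsη', S', hS', hmu'⟩ := hex θ' hθ' (hlt.le.trans hs')
    have hnz : ∀ {T : ZMod p}, T ^ 2 = 1 → T ≠ 0 := fun {T} hT e => by
      rw [e, pow_two, mul_zero] at hT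
      exact zero_ne_one hT
    have hc1 : IsCorr p C₁ Q₁ θ η := ⟨hη, hsη, by rw [hmu η hη hsη, if_pos rfl]; exact hnz hS⟩
    have hc2 : IsCorr p C₁ Q₁ θ' η' := ⟨hη', hsη', by rw [hmu' η' hη' hsη', if_pos rfl]; exact hnz hS'⟩
    have hQη := hQfix θ η hθ hs hc1
    have hQη' := hQfix θ' η' hθ' hs' hc2
    have hm1 : (mu C η ξ : ZMod p) ≠ 0 := fun e => h1.2.2 (by
      rw [htrans θ η ξ S hθ hs hη hQη hmu h1.1 h1.2.1, e, mul_zero])
    have hm2 : (mu C η' ξ : ZMod p) ≠ 0 := fun e => h2.2.2 (by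
      rw [htrans θ' η' ξ S' hθ' hs' hη' hQη' hmu' h2.1 h2.2.1, e, mul_zero])
    have := hc.injective hη (hQη hqQ) hη' (hQη' hqQ) h1.1 (h1.2.1 hqQ) hm1 hm2
    subst this
    exact hinj θ θ' η hθ (hlt.le.trans hs) hθ' (hlt.le.trans hs') hc1 hc2
  · obtain ⟨η₀, hη₀, hqη₀, hm₀⟩ := hc.surjective hξ (hsξ hqQ)
    have h1 : ∀ (R : Subgroup G), R ≤ Q →
        ((∑ η ∈ irrOn C₁, mu C η ξ * mu C η ξ : ℕ) : ZMod p) =
          ∑ η ∈ fixedIrr C₁ R, ((mu C η ξ * mu C η ξ : ℕ) : ZMod p) := by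
      intro R hR
      exact sum_fixed (Q := R) (irrOn C₁)
        (fun x hx η hη => mem_irrOn.2 ((mem_irrOn.1 hη).cj (hQC₁ (hR hx))))
        (fun x hx => (h.pow x (hR hx)).imp fun a ha η hη => h.L_le_stab h₁.L_le (mem_irrOn.1 hη) ha)
        (fun η => mu C η ξ * mu C η ξ)
        (fun x hx η _ => by
          show mu C (cj x η) ξ * mu C (cj x η) ξ = _
          conv_lhs => rw [← mem_stab.1 (hsξ (hR hx)), mu_cj (h.Q_norm_C (hR hx))])
    have huniq : ∀ η, IsIrrOn C₁ η → q ∈ stab η → (mu C η ξ : ZMod p) ≠ 0 → η = η₀ := fun η hη hq hm =>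
      hc.injective hη hq hη₀ hqη₀ hξ (hsξ hqQ) hm hm₀
    have h2 : ∃ η, IsIrrOn C₁ η ∧ Q ≤ stab η ∧ (mu C η ξ : ZMod p) ≠ 0 := by
      by_contra hno
      push Not at hno
      have h3 := (h1 (Subgroup.zpowers q) (Subgroup.zpowers_le.2 hqQ)).symm.trans (h1 Q le_rfl)
      rw [Finset.sum_eq_single η₀, Finset.sum_eq_zero] at h3
      · rw [Nat.cast_mul] at h3
        exact hm₀ (mul_self_eq_zero.1 h3)
      · intro η hη
        rw [mem_fixedIrr] at hη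
        rw [Nat.cast_mul, hno η hη.1 hη.2, mul_zero]
      · intro η hη hne'
        rw [mem_fixedIrr, Subgroup.zpowers_le] at hη
        by_contra hmm
        exact hne' (huniq η hη.1 hη.2 fun e => hmm (by rw [Nat.cast_mul, e, mul_zero]))
      · exact fun hni => absurd (mem_fixedIrr.2 ⟨hη₀, Subgroup.zpowers_le.2 hqη₀⟩) hni
    obtain ⟨η, hη, hsη, hmη⟩ := h2
    obtain ⟨θ, hθ, hs₁, hm⟩ := hsur η hη (hlt.le.trans hsη)
    have hθQ : Q ≤ stab θ := by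
      intro x hx
      refine hinj _ θ η (hθ.cj (h.Q_norm_K hx)) (hfix hs₁ x hx) hθ hs₁ ⟨hη, hlt.le.trans hsη, ?_⟩
        ⟨hη, hlt.le.trans hsη, hm⟩
      conv => enter [1, 1]; rw [← mem_stab.1 (hsη hx), mu_cj (hQC₁ hx)]
      exact hm
    obtain ⟨ξ₁, hξ₁, hs₁', S, hS, hmu⟩ := hex θ hθ hs₁
    have e : η = ξ₁ := by_contra fun e => hm (by rw [hmu η hη (hlt.le.trans hsη), if_neg e])
    subst e
    refine ⟨θ, hθ, hθQ, ?_⟩
    rw [htrans θ η ξ S hθ hθQ hη hsη hmu hξ hsξ]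
    exact mul_ne_zero (fun e => by rw [e, pow_two, mul_zero] at hS; exact zero_ne_one hS) hmη

namespace Rel

variable {L K C Q : Subgroup G} (h : Rel p L K C Q)
include h

theorem exists_corr {θ : G → ℂ} (hθ : IsIrrOn K θ) (hs : Q ≤ stab θ) : ∃ ξ, IsCorr p C Q θ ξ := by
  obtain ⟨ξ, hξ, hsξ, S, hS, hmu⟩ := h.props.1 θ hθ hs
  refine ⟨ξ, hξ, hsξ, ?_⟩
  rw [hmu ξ hξ hsξ, if_pos rfl]
  intro e
  rw [e, pow_two, mul_zero] at hS
  exact zero_ne_one hS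

theorem unique {θ ξ ξ' : G → ℂ} (hθ : IsIrrOn K θ) (hs : Q ≤ stab θ) (h1 : IsCorr p C Q θ ξ)
    (h2 : IsCorr p C Q θ ξ') : ξ = ξ' := by
  obtain ⟨ξ₀, -, -, S, -, hmu⟩ := h.props.1 θ hθ hs
  have e1 : ξ = ξ₀ := by_contra fun e => h1.2.2 (by rw [hmu ξ h1.1 h1.2.1, if_neg e])
  have e2 : ξ' = ξ₀ := by_contra fun e => h2.2.2 (by rw [hmu ξ' h2.1 h2.2.1, if_neg e])
  rw [e1, e2]

theorem injective {θ θ' ξ : G → ℂ} (hθ : IsIrrOn K θ) (hs : Q ≤ stab θ) (hθ' : IsIrrOn K θ')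
    (hs' : Q ≤ stab θ') (h1 : IsCorr p C Q θ ξ) (h2 : IsCorr p C Q θ' ξ) : θ = θ' :=
  h.props.2.1 θ θ' ξ hθ hs hθ' hs' h1 h2

theorem surjective {ξ : G → ℂ} (hξ : IsIrrOn C ξ) (hs : Q ≤ stab ξ) :
    ∃ θ, IsIrrOn K θ ∧ Q ≤ stab θ ∧ IsCorr p C Q θ ξ := by
  obtain ⟨θ, hθ, hsθ, hm⟩ := h.props.2.2 ξ hξ hs
  exact ⟨θ, hθ, hsθ, hξ, hs, hm⟩

/-- Compatibility with conjugation. -/
theorem corr_cj {θ ξ : G → ℂ} (h1 : IsCorr p C Q θ ξ) {x : G}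
    (hL : x ∈ Subgroup.normalizer (L : Set G)) (hK : x ∈ Subgroup.normalizer (K : Set G))
    (hQ : x ∈ Subgroup.normalizer (Q : Set G)) : IsCorr p C Q (cj x θ) (cj x ξ) := by
  have hC := h.mem_normalizer_C hL hK hQ
  refine ⟨h1.1.cj hC, fun y hy => stab_cj (h1.2.1 ((mem_conj_iff hQ y).2 hy)), ?_⟩
  rw [mu_cj hC]
  exact h1.2.2

/-- The degree of the correspondent modulo `p`. -/
theorem deg_corr {θ ξ : G → ℂ} (hθ : IsIrrOn K θ) (hs : Q ≤ stab θ) (h1 : IsCorr p C Q θ ξ) :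
    (deg θ : ZMod p) = (mu C θ ξ : ZMod p) * (deg ξ : ZMod p) := by
  obtain ⟨ξ₀, -, -, S, -, hmu⟩ := h.props.1 θ hθ hs
  have e1 : ξ = ξ₀ := by_contra fun e => h1.2.2 (by rw [hmu ξ h1.1 h1.2.1, if_neg e])
  rw [deg_eq_sum (hθ.isCharOn.mono h.C_le), sum_fixed (Q := Q) (irrOn C)
    (fun x hx η hη => mem_irrOn.2 ((mem_irrOn.1 hη).cj (h.Q_norm_C hx)))
    (fun x hx => (h.pow x hx).imp fun a ha η hη => h.L_le_stab h.L_le (mem_irrOn.1 hη) ha)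
    (fun η => mu C θ η * deg η)
    (fun x hx η _ => by
      show mu C θ (cj x η) * deg (cj x η) = _
      rw [mu_cj_of_fixed (h.Q_norm_C hx) (hs hx), deg_cj])]
  rw [Finset.sum_eq_single ξ, Nat.cast_mul]
  · intro η hη hne
    rw [Finset.mem_filter, mem_irrOn] at hη
    rw [Nat.cast_mul, hmu η hη.1 hη.2, if_neg (e1 ▸ hne), zero_mul]
  · exact fun hni => absurd (Finset.mem_filter.2 ⟨mem_irrOn.2 h1.1, h1.2.1⟩) hni

theorem deg_dvd_iff {θ ξ : G → ℂ} (hθ : IsIrrOn K θ) (hs : Q ≤ stab θ) (h1 : IsCorr p C Q θ ξ) :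
    p ∣ deg θ ↔ p ∣ deg ξ := by
  rw [← ZMod.natCast_eq_zero_iff, ← ZMod.natCast_eq_zero_iff, h.deg_corr hθ hs h1, mul_eq_zero,
    or_iff_right h1.2.2]

/-- The multiplicity over `L` of a constituent is prime to `p`. -/
theorem mu_L_ne_zero {θ ν : G → ℂ} (hθ : IsIrrOn K θ) (hν : IsIrrOn L ν) (hm : mu L θ ν ≠ 0) :
    (mu L θ ν : ZMod p) ≠ 0 := by
  haveI : (L.subgroupOf K).Normal := (Subgroup.normal_subgroupOf_iff_le_normalizer h.le).2 h.K_norm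
  haveI := Fintype.ofFinite K
  haveI := Fintype.ofFinite L
  haveI := Fintype.ofFinite (L.subgroupOf K)
  let e : L.subgroupOf K ≃* L := Subgroup.subgroupOfEquivOfLe h.le
  have hip : ip L θ ν = classInner (fun n : L.subgroupOf K => θ ((n : K) : G)) (fun n => ν (e n)) := by
    rw [ip_eq, ← Clifford.classInner_comp_mulEquiv e]
    rfl
  have hν' := isIrrCharacter_comp_mulEquiv hν.1 e
  have hne : classInner (fun n : L.subgroupOf K => θ ((n : K) : G)) (fun n => ν (e n)) ≠ 0 := by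
    rw [← hip, ip_eq_mu (hθ.isCharOn.mono h.le) hν]
    exact_mod_cast hm
  obtain ⟨r, hr, hr1⟩ := RealChar.degree_div_dvd_index (L.subgroupOf K) hθ.1 hν' hne
  have h2 := Clifford.apply_one_eq (L.subgroupOf K) hθ.1 hν' hne
  rw [← hip, ip_eq_mu (hθ.isCharOn.mono h.le) hν] at h2
  rw [hr1] at h2
  have h3 := mul_right_cancel₀ (apply_one_ne_zero_of_isIrr hν') h2
  intro h0
  refine h.not_dvd (dvd_trans ?_ hr)
  have h4 : r = mu L θ ν * (Clifford.conjOrbit (L.subgroupOf K) fun n => ν (e n)).card := by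
    exact_mod_cast h3
  rw [h4]
  exact dvd_mul_of_dvd_left ((ZMod.natCast_eq_zero_iff _ _).1 h0) _

/-- Lying over a fixed character of `L` is preserved. -/
theorem over_iff {θ ξ ν : G → ℂ} (hθ : IsIrrOn K θ) (hs : Q ≤ stab θ) (h1 : IsCorr p C Q θ ξ)
    (hν : IsIrrOn L ν) (hsν : Q ≤ stab ν) : mu L θ ν ≠ 0 ↔ mu L ξ ν ≠ 0 := by
  constructor
  · intro hm
    obtain ⟨ξ₀, -, -, S, -, hmu⟩ := h.props.1 θ hθ hs
    have e1 : ξ = ξ₀ := by_contra fun e => h1.2.2 (by rw [hmu ξ h1.1 h1.2.1, if_neg e])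
    have h2 := mu_trans_fixed h.L_le (hθ.isCharOn.mono h.C_le) hν h.Q_norm_L h.Q_norm_C hs hsν
      (h.pow_mem h.L_le) (p := p)
    rw [Finset.sum_eq_single ξ] at h2
    · intro h0
      refine h.mu_L_ne_zero hθ hν hm ?_
      rw [h2, h0, Nat.cast_zero, mul_zero]
    · intro η hη hne
      rw [mem_fixedIrr] at hη
      rw [hmu η hη.1 hη.2, if_neg (e1 ▸ hne), zero_mul]
    · exact fun hni => absurd (mem_fixedIrr.2 ⟨h1.1, h1.2.1⟩) hni
  · intro hm h0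
    rw [mu_trans h.L_le (hθ.isCharOn.mono h.C_le) hν] at h0
    have := Finset.sum_eq_zero_iff.1 h0 ξ (mem_irrOn.2 h1.1)
    rcases Nat.mul_eq_zero.1 this with h2 | h2
    · exact h1.2.2 (by rw [h2, Nat.cast_zero])
    · exact hm h2

end Rel

end

end CfsgLib.RelMcKay
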