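import Mathlib
import Cfsg.Agent.Lib.RelMcKay.Corr
import Cfsg.Agent.Lib.CharTheory.Linear

/-!
# Extensions over an abelian quotient, and some subgroup arithmetic
-/

set_option autoImplicit false
set_option linter.style.haveILetI false
set_option linter.unusedSectionVars false

open scoped ComplexConjugate Pointwise
open Cfsg CfsgLib.CharTheory

namespace CfsgLib.RelMcKay

noncomputable section

open scoped Classical

variable {G : Type*} [Group G] [Finite G] {p : ℕ} [hp : Fact p.Prime]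

/-- The index over a normalized subgroup. -/
theorem relIndex_sup' {A R : Subgroup G} (hR : R ≤ Subgroup.normalizer (A : Set G)) :
    A.relIndex (A ⊔ R) = A.relIndex R := by
  haveI : (A.subgroupOf (A ⊔ R)).Normal := (Subgroup.normal_subgroupOf_iff_le_normalizer le_sup_left).2
    (sup_le Subgroup.le_normalizer hR)
  have h1 := Subgroup.relIndex_sup_left (K := A.subgroupOf (A ⊔ R)) (H := R.subgroupOf (A ⊔ R))
  rw [← Subgroup.subgroupOf_sup le_sup_left le_sup_right, Subgroup.subgroupOf_self,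
    Subgroup.relIndex_top_right, Subgroup.relIndex_subgroupOf le_sup_right] at h1
  exact h1

theorem mem_sup' {A R : Subgroup G} (hR : R ≤ Subgroup.normalizer (A : Set G)) {x : G}
    (hx : x ∈ A ⊔ R) : ∃ a ∈ A, ∃ r ∈ R, a * r = x := by
  have hx' : x ∈ (A : Set G) * (R : Set G) := by
    rw [← Subgroup.coe_mul_of_right_le_normalizer_left A R hR]
    exact hx
  exact hx'

/-- Commutators of a product with commutators inside. -/
theorem comm_mem_sup {A C R : Subgroup G} (hCA : C ≤ A) (hR : R ≤ Subgroup.normalizer (A : Set G))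
    (hcomm : ∀ r ∈ R, ∀ r' ∈ R, r * r' * r⁻¹ * r'⁻¹ ∈ C) :
    ∀ x ∈ A ⊔ R, ∀ y ∈ A ⊔ R, x * y * x⁻¹ * y⁻¹ ∈ A := by
  intro x hx y hy
  obtain ⟨a, ha, r, hr, rfl⟩ := mem_sup' hR hx
  obtain ⟨b, hb, s, hs, rfl⟩ := mem_sup' hR hy
  rw [show a * r * (b * s) * (a * r)⁻¹ * (b * s)⁻¹ =
    a * (r * b * r⁻¹) * (r * s * r⁻¹ * s⁻¹) * (s * a⁻¹ * s⁻¹) * b⁻¹ by group]
  exact mul_mem (mul_mem (mul_mem (mul_mem ha ((mem_conj_iff (hR hr) b).2 hb)) (hCA (hcomm r hr s hs)))
    ((mem_conj_iff (hR hs) _).2 (inv_mem ha))) (inv_mem hb)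

/-- Restriction with support. -/
def cut (H : Subgroup G) (f : G → ℂ) : G → ℂ := fun x => if x ∈ H then f x else 0

theorem cut_of_mem {H : Subgroup G} {f : G → ℂ} {x : G} (hx : x ∈ H) : cut H f x = f x := if_pos hx

theorem isIrrOn_cut {H : Subgroup G} {f : G → ℂ} (hf : IsIrrCharacter H (fun h : H => f h)) :
    IsIrrOn H (cut H f) :=
  ⟨by rwa [show (fun h : H => cut H f h) = fun h : H => f h from funext fun h => cut_of_mem h.2],
    fun g hg => if_neg hg⟩

theorem cj_cut {H : Subgroup G} {f : G → ℂ} {g : G} (hg : g ∈ Subgroup.normalizer (H : Set G)) :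
    cj g (cut H f) = cut H (cj g f) := by
  funext x
  simp only [cj, cut, mem_conj_iff hg]

/-- Extensions. -/
def ExtTo (B H : Subgroup G) (θ : G → ℂ) : Prop := ∃ f, IsIrrOn H f ∧ ∀ x ∈ B, f x = θ x

theorem mu_eq_of_res {B H : Subgroup G} {θ f : G → ℂ} (hθ : IsIrrOn B θ) (hres : ∀ x ∈ B, f x = θ x)
    (η : G → ℂ) (hη : IsIrrOn B η) : mu B f η = if η = θ then 1 else 0 := by
  rw [mu_congr hres (fun x _ => rfl)]
  split_ifs with h
  · rw [h, mu_self hθ]
  · exact mu_eq_zero hθ hη (Ne.symm h)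

/-- A restriction stays irreducible below. -/
theorem ExtTo.mono {B H H' : Subgroup G} (hB : B ≤ H') (hH : H' ≤ H) {θ : G → ℂ}
    (hθ : IsIrrOn B θ) (h : ExtTo B H θ) : ExtTo B H' θ := by
  obtain ⟨f, hf, hres⟩ := h
  refine ⟨cut H' f, isIrrOn_cut ?_, fun x hx => (cut_of_mem (hB hx)).trans (hres x hx)⟩
  have hc : IsCharOn H' f := hf.isCharOn.mono hH
  obtain ⟨η, hη, hmu⟩ := exists_mu_ne_zero hc (by rw [hf.isCharOn.apply_one]; exact_mod_cast hf.deg_pos.ne')
  -- degrees force a single constituent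
  have hdf : deg f = deg θ := by
    have h1 : (f 1) = θ 1 := hres 1 (one_mem B)
    rw [hf.isCharOn.apply_one, hθ.isCharOn.apply_one] at h1
    exact_mod_cast h1
  have hover : mu B η θ ≠ 0 := by
    intro h0
    obtain ⟨ζ, hζ, hmz⟩ := exists_mu_ne_zero (hη.isCharOn.mono hB)
      (by rw [hη.isCharOn.apply_one]; exact_mod_cast hη.deg_pos.ne')
    have h2 := mu_trans hB hc hζ
    rw [mu_eq_of_res (H := H) hθ hres ζ hζ] at h2
    by_cases hz : ζ = θ
    · exact hmz (hz ▸ h0)
    · rw [if_neg hz, eq_comm, Finset.sum_eq_zero_iff] at h2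
      exact (Nat.mul_ne_zero hmu hmz) (h2 η (mem_irrOn.2 hη))
  have hdη : deg θ ≤ deg η := by
    rw [deg_eq_sum (hη.isCharOn.mono hB)]
    exact le_trans (Nat.le_mul_of_pos_left _ (Nat.pos_of_ne_zero hover))
      (Finset.single_le_sum (f := fun ζ => mu B η ζ * deg ζ) (fun _ _ => Nat.zero_le _) (mem_irrOn.2 hθ))
  have hdec := deg_eq_sum hc
  rw [← Finset.add_sum_erase _ _ (mem_irrOn.2 hη)] at hdec
  have h3 : deg η ≤ mu H' f η * deg η := Nat.le_mul_of_pos_left _ (Nat.pos_of_ne_zero hmu)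
  have hrest : ∑ ζ ∈ (irrOn H').erase η, mu H' f ζ * deg ζ = 0 := by omega
  have hone : mu H' f η = 1 := by
    have : mu H' f η * deg η = 1 * deg η := by rw [one_mul]; omega
    exact Nat.eq_of_mul_eq_mul_right hη.deg_pos this
  have heq : ∀ x ∈ H', f x = η x := by
    intro x hx
    rw [hc.decomp hx, ← Finset.add_sum_erase _ _ (mem_irrOn.2 hη), hone, Nat.cast_one, one_mul,
      Finset.sum_eq_zero (fun ζ hζ => ?_), add_zero]
    have h5 := Finset.sum_eq_zero_iff.1 hrest ζ hζ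
    rcases Nat.mul_eq_zero.1 h5 with h6 | h6
    · rw [h6, Nat.cast_zero, zero_mul]
    · exact absurd h6 (mem_irrOn.1 (Finset.mem_of_mem_erase hζ)).deg_pos.ne'
  rw [show (fun h : H' => f h) = fun h : H' => η h from funext fun h => heq h h.2]
  exact hη.1

/-- At least as many characters over `θ` as the index forces extensions. -/
theorem res_eq_of_many {B H : Subgroup G} (hBH : B ≤ H) {θ : G → ℂ} (hθ : IsIrrOn B θ)
    (s : Finset (G → ℂ)) (hs : ∀ f ∈ s, IsIrrOn H f ∧ mu B f θ ≠ 0)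
    (hcard : B.relIndex H ≤ s.card) : ∀ f ∈ s, ∀ x ∈ B, f x = θ x := by
  haveI := Fintype.ofFinite H
  haveI := Fintype.ofFinite B
  haveI := Fintype.ofFinite (B.subgroupOf H)
  let e : B.subgroupOf H ≃* B := Subgroup.subgroupOfEquivOfLe hBH
  let θ' : B.subgroupOf H → ℂ := fun n => θ (e n)
  let F : G → ℂ := extendByZero H (indFun (B.subgroupOf H) θ')
  have hF : IsCharOn H F := by
    rw [IsCharOn, extend_coe]
    exact Frobenius.isCharacter_indFun _ _
      (Coherence.isCharacter_comp hθ.isCharOn e.toMonoidHom)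
  have hF1 : deg F = B.relIndex H * deg θ := by
    have h1 : F 1 = (B.relIndex H : ℂ) * (deg θ : ℂ) := by
      show extendByZero H (indFun (B.subgroupOf H) θ') ((1 : H) : G) = _
      rw [Frobenius.extendByZero_coe, Frobenius.indFun_one, ← hθ.isCharOn.apply_one]
      rfl
    rw [hF.apply_one] at h1
    exact_mod_cast h1
  have hmuF : ∀ f, IsIrrOn H f → mu H F f = mu B f θ := by
    intro f hf
    have h2 : ip H F f = conj (ip B f θ) := by
      rw [ip_eq, extend_coe, Frobenius.classInner_indFun _ _ _ (IsIrrCharacter.isClassFunction hf.1),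
        classInner_conj_symm, ip_eq, ← Clifford.classInner_comp_mulEquiv e]
      rfl
    rw [ip_eq_mu hF hf, ip_eq_mu (hf.isCharOn.mono hBH) hθ, Complex.conj_natCast] at h2
    exact_mod_cast h2
  have hdeg := deg_eq_sum hF
  rw [hF1] at hdeg
  have hle : ∀ f ∈ s, deg θ ≤ deg f ∧ deg θ ≤ mu B f θ * deg f := by
    intro f hf
    have h1 : mu B f θ * deg θ ≤ deg f := by
      rw [deg_eq_sum ((hs f hf).1.isCharOn.mono hBH)]
      exact Finset.single_le_sum (f := fun ζ => mu B f ζ * deg ζ) (fun _ _ => Nat.zero_le _)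
        (mem_irrOn.2 hθ)
    have h2 : deg θ ≤ mu B f θ * deg θ := Nat.le_mul_of_pos_left _ (Nat.pos_of_ne_zero (hs f hf).2)
    exact ⟨h2.trans h1, (h2.trans h1).trans (Nat.le_mul_of_pos_left _ (Nat.pos_of_ne_zero (hs f hf).2))⟩
  have htot : ∑ f ∈ s, mu B f θ * deg f ≤ ∑ f ∈ s, deg θ := by
    calc ∑ f ∈ s, mu B f θ * deg f = ∑ f ∈ s, mu H F f * deg f :=
          Finset.sum_congr rfl fun f hf => by rw [hmuF f (hs f hf).1]
      _ ≤ ∑ f ∈ irrOn H, mu H F f * deg f :=
          Finset.sum_le_sum_of_subset fun f hf => mem_irrOn.2 (hs f hf).1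
      _ = B.relIndex H * deg θ := hdeg.symm
      _ ≤ s.card * deg θ := Nat.mul_le_mul_right _ hcard
      _ = ∑ f ∈ s, deg θ := by rw [Finset.sum_const, smul_eq_mul]
  intro f hf x hx
  have heq : mu B f θ * deg f = deg θ :=
    ((Finset.sum_eq_sum_iff_of_le fun f hf => (hle f hf).2).1
      (le_antisymm (Finset.sum_le_sum fun f hf => (hle f hf).2) htot) f hf).symm
  have hdf : deg f = deg θ := le_antisymm
    (heq ▸ Nat.le_mul_of_pos_left _ (Nat.pos_of_ne_zero (hs f hf).2)) (hle f hf).1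
  have hm1 : mu B f θ = 1 := by
    refine Nat.eq_of_mul_eq_mul_right (hs f hf).1.deg_pos ?_
    rw [one_mul, heq, hdf]
  have hdec := deg_eq_sum ((hs f hf).1.isCharOn.mono hBH)
  rw [← Finset.add_sum_erase _ _ (mem_irrOn.2 hθ), hm1, one_mul, hdf] at hdec
  rw [((hs f hf).1.isCharOn.mono hBH).decomp hx, ← Finset.add_sum_erase _ _ (mem_irrOn.2 hθ), hm1,
    Nat.cast_one, one_mul, Finset.sum_eq_zero (fun ζ hζ => ?_), add_zero]
  have hz : ∑ ζ ∈ (irrOn B).erase θ, mu B f ζ * deg ζ = 0 := by omega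
  rcases Nat.mul_eq_zero.1 (Finset.sum_eq_zero_iff.1 hz ζ hζ) with h5 | h5
  · rw [h5, Nat.cast_zero, zero_mul]
  · exact absurd h5 (mem_irrOn.1 (Finset.mem_of_mem_erase hζ)).deg_pos.ne'

/-- The linear characters of `H` trivial on `A`. -/
abbrev Lin (A H : Subgroup G) : Type _ := {l : H →* ℂˣ // ∀ x : H, (x : G) ∈ A → l x = 1}

instance (H : Subgroup G) : Finite (H →* ℂˣ) :=
  Finite.of_equiv _ (linearEquivHom (G := H))

instance (A H : Subgroup G) : Finite (Lin A H) := Subtype.finite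

theorem card_lin {A H : Subgroup G} (hH : H ≤ Subgroup.normalizer (A : Set G))
    (hAH : A ≤ H) (hab : ∀ x ∈ H, ∀ y ∈ H, x * y * x⁻¹ * y⁻¹ ∈ A) :
    Nat.card (Lin A H) = A.relIndex H := by
  haveI : (A.subgroupOf H).Normal := (Subgroup.normal_subgroupOf_iff_le_normalizer hAH).2 hH
  letI : CommGroup (H ⧸ A.subgroupOf H) :=
    { (inferInstance : Group (H ⧸ A.subgroupOf H)) with
      mul_comm := fun a b => by
        obtain ⟨x, rfl⟩ := QuotientGroup.mk_surjective a
        obtain ⟨y, rfl⟩ := QuotientGroup.mk_surjective b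
        rw [← QuotientGroup.mk_mul, ← QuotientGroup.mk_mul, QuotientGroup.eq, Subgroup.mem_subgroupOf]
        have h1 := hab (y : G)⁻¹ (inv_mem y.2) (x : G)⁻¹ (inv_mem x.2)
        simpa [mul_assoc] using h1 }
  rw [Subgroup.relIndex, Subgroup.index_eq_card, ← CommGroup.card_monoidHom_of_hasEnoughRootsOfUnity
    (H ⧸ A.subgroupOf H) ℂ]
  exact Nat.card_congr
    { toFun := fun l => QuotientGroup.lift _ l.1 fun x hx => l.2 x hx
      invFun := fun m => ⟨m.comp (QuotientGroup.mk' _), fun x hx => by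
        rw [MonoidHom.comp_apply, QuotientGroup.mk'_apply,
          (QuotientGroup.eq_one_iff _).2 (Subgroup.mem_subgroupOf.2 hx), map_one]⟩
      left_inv := fun l => Subtype.ext (MonoidHom.ext fun x => rfl)
      right_inv := fun m => by
        refine MonoidHom.ext fun x => ?_
        obtain ⟨x, rfl⟩ := QuotientGroup.mk_surjective x
        rfl }

/-- Multiplication by a linear character of `H`. -/
def mulLin {A H : Subgroup G} (l : Lin A H) (f : G → ℂ) : G → ℂ :=
  fun x => if hx : x ∈ H then (l.1 ⟨x, hx⟩ : ℂ) * f x else 0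

theorem mulLin_of_mem {A H : Subgroup G} (l : Lin A H) (f : G → ℂ) {x : G} (hx : x ∈ H) :
    mulLin l f x = (l.1 ⟨x, hx⟩ : ℂ) * f x := dif_pos hx

theorem mulLin_one {A H : Subgroup G} (l : Lin A H) (f : G → ℂ) {x : G} (hx : x ∈ A) (hxH : x ∈ H) :
    mulLin l f x = f x := by
  rw [mulLin_of_mem l f hxH, l.2 ⟨x, hxH⟩ hx, Units.val_one, one_mul]

theorem isIrrOn_mulLin {A H : Subgroup G} (l : Lin A H) {f : G → ℂ} (hf : IsIrrOn H f) :
    IsIrrOn H (mulLin l f) := by
  refine ⟨?_, fun g hg => dif_neg hg⟩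
  convert Clifford.isIrrCharacter_linFun_mul l.1 hf.1 using 1
  funext x
  simp [mulLin_of_mem l f x.2, Clifford.linFun_apply]

/-- Twists of a character restricting irreducibly to `A` are distinct. -/
theorem mulLin_injective {A H : Subgroup G} (hH : H ≤ Subgroup.normalizer (A : Set G)) (hAH : A ≤ H)
    {f θ : G → ℂ} (hf : IsIrrOn H f) (hθ : IsIrrOn A θ) (hres : ∀ x ∈ A, f x = θ x)
    {l m : Lin A H} (he : mulLin l f = mulLin m f) : l = m := by
  refine Subtype.ext (MonoidHom.ext fun x => ?_)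
  by_contra hne
  have h1 := avg_coset_mul_conj hAH hH hθ hθ hf hf hres hres x.2 (fun _ => rfl)
  rw [if_pos rfl, avg_congr (F' := fun _ => (0 : ℂ)) (fun a ha => ?_), avg_const] at h1
  · exact zero_ne_one h1
  · have hax : a * (x : G) ∈ H := mul_mem (hAH ha) x.2
    have h2 := congrFun he (a * (x : G))
    rw [mulLin_of_mem l f hax, mulLin_of_mem m f hax] at h2
    have hl : ∀ n : Lin A H, n.1 ⟨a * (x : G), hax⟩ = n.1 x := fun n => by
      rw [show (⟨a * (x : G), hax⟩ : H) = ⟨a, hAH ha⟩ * x from rfl, map_mul, n.2 ⟨a, hAH ha⟩ ha, one_mul]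
    rw [hl l, hl m] at h2
    rw [show f (a * (x : G)) = 0 by
      by_contra h3
      exact hne (Units.ext (mul_right_cancel₀ h3 h2))]
    simp

end

end CfsgLib.RelMcKay
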