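import Mathlib
import Cfsg.Agent.Lib.RelMcKay.ExtTools

/-!
# A maximal invariant subgroup with cyclic image
-/

set_option autoImplicit false
set_option linter.style.haveILetI false
set_option linter.unusedSectionVars false

namespace CfsgLib.RelMcKay

noncomputable section

open scoped Classical

variable {G : Type*} [Group G] [Finite G] {p : ℕ} [hp : Fact p.Prime]

/-- A group normalizing everything, abelian modulo the fixed subgroup. -/
structure RData (p : ℕ) (L K C Q R : Subgroup G) : Prop where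
  C_le : C ≤ R
  norm_L : R ≤ Subgroup.normalizer (L : Set G)
  norm_K : R ≤ Subgroup.normalizer (K : Set G)
  norm_Q : R ≤ Subgroup.normalizer (Q : Set G)
  inf_le : R ⊓ K ≤ C
  not_dvd : ¬ p ∣ L.relIndex R
  comm : ∀ r ∈ R, ∀ r' ∈ R, r * r' * r⁻¹ * r'⁻¹ ∈ C

/-- An invariant subgroup on whose quotient the abelian group acts through a cyclic group. -/
theorem exists_reduction {L K C Q R : Subgroup G} (h : Rel p L K C Q) (hR : RData p L K C Q R)
    (hne : Q ≠ L) :
    ∃ (Q₁ R₀ : Subgroup G) (z : G), L ≤ Q₁ ∧ Q₁ < Q ∧ Q ≤ Subgroup.normalizer (Q₁ : Set G) ∧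
      R ≤ Subgroup.normalizer (Q₁ : Set G) ∧ C ≤ R₀ ∧ R₀ ≤ R ∧ z ∈ R ∧
      R₀ ⊔ Subgroup.zpowers z = R ∧ ∀ r ∈ R₀, ∀ x ∈ Q, r * x * r⁻¹ * x⁻¹ ∈ Q₁ := by
  classical
  obtain ⟨W, hW⟩ : ∃ W, Maximal (fun W : Subgroup G => L ≤ W ∧ W < Q ∧
      Q ≤ Subgroup.normalizer (W : Set G) ∧ R ≤ Subgroup.normalizer (W : Set G)) W :=
    Set.Finite.exists_maximal (Set.toFinite _)
      ⟨L, le_rfl, lt_of_le_of_ne h.le_Q (Ne.symm hne), h.Q_norm_L, hR.norm_L⟩
  obtain ⟨hLW, hWQ, hQW, hRW⟩ := hW.prop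
  have hmax : ∀ W' : Subgroup G, W ≤ W' → W' < Q → Q ≤ Subgroup.normalizer (W' : Set G) →
      R ≤ Subgroup.normalizer (W' : Set G) → W' = W := fun W' h1 h2 h3 h4 =>
    le_antisymm (hW.le_of_ge ⟨hLW.trans h1, h2, h3, h4⟩ h1) h1
  haveI hn : (W.subgroupOf Q).Normal := (Subgroup.normal_subgroupOf_iff_le_normalizer hWQ.le).2 hQW
  -- the quotient is a nontrivial `p`-group
  set π := QuotientGroup.mk' (W.subgroupOf Q) with hπ
  have hP : IsPGroup p (Q ⧸ W.subgroupOf Q) := by
    intro x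
    obtain ⟨⟨q, hq⟩, rfl⟩ := QuotientGroup.mk_surjective x
    obtain ⟨a, ha⟩ := h.pow q hq
    refine ⟨a, ?_⟩
    rw [← QuotientGroup.mk_pow, QuotientGroup.eq_one_iff, Subgroup.mem_subgroupOf]
    exact hLW ha
  haveI : Nontrivial (Q ⧸ W.subgroupOf Q) := by
    obtain ⟨x, hx, hx'⟩ := SetLike.exists_of_lt hWQ
    exact ⟨⟨((⟨x, hx⟩ : Q) : Q ⧸ W.subgroupOf Q), 1, fun e => hx'
      (Subgroup.mem_subgroupOf.1 ((QuotientGroup.eq_one_iff _).1 e))⟩⟩
  -- a proper invariant subgroup of the quotient is trivial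
  have hinv : ∀ M : Subgroup (Q ⧸ W.subgroupOf Q), M ≠ ⊤ → M.Normal →
      (∀ r (hr : r ∈ R) (x : Q), (x : Q ⧸ W.subgroupOf Q) ∈ M →
        ((normConj Q r (hR.norm_Q hr) x : Q) : Q ⧸ W.subgroupOf Q) ∈ M) → M = ⊥ := by
    intro M hM hMn hMr
    set W' := (M.comap π).map Q.subtype with hW'
    have hsub : W'.subgroupOf Q = M.comap π := by
      rw [hW', Subgroup.subgroupOf, Subgroup.comap_map_eq_self_of_injective Subtype.val_injective]
    have hmem : ∀ x (hx : x ∈ Q), x ∈ W' ↔ ((⟨x, hx⟩ : Q) : Q ⧸ W.subgroupOf Q) ∈ M := by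
      intro x hx
      rw [← Subgroup.mem_subgroupOf (h := (⟨x, hx⟩ : Q)), hsub]
      rfl
    have h1 : W ≤ W' := fun x hx => (hmem x (hWQ.le hx)).2 (by
      rw [(QuotientGroup.eq_one_iff _).2 (Subgroup.mem_subgroupOf.2 hx)]
      exact one_mem M)
    have h2 : W' < Q := lt_of_le_of_ne (Subgroup.map_subtype_le _) fun e => hM (by
      rw [eq_top_iff]
      intro y _
      obtain ⟨⟨x, hx⟩, rfl⟩ := QuotientGroup.mk_surjective y
      exact (hmem x hx).1 (e.symm ▸ hx))
    have h3 : Q ≤ Subgroup.normalizer (W' : Set G) :=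
      (Subgroup.normal_subgroupOf_iff_le_normalizer (Subgroup.map_subtype_le _)).1
        (hsub.symm ▸ hMn.comap π)
    have h4 : R ≤ Subgroup.normalizer (W' : Set G) := by
      have key : ∀ r (hr : r ∈ R), ∀ x ∈ W', r * x * r⁻¹ ∈ W' := by
        intro r hr x hx
        have hxQ : x ∈ Q := Subgroup.map_subtype_le _ hx
        exact (hmem _ ((mem_conj_iff (hR.norm_Q hr) x).2 hxQ)).2 (hMr r hr ⟨x, hxQ⟩ ((hmem x hxQ).1 hx))
      intro r hr
      refine Subgroup.mem_normalizer_iff.2 fun x => ⟨key r hr x, fun hx => ?_⟩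
      have := key r⁻¹ (inv_mem hr) _ hx
      simpa [mul_assoc] using this
    rw [eq_bot_iff]
    intro y hy
    obtain ⟨⟨x, hx⟩, rfl⟩ := QuotientGroup.mk_surjective y
    refine Subgroup.mem_bot.2 ((QuotientGroup.eq_one_iff _).2 (Subgroup.mem_subgroupOf.2 ?_))
    rw [← hmax W' h1 h2 h3 h4]
    exact (hmem x hx).2 hy
  -- hence it is abelian
  haveI : Group.IsNilpotent (Q ⧸ W.subgroupOf Q) := hP.isNilpotent
  haveI : Group.IsSolvable (Q ⧸ W.subgroupOf Q) := inferInstance
  have hder : commutator (Q ⧸ W.subgroupOf Q) = ⊥ := by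
    have hlt : commutator (Q ⧸ W.subgroupOf Q) < ⊤ := by
      rw [commutator_def]
      exact Group.IsSolvable.commutator_lt_of_ne_bot (bot_ne_top (α := Subgroup (Q ⧸ W.subgroupOf Q))).symm
    refine hinv _ hlt.ne (by rw [commutator_def]; infer_instance) fun r hr x hx => ?_
    let e : Q ⧸ W.subgroupOf Q →* Q ⧸ W.subgroupOf Q :=
      QuotientGroup.map _ _ (normConj Q r (hR.norm_Q hr)).toMonoidHom fun y hy =>
        Subgroup.mem_subgroupOf.2 ((mem_conj_iff (hRW hr) _).2 (Subgroup.mem_subgroupOf.1 hy))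
    have hle : (commutator (Q ⧸ W.subgroupOf Q)).map e ≤ commutator (Q ⧸ W.subgroupOf Q) := by
      rw [commutator_def, Subgroup.map_commutator]
      exact Subgroup.commutator_mono le_top le_top
    exact hle ⟨_, hx, rfl⟩
  letI : CommGroup (Q ⧸ W.subgroupOf Q) :=
    { (inferInstance : Group (Q ⧸ W.subgroupOf Q)) with
      mul_comm := fun a b => by
        rw [← commutatorElement_eq_one_iff_mul_comm, ← Subgroup.mem_bot, ← hder, commutator_def]
        exact Subgroup.commutator_mem_commutator (Subgroup.mem_top a) (Subgroup.mem_top b) }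
  -- the action as endomorphisms
  have hpres : ∀ r : R, W.subgroupOf Q ≤ (W.subgroupOf Q).comap (normConj Q r (hR.norm_Q r.2)).toMonoidHom :=
    fun r y hy => Subgroup.mem_subgroupOf.2 ((mem_conj_iff (hRW r.2) _).2 (Subgroup.mem_subgroupOf.1 hy))
  let ρ : R →* AddMonoid.End (Additive (Q ⧸ W.subgroupOf Q)) :=
    { toFun := fun r => MonoidHom.toAdditive (QuotientGroup.map _ _ _ (hpres r))
      map_one' := AddMonoidHom.ext fun v => by
        obtain ⟨x, hx⟩ := QuotientGroup.mk_surjective (Additive.toMul v)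
        rw [← ofMul_toMul v, ← hx]
        exact congrArg Additive.ofMul (congrArg (QuotientGroup.mk' _)
          (Subtype.ext (by simp [normConj])))
      map_mul' := fun r s => AddMonoidHom.ext fun v => by
        obtain ⟨x, hx⟩ := QuotientGroup.mk_surjective (Additive.toMul v)
        rw [← ofMul_toMul v, ← hx]
        exact congrArg Additive.ofMul (congrArg (QuotientGroup.mk' _)
          (Subtype.ext (by simp [normConj, mul_assoc]))) }
  have hρ : ∀ (r : R) (x : Q), ρ r (Additive.ofMul (x : Q ⧸ W.subgroupOf Q)) =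
      Additive.ofMul ((normConj Q r (hR.norm_Q r.2) x : Q) : Q ⧸ W.subgroupOf Q) := fun r x => rfl
  have hcomm : ∀ a b : R, ρ a * ρ b = ρ b * ρ a := by
    intro a b
    rw [← map_mul, ← map_mul]
    refine AddMonoidHom.ext fun v => ?_
    obtain ⟨x, hx⟩ := QuotientGroup.mk_surjective (Additive.toMul v)
    rw [← ofMul_toMul v, ← hx]
    refine ((hρ (a * b) x).trans ?_).trans (hρ (b * a) x).symm
    refine congrArg Additive.ofMul (QuotientGroup.eq.2 (Subgroup.mem_subgroupOf.2 ?_))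
    have hc : (b : G)⁻¹ * (a : G)⁻¹ * ((b : G)⁻¹)⁻¹ * ((a : G)⁻¹)⁻¹ ∈ C :=
      hR.comm _ (inv_mem b.2) _ (inv_mem a.2)
    have h5 := ((h.mem_iff _).1 hc).2 (x : G)⁻¹ (inv_mem x.2)
    have h6 := (mem_conj_iff (hRW (mul_mem a.2 b.2)) _).2 (hLW (inv_mem h5))
    show (((a : G) * b) * x * ((a : G) * b)⁻¹)⁻¹ * (((b : G) * a) * x * ((b : G) * a)⁻¹) ∈ W
    convert h6 using 1
    group
  let S : Subring (AddMonoid.End (Additive (Q ⧸ W.subgroupOf Q))) := Subring.closure (Set.range ρ)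
  have hSR : ∀ s ∈ S, ∀ r : R, s * ρ r = ρ r * s := by
    intro s hs r
    induction hs using Subring.closure_induction with
    | mem x hx =>
      obtain ⟨a, rfl⟩ := hx
      exact hcomm a r
    | zero => rw [zero_mul, mul_zero]
    | one => rw [one_mul, mul_one]
    | add x y _ _ hx hy => rw [add_mul, mul_add, hx, hy]
    | neg x _ hx => exact (Commute.neg_left hx).eq
    | mul x y _ _ hx hy => rw [mul_assoc, hy, ← mul_assoc, hx, mul_assoc]
  have hSS : ∀ s ∈ S, ∀ t ∈ S, s * t = t * s := by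
    intro s hs t ht
    induction ht using Subring.closure_induction with
    | mem x hx =>
      obtain ⟨a, rfl⟩ := hx
      exact hSR s hs a
    | zero => rw [zero_mul, mul_zero]
    | one => rw [one_mul, mul_one]
    | add x y _ _ hx hy => rw [add_mul, mul_add, hx, hy]
    | neg x _ hx => exact (Commute.neg_right hx).eq
    | mul x y _ _ hx hy => rw [mul_assoc x, ← hy, ← mul_assoc, hx, mul_assoc]
  letI : CommRing S :=
    { (inferInstance : Ring S) with mul_comm := fun a b => Subtype.ext (hSS _ a.2 _ b.2) }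
  haveI : Nontrivial S := ⟨⟨0, 1, fun e => by
    obtain ⟨v, hv⟩ := exists_ne (0 : Additive (Q ⧸ W.subgroupOf Q))
    exact hv ((DFunLike.congr_fun (congrArg Subtype.val e) v).symm)⟩⟩
  haveI : NoZeroDivisors S := ⟨fun {s t} hst => by
    by_contra hne'
    push Not at hne'
    obtain ⟨hs, ht⟩ := hne'
    let M : Subgroup (Q ⧸ W.subgroupOf Q) :=
      { carrier := {v | s.1 (Additive.ofMul v) = 0}
        one_mem' := by simp
        mul_mem' := fun {a b} ha hb => by
          simp only [Set.mem_setOf_eq, ofMul_mul, map_add] at *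
          rw [ha, hb, add_zero]
        inv_mem' := fun {a} ha => by
          simp only [Set.mem_setOf_eq, ofMul_inv, map_neg] at *
          rw [ha, neg_zero] }
    have hM : M ≠ ⊤ := fun e => hs (Subtype.ext (AddMonoidHom.ext fun v => by
      have : Additive.toMul v ∈ M := e.symm ▸ Subgroup.mem_top _
      exact this))
    have hbot := hinv M hM inferInstance fun r hr x hx => by
      show s.1 (Additive.ofMul _) = 0
      rw [← hρ ⟨r, hr⟩ x]
      have h7 := DFunLike.congr_fun (hSR s.1 s.2 ⟨r, hr⟩) (Additive.ofMul (x : Q ⧸ W.subgroupOf Q))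
      refine h7.trans ?_
      show ρ ⟨r, hr⟩ (s.1 _) = 0
      rw [show s.1 (Additive.ofMul (x : Q ⧸ W.subgroupOf Q)) = 0 from hx, map_zero]
    refine ht (Subtype.ext (AddMonoidHom.ext fun v => ?_))
    have h8 : Additive.toMul (t.1 v) ∈ M := DFunLike.congr_fun (congrArg Subtype.val hst) v
    rw [hbot, Subgroup.mem_bot] at h8
    exact h8⟩
  haveI : IsDomain S := NoZeroDivisors.to_isDomain S
  let ρ' : R →* S :=
    { toFun := fun r => ⟨ρ r, Subring.subset_closure ⟨r, rfl⟩⟩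
      map_one' := Subtype.ext (map_one ρ)
      map_mul' := fun r s => Subtype.ext (map_mul ρ r s) }
  let u : R →* Sˣ := ρ'.toHomUnits
  haveI : Finite u.range := Finite.of_surjective _ u.rangeRestrict_surjective
  haveI : IsCyclic u.range := isCyclic_of_subgroup_isDomain ((Units.coeHom S).comp u.range.subtype)
    fun a b hab => Subtype.ext (Units.ext hab)
  obtain ⟨⟨_, z, rfl⟩, hz⟩ := IsCyclic.exists_generator (α := u.range)
  have hker : ∀ r : R, u r = 1 → ∀ x ∈ Q, (r : G) * x * (r : G)⁻¹ * x⁻¹ ∈ W := by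
    intro r hr x hx
    have e : ρ r = 1 := congrArg (fun v : Sˣ => ((v : S) : AddMonoid.End (Additive (Q ⧸ W.subgroupOf Q)))) hr
    have h9 := hρ r ⟨x, hx⟩
    rw [e] at h9
    have h10 := Subgroup.mem_subgroupOf.1 (QuotientGroup.eq.1 (Additive.ofMul.injective h9).symm)
    have h11 : ((r : G) * x * (r : G)⁻¹)⁻¹ * x ∈ W := h10
    rw [show (r : G) * x * (r : G)⁻¹ * x⁻¹ = x * (((r : G) * x * (r : G)⁻¹)⁻¹ * x)⁻¹ * x⁻¹ by group]
    exact (mem_conj_iff (hQW hx) _).2 (inv_mem h11)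
  refine ⟨W, relFix hRW Q, z, hLW, hWQ, hQW, hRW, fun c hc => ⟨hR.C_le hc, fun x hx =>
    hLW (((h.mem_iff c).1 hc).2 x hx)⟩, fun r hr => hr.1, z.2, ?_, fun r hr => hr.2⟩
  refine le_antisymm (sup_le (fun r hr => hr.1) (Subgroup.zpowers_le.2 z.2)) fun r hr => ?_
  obtain ⟨n, hn'⟩ := Subgroup.mem_zpowers_iff.1 (hz ⟨u ⟨r, hr⟩, _, rfl⟩)
  have h0 : u (⟨r, hr⟩ * (z ^ n)⁻¹) = 1 := by
    rw [map_mul, map_inv, map_zpow, mul_inv_eq_one]
    exact (congrArg Subtype.val hn').symm
  have hmem : (r * ((z : G) ^ n)⁻¹) ∈ relFix hRW Q := by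
    refine ⟨mul_mem hr (inv_mem (zpow_mem z.2 n)), fun x hx => ?_⟩
    have := hker _ h0 x hx
    simpa using this
  have := mul_mem (le_sup_left (b := Subgroup.zpowers (z : G)) hmem)
    (le_sup_right (a := relFix hRW Q) (zpow_mem (Subgroup.mem_zpowers (z : G)) n))
  simpa using this

end

end CfsgLib.RelMcKay
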