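import Mathlib
import Cfsg.Agent.Lib.RelMcKay.CyclicImage
import Cfsg.Agent.Lib.CoprimeAction.Glauberman

/-!
# Extendibility is preserved by the correspondence
-/

set_option autoImplicit false
set_option linter.style.haveILetI false
set_option linter.unusedSectionVars false

open scoped ComplexConjugate Pointwise
open Cfsg CfsgLib.CharTheory

namespace CfsgLib.RelMcKay

noncomputable section

open scoped Classical

variable {G : Type*} [Group G] [Finite G] {p : ℕ} [hp : Fact p.Prime]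

/-- A fixed extension exists as soon as an extension exists, for an abelian `p'`-quotient centralised
by the `p`-group. -/
theorem ext_fixed {L A H Q : Subgroup G} (hLA : L ≤ A) (hAH : A ≤ H)
    (hQH : Q ≤ Subgroup.normalizer (H : Set G)) (hHA : H ≤ Subgroup.normalizer (A : Set G))
    (hidx : ¬ p ∣ A.relIndex H) (hpow : ∀ q ∈ Q, ∃ a : ℕ, q ^ p ^ a ∈ L)
    (htriv : ∀ q ∈ Q, ∀ x ∈ H, q * x * q⁻¹ * x⁻¹ ∈ A) {θ f : G → ℂ} (hθ : IsIrrOn A θ)
    (hs : Q ≤ stab θ) (hf : IsIrrOn H f) (hres : ∀ x ∈ A, f x = θ x) : Q ≤ stab f := by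
  intro q hq
  haveI : (A.subgroupOf H).Normal := (Subgroup.normal_subgroupOf_iff_le_normalizer hAH).2 hHA
  let e : A.subgroupOf H ≃* A := Subgroup.subgroupOfEquivOfLe hAH
  have hres' : ∀ x ∈ A, cj q f x = θ x := fun x hx => by
    have hx' : q * x * q⁻¹ ∈ A := by
      have := mul_mem (htriv q hq x (hAH hx)) hx
      simpa using this
    show f (q * x * q⁻¹) = θ x
    rw [hres _ hx']
    exact congrFun (mem_stab.1 (hs hq)) x
  obtain ⟨l, hl1, hl⟩ := Clifford.exists_linFun_of_extensions (N := A.subgroupOf H)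
    (θ := fun n => θ (e n)) (isIrrCharacter_comp_mulEquiv hθ.1 e) hf.1 (fun n => hres _ n.2)
    (hf.cj (hQH hq)).1 (fun n => hres' _ n.2)
  let lq : Lin A H := ⟨l, fun x hx => hl1 ⟨x, hx⟩⟩
  have hstep : cj q f = mulLin lq f := (hf.cj (hQH hq)).ext (isIrrOn_mulLin _ hf) fun x hx => by
    rw [mulLin_of_mem _ _ hx]
    exact congrFun hl ⟨x, hx⟩
  have hinv : ∀ x (hx : x ∈ H), l ⟨q * x * q⁻¹, (mem_conj_iff (hQH hq) x).2 hx⟩ = l ⟨x, hx⟩ := by
    intro x hx
    rw [show (⟨q * x * q⁻¹, (mem_conj_iff (hQH hq) x).2 hx⟩ : H) =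
      ⟨q * x * q⁻¹ * x⁻¹, hAH (htriv q hq x hx)⟩ * ⟨x, hx⟩ from Subtype.ext (by simp), map_mul,
      hl1 ⟨⟨_, hAH (htriv q hq x hx)⟩, htriv q hq x hx⟩, one_mul]
  have hiter : ∀ n : ℕ, ∀ x (hx : x ∈ H), cj (q ^ n) f x = (l ⟨x, hx⟩ : ℂ) ^ n * f x := by
    intro n
    induction n with
    | zero => intro x hx; simp
    | succ n ih =>
      intro x hx
      rw [pow_succ, ← cj_cj, cj_apply, ih _ ((mem_conj_iff (hQH hq) x).2 hx), hinv x hx,
        show f (q * x * q⁻¹) = cj q f x from rfl, hstep, mulLin_of_mem _ _ hx, pow_succ]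
      ring
  obtain ⟨a, ha⟩ := hpow q hq
  have hl0 : l = 1 := by
    have h1 : ∀ n : Lin A H, n.1 = l ^ p ^ a → n.1 = 1 := by
      intro n hn
      have h2 : mulLin n f = mulLin (⟨1, fun _ _ => rfl⟩ : Lin A H) f := by
        funext x
        by_cases hx : x ∈ H
        · rw [mulLin_of_mem _ _ hx, mulLin_of_mem _ _ hx, hn, MonoidHom.pow_apply,
            Units.val_pow_eq_pow_val, ← hiter _ x hx, MonoidHom.one_apply, Units.val_one, one_mul]
          exact congrFun (mem_stab.1 (hf.le_stab ((hLA.trans hAH) ha))) x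
        · simp [mulLin, hx]
      exact congrArg Subtype.val (mulLin_injective hHA hAH hf hθ hres h2)
    have hpa : l ^ p ^ a = 1 := h1 ⟨l ^ p ^ a, fun x hx => by
      rw [MonoidHom.pow_apply, hl1 ⟨x, hx⟩, one_pow]⟩ rfl
    refine MonoidHom.ext fun x => ?_
    have h3 : l x ^ A.relIndex H = 1 := by
      rw [← map_pow]
      exact hl1 ⟨_, (A.subgroupOf H).pow_index_mem x⟩
    have h4 : l x ^ p ^ a = 1 := by rw [← MonoidHom.pow_apply, hpa, MonoidHom.one_apply]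
    have := pow_gcd_eq_one.2 ⟨h4, h3⟩
    rwa [((hp.out.coprime_iff_not_dvd.2 hidx).pow_left a).gcd_eq_one, pow_one] at this
  rw [mem_stab, hstep]
  refine (isIrrOn_mulLin _ hf).ext hf fun x hx => ?_
  rw [mulLin_of_mem _ _ hx, show lq.1 = 1 from hl0, MonoidHom.one_apply, Units.val_one, one_mul]

theorem lin_restrict_injective {A C R : Subgroup G}
    (hCA : C ≤ A) (hR : R ≤ Subgroup.normalizer (A : Set G)) :
    Function.Injective fun l : Lin A (A ⊔ R) =>
      (⟨l.1.comp (Subgroup.inclusion le_sup_right), fun _ hx => l.2 _ (hCA hx)⟩ : Lin C R) := by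
  intro l m hlm
  refine Subtype.ext (MonoidHom.ext fun x => ?_)
  obtain ⟨a, ha, r, hr, e⟩ := mem_sup' hR x.2
  have hx : x = ⟨a, le_sup_left (b := R) ha⟩ * ⟨r, le_sup_right (a := A) hr⟩ := Subtype.ext e.symm
  rw [hx, map_mul, map_mul, l.2 ⟨a, le_sup_left (b := R) ha⟩ ha,
    m.2 ⟨a, le_sup_left (b := R) ha⟩ ha, one_mul, one_mul]
  exact DFunLike.congr_fun (congrArg Subtype.val hlm) (⟨r, hr⟩ : R)

/-- The extension equivalence when `R₀` centralises the acting group modulo `L`. -/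
theorem extTo_step {L K C Q R₀ : Subgroup G} {z : G} (h : Rel p L K C Q) (hC : C ≤ R₀)
    (hRL : R₀ ≤ Subgroup.normalizer (L : Set G)) (hRK : R₀ ≤ Subgroup.normalizer (K : Set G))
    (hinf : R₀ ⊓ K ≤ C) (hidx : ¬ p ∣ L.relIndex R₀)
    (hcomm : ∀ r ∈ R₀, ∀ r' ∈ R₀, r * r' * r⁻¹ * r'⁻¹ ∈ C)
    (hcent : ∀ r ∈ R₀, ∀ x ∈ Q, r * x * r⁻¹ * x⁻¹ ∈ L)
    (hzL : z ∈ Subgroup.normalizer (L : Set G)) (hzK : z ∈ Subgroup.normalizer (K : Set G))
    (hzQ : z ∈ Subgroup.normalizer (Q : Set G)) (hzR : z ∈ Subgroup.normalizer (R₀ : Set G))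
    {θ ξ : G → ℂ} (hθ : IsIrrOn K θ) (hs : Q ≤ stab θ) (hξ : IsCorr p C Q θ ξ) :
    (∃ f, IsIrrOn (K ⊔ R₀) f ∧ z ∈ stab f ∧ ∀ x ∈ K, f x = θ x) ↔
      ∃ g, IsIrrOn R₀ g ∧ z ∈ stab g ∧ ∀ x ∈ C, g x = ξ x := by
  have hRC : R₀ ≤ Subgroup.normalizer (C : Set G) := fun r hr =>
    h.mem_normalizer_C (hRL hr) (hRK hr) (Subgroup.mem_normalizer_iff.2 fun x => by
      constructor
      · intro hx
        have := mul_mem (h.le_Q (hcent r hr x hx)) hx
        simpa using this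
      · intro hx
        have := mul_mem (h.le_Q (hcent r⁻¹ (inv_mem hr) _ hx)) hx
        simpa [mul_assoc] using this)
  set H := K ⊔ R₀ with hH
  have hHK : H ≤ Subgroup.normalizer (K : Set G) := sup_le Subgroup.le_normalizer hRK
  have hHidx : K.relIndex H = C.relIndex R₀ := by
    rw [relIndex_sup' hRK, ← Subgroup.inf_relIndex_right K R₀, inf_comm,
      show R₀ ⊓ K = C from le_antisymm hinf (le_inf hC h.C_le)]
  have hC' : ¬ p ∣ C.relIndex R₀ := fun hd =>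
    hidx (hd.trans (Dvd.intro_left _ (Subgroup.relIndex_mul_relIndex L C R₀ h.L_le hC)))
  have hQR : Q ≤ Subgroup.normalizer (R₀ : Set G) := by
    intro q hq
    refine Subgroup.mem_normalizer_iff.2 fun x => ⟨fun hx => ?_, fun hx => ?_⟩
    · have h1 := inv_mem (hcent x hx q hq)
      have h2 := mul_mem (hC (h.L_le h1)) hx
      simpa [mul_assoc] using h2
    · have h1 := inv_mem (hcent _ hx q⁻¹ (inv_mem hq))
      have h2 := mul_mem (hC (h.L_le h1)) hx
      simpa [mul_assoc] using h2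
  have htrivR : ∀ q ∈ Q, ∀ x ∈ R₀, q * x * q⁻¹ * x⁻¹ ∈ C := fun q hq x hx => by
    have := h.L_le (inv_mem (hcent x hx q hq))
    simpa [mul_assoc] using this
  have hQH : Q ≤ Subgroup.normalizer (H : Set G) := fun q hq => by
    have h1 : ∀ q ∈ Q, ∀ x ∈ H, q * x * q⁻¹ ∈ H := by
      intro q hq x hx
      obtain ⟨k, hk, r, hr, rfl⟩ := mem_sup' hRK hx
      rw [show q * (k * r) * q⁻¹ = (q * k * q⁻¹) * (q * r * q⁻¹) by group]
      exact mul_mem (le_sup_left (b := R₀) ((mem_conj_iff (h.Q_norm_K hq) k).2 hk))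
        (le_sup_right (a := K) ((mem_conj_iff (hQR hq) r).2 hr))
    refine Subgroup.mem_normalizer_iff.2 fun x => ⟨h1 q hq x, fun hx => ?_⟩
    have := h1 q⁻¹ (inv_mem hq) _ hx
    simpa [mul_assoc] using this
  -- the relation on the extended group
  have hrel : Rel p L H R₀ Q := by
    refine ⟨h.le.trans le_sup_left, h.le_Q, sup_le h.K_norm hRL, h.Q_norm_L, hQH, fun hd => ?_, h.pow,
      fun x => ⟨fun hx => ⟨le_sup_right (a := K) hx, hcent x hx⟩, fun hx => ?_⟩⟩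
    · rw [← Subgroup.relIndex_mul_relIndex L K H h.le le_sup_left, hHidx] at hd
      exact (hp.out.dvd_mul.1 hd).elim h.not_dvd hC'
    · obtain ⟨k, hk, r, hr, rfl⟩ := mem_sup' hRK hx.1
      have hkC : k ∈ C := (h.mem_iff k).2 ⟨hk, fun q hq => by
        have h1 := hx.2 q hq
        have h2 := hcent r hr q hq
        rw [show k * q * k⁻¹ * q⁻¹ = (k * (r * q * r⁻¹ * q⁻¹)⁻¹ * k⁻¹) * (k * r * q * (k * r)⁻¹ * q⁻¹) by group]
        exact mul_mem ((mem_conj_iff (h.K_norm hk) _).2 (inv_mem h2)) h1⟩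
      exact mul_mem (hC hkC) hr
  have htrivH : ∀ q ∈ Q, ∀ x ∈ H, q * x * q⁻¹ * x⁻¹ ∈ K := by
    intro q hq x hx
    obtain ⟨k, hk, r, hr, rfl⟩ := mem_sup' hRK hx
    rw [show q * (k * r) * q⁻¹ * (k * r)⁻¹ = (q * k * q⁻¹) * (q * r * q⁻¹ * r⁻¹) * k⁻¹ by group]
    exact mul_mem (mul_mem ((mem_conj_iff (h.Q_norm_K hq) k).2 hk) (h.C_le (htrivR q hq r hr))) (inv_mem hk)
  have hcardK : Nat.card (Lin K H) = K.relIndex H :=
    card_lin hHK le_sup_left (comm_mem_sup h.C_le hRK hcomm)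
  have hzC : z ∈ Subgroup.normalizer (C : Set G) := h.mem_normalizer_C hzL hzK hzQ
  have hzH : z ∈ Subgroup.normalizer (H : Set G) := by
    have h1 : ∀ y ∈ ({z, z⁻¹} : Set G), ∀ x ∈ H, y * x * y⁻¹ ∈ H := by
      intro y hy x hx
      have hyK : y ∈ Subgroup.normalizer (K : Set G) := by
        rcases hy with rfl | rfl
        · exact hzK
        · exact inv_mem hzK
      have hyR : y ∈ Subgroup.normalizer (R₀ : Set G) := by
        rcases hy with rfl | rfl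
        · exact hzR
        · exact inv_mem hzR
      obtain ⟨k, hk, r, hr, rfl⟩ := mem_sup' hRK hx
      rw [show y * (k * r) * y⁻¹ = (y * k * y⁻¹) * (y * r * y⁻¹) by group]
      exact mul_mem (le_sup_left (b := R₀) ((mem_conj_iff hyK k).2 hk))
        (le_sup_right (a := K) ((mem_conj_iff hyR r).2 hr))
    refine Subgroup.mem_normalizer_iff.2 fun x => ⟨h1 z (Or.inl rfl) x, fun hx => ?_⟩
    have := h1 z⁻¹ (Or.inr rfl) _ hx
    simpa [mul_assoc] using this
  let res : Lin K H → Lin C R₀ := fun l =>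
    ⟨l.1.comp (Subgroup.inclusion le_sup_right), fun _ hx => l.2 _ (h.C_le hx)⟩
  -- congruence through `R₀`
  have hthrough : ∀ F G' : G → ℂ, IsIrrOn H F → Q ≤ stab F → IsCorr p R₀ Q F G' →
      (mu C F ξ : ZMod p) = (mu R₀ F G' : ZMod p) * (mu C G' ξ : ZMod p) := by
    intro F G' hF hFQ hG'
    rw [mu_trans_fixed hC (hF.isCharOn.mono le_sup_right) hξ.1 h.Q_norm_C hQR hFQ hξ.2.1
      (h.pow_mem (h.L_le.trans hC)), Finset.sum_eq_single G']
    · intro ζ hζ hne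
      rw [mem_fixedIrr] at hζ
      by_cases hm : (mu R₀ F ζ : ZMod p) = 0
      · rw [hm, zero_mul]
      · exact absurd (hrel.unique hF hFQ ⟨hζ.1, hζ.2, hm⟩ hG') hne
    · exact fun hni => absurd (mem_fixedIrr.2 ⟨hG'.1, hG'.2.1⟩) hni
  constructor
  · rintro ⟨f, hf, hzf, hres⟩
    have hfQ : Q ≤ stab f := ext_fixed h.le le_sup_left hQH hHK (by rw [hHidx]; exact hC') h.pow htrivH
      hθ hs hf hres
    have hfl : ∀ l : Lin K H, IsIrrOn H (mulLin l f) ∧ Q ≤ stab (mulLin l f) := fun l =>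
      ⟨isIrrOn_mulLin l hf, ext_fixed h.le le_sup_left hQH hHK (by rw [hHidx]; exact hC') h.pow htrivH
        hθ hs (isIrrOn_mulLin l hf) fun x hx =>
          (mulLin_one l f hx (le_sup_left (b := R₀) hx)).trans (hres x hx)⟩
    choose g hg using fun l => hrel.exists_corr (hfl l).1 (hfl l).2
    have hover : ∀ l, mu C (g l) ξ ≠ 0 := by
      intro l h0
      have h1 := hthrough _ _ (hfl l).1 (hfl l).2 (hg l)
      rw [h0, Nat.cast_zero, mul_zero, mu_congr (f' := θ) (fun x hx =>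
        (mulLin_one l f (h.C_le hx) (le_sup_left (b := R₀) (h.C_le hx))).trans (hres x (h.C_le hx)))
          (fun x _ => rfl)] at h1
      exact hξ.2.2 h1
    have hginj : Function.Injective g := by
      intro l m hlm
      exact mulLin_injective hHK le_sup_left hf hθ hres
        (hrel.injective (hfl l).1 (hfl l).2 (hfl m).1 (hfl m).2 (hg l) (hlm ▸ hg m))
    haveI := Fintype.ofFinite (Lin K H)
    have hall := res_eq_of_many hC hξ.1 (Finset.univ.image g)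
      (fun G' hG' => by
        obtain ⟨l, -, rfl⟩ := Finset.mem_image.1 hG'
        exact ⟨(hg l).1, hover l⟩)
      (by rw [Finset.card_image_of_injective _ hginj, Finset.card_univ, ← Nat.card_eq_fintype_card,
        hcardK, hHidx])
    let one : Lin K H := ⟨1, fun _ _ => rfl⟩
    refine ⟨g one, (hg one).1, ?_, hall _ (Finset.mem_image_of_mem g (Finset.mem_univ one))⟩
    have hf1 : mulLin one f = f := (isIrrOn_mulLin one hf).ext hf fun x hx => by
      rw [mulLin_of_mem _ _ hx, show one.1 = 1 from rfl, MonoidHom.one_apply, Units.val_one, one_mul]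
    have h1 := hg one
    rw [hf1] at h1
    refine mem_stab.2 (hrel.unique hf hfQ ?_ h1)
    have h2 := hrel.corr_cj h1 hzL hzH hzQ
    rwa [mem_stab.1 hzf] at h2
  · rintro ⟨g, hg, hzg, hres⟩
    have hQg : ∀ g' : G → ℂ, IsIrrOn R₀ g' → (∀ x ∈ C, g' x = ξ x) → Q ≤ stab g' := fun g' hg' hres' =>
      ext_fixed h.L_le hC hQR hRC hC' h.pow htrivR hξ.1 hξ.2.1 hg' hres'
    have hgl : ∀ l : Lin K H, IsIrrOn R₀ (mulLin (res l) g) ∧ (∀ x ∈ C, mulLin (res l) g x = ξ x) :=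
      fun l => ⟨isIrrOn_mulLin _ hg, fun x hx => (mulLin_one _ g hx (hC hx)).trans (hres x hx)⟩
    choose f hf using fun l => hrel.surjective (hgl l).1 (hQg _ (hgl l).1 (hgl l).2)
    have hover : ∀ l, mu K (f l) θ ≠ 0 := by
      intro l h0
      have h1 := hthrough _ _ (hf l).1 (hf l).2.1 (hf l).2.2
      rw [mu_eq_of_res (H := R₀) hξ.1 (hgl l).2 ξ hξ.1, if_pos rfl, Nat.cast_one, mul_one,
        mu_trans_fixed h.C_le ((hf l).1.isCharOn.mono le_sup_left) hξ.1 h.Q_norm_C h.Q_norm_K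
          (hf l).2.1 hξ.2.1 (h.pow_mem h.le), Finset.sum_eq_single θ] at h1
      · rw [h0, Nat.cast_zero, zero_mul] at h1
        exact (hf l).2.2.2.2 h1.symm
      · intro η hη hne
        rw [mem_fixedIrr] at hη
        by_cases hm : (mu C η ξ : ZMod p) = 0
        · rw [hm, mul_zero]
        · exact absurd (h.injective hη.1 hη.2 hθ hs ⟨hξ.1, hξ.2.1, hm⟩ hξ) hne
      · exact fun hni => absurd (mem_fixedIrr.2 ⟨hθ, hs⟩) hni
    have hfinj : Function.Injective f := by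
      intro l m hlm
      have h1 := hrel.unique (hf l).1 (hf l).2.1 (hf l).2.2 (hlm ▸ (hf m).2.2)
      exact lin_restrict_injective h.C_le hRK (mulLin_injective hRC hC hg hξ.1 hres h1)
    haveI := Fintype.ofFinite (Lin K H)
    have hall := res_eq_of_many le_sup_left hθ (Finset.univ.image f)
      (fun F hF => by
        obtain ⟨l, -, rfl⟩ := Finset.mem_image.1 hF
        exact ⟨(hf l).1, hover l⟩)
      (by rw [Finset.card_image_of_injective _ hfinj, Finset.card_univ, ← Nat.card_eq_fintype_card, hcardK])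
    let one : Lin K H := ⟨1, fun _ _ => rfl⟩
    refine ⟨f one, (hf one).1, ?_, hall _ (Finset.mem_image_of_mem f (Finset.mem_univ one))⟩
    have hg1 : mulLin (res one) g = g := (isIrrOn_mulLin _ hg).ext hg fun x hx => by
      rw [mulLin_of_mem _ _ hx]
      show ((1 : ℂˣ) : ℂ) * g x = g x
      rw [Units.val_one, one_mul]
    obtain ⟨hF, hFQ, hFc⟩ := hf one
    rw [hg1] at hFc
    refine mem_stab.2 (hrel.injective (hF.cj hzH) ?_ hF hFQ ?_ hFc)
    · exact fun q hq => stab_cj (hFQ ((mem_conj_iff hzQ q).2 hq))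
    · have h2 := hrel.corr_cj hFc hzL hzH hzQ
      rwa [mem_stab.1 hzg] at h2

/-- Extendibility through a cyclic quotient. -/
theorem extTo_cyclic_iff {B H₀ : Subgroup G} {z : G} (hB : B ≤ H₀)
    (hz : z ∈ Subgroup.normalizer (H₀ : Set G)) {θ : G → ℂ} (hθ : IsIrrOn B θ) :
    ExtTo B (H₀ ⊔ Subgroup.zpowers z) θ ↔
      ∃ f, IsIrrOn H₀ f ∧ z ∈ stab f ∧ ∀ x ∈ B, f x = θ x := by
  constructor
  · intro h
    obtain ⟨F, hF, hres⟩ := h
    have hcut : IsIrrOn H₀ (cut H₀ F) := by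
      obtain ⟨f, hf, hfres⟩ := ExtTo.mono hB le_sup_left hθ ⟨F, hF, hres⟩
      have hc : IsCharOn H₀ F := hF.isCharOn.mono le_sup_left
      refine isIrrOn_cut ?_
      haveI := Fintype.ofFinite H₀
      rw [isIrrCharacter_iff_norm_one hc]
      -- the restriction of `F` has degree `θ 1` and contains a character of that degree
      obtain ⟨η, hη, hmu⟩ := exists_mu_ne_zero hc
        (by rw [hF.isCharOn.apply_one]; exact_mod_cast hF.deg_pos.ne')
      have hover : mu B η θ ≠ 0 := by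
        intro h0
        obtain ⟨ζ, hζ, hmz⟩ := exists_mu_ne_zero (hη.isCharOn.mono hB)
          (by rw [hη.isCharOn.apply_one]; exact_mod_cast hη.deg_pos.ne')
        have h2 := mu_trans hB hc hζ
        rw [mu_eq_of_res (H := H₀) hθ hres ζ hζ] at h2
        by_cases hz' : ζ = θ
        · exact hmz (hz' ▸ h0)
        · rw [if_neg hz', eq_comm, Finset.sum_eq_zero_iff] at h2
          exact (Nat.mul_ne_zero hmu hmz) (h2 η (mem_irrOn.2 hη))
      have hdF : deg F = deg θ := by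
        have h1 : F 1 = θ 1 := hres 1 (one_mem B)
        rw [hF.isCharOn.apply_one, hθ.isCharOn.apply_one] at h1
        exact_mod_cast h1
      have hdη : deg θ ≤ deg η := by
        rw [deg_eq_sum (hη.isCharOn.mono hB)]
        exact le_trans (Nat.le_mul_of_pos_left _ (Nat.pos_of_ne_zero hover))
          (Finset.single_le_sum (f := fun ζ => mu B η ζ * deg ζ) (fun _ _ => Nat.zero_le _) (mem_irrOn.2 hθ))
      have hdec := deg_eq_sum hc
      rw [← Finset.add_sum_erase _ _ (mem_irrOn.2 hη)] at hdec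
      have h3 : deg η ≤ mu H₀ F η * deg η := Nat.le_mul_of_pos_left _ (Nat.pos_of_ne_zero hmu)
      have hrest : ∑ ζ ∈ (irrOn H₀).erase η, mu H₀ F ζ * deg ζ = 0 := by omega
      have hone : mu H₀ F η = 1 := by
        refine Nat.eq_of_mul_eq_mul_right hη.deg_pos ?_
        rw [one_mul]; omega
      have heq : ∀ x ∈ H₀, F x = η x := by
        intro x hx
        rw [hc.decomp hx, ← Finset.add_sum_erase _ _ (mem_irrOn.2 hη), hone, Nat.cast_one, one_mul,
          Finset.sum_eq_zero (fun ζ hζ => ?_), add_zero]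
        rcases Nat.mul_eq_zero.1 (Finset.sum_eq_zero_iff.1 hrest ζ hζ) with h6 | h6
        · rw [h6, Nat.cast_zero, zero_mul]
        · exact absurd h6 (mem_irrOn.1 (Finset.mem_of_mem_erase hζ)).deg_pos.ne'
      rw [← ip_eq, ip_congr heq heq, ip_self hη]
    refine ⟨cut H₀ F, hcut, ?_, fun x hx => (cut_of_mem (hB hx)).trans (hres x hx)⟩
    rw [mem_stab, cj_cut hz, mem_stab.1 (hF.le_stab (le_sup_right (a := H₀) (Subgroup.mem_zpowers z)))]
  · rintro ⟨f, hf, hzf, hres⟩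
    haveI := Subgroup.isCyclic_zpowers z
    obtain ⟨F, hF, hFf⟩ := exists_ext_cyclic (Subgroup.zpowers_le.2 hz) hf (Subgroup.zpowers_le.2 hzf)
    exact ⟨F, hF, fun x hx => (hFf x (hB hx)).trans (hres x hx)⟩

/-- **The correspondence preserves extendibility.** -/
theorem extTo_iff {L K C Q R : Subgroup G} (h : Rel p L K C Q) (hR : RData p L K C Q R)
    {θ ξ : G → ℂ} (hθ : IsIrrOn K θ) (hs : Q ≤ stab θ) (hξ : IsCorr p C Q θ ξ) :
    ExtTo K (K ⊔ R) θ ↔ ExtTo C R ξ := by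
  induction hn : Nat.card Q using Nat.strong_induction_on generalizing Q C R ξ with
  | _ n ih =>
  subst hn
  by_cases hne : Q = L
  · have hCK : C = K := le_antisymm h.C_le fun k hk => (h.mem_iff k).2 ⟨hk, fun q hq => by
      rw [hne] at hq
      exact mul_mem ((mem_conj_iff (h.K_norm hk) q).2 hq) (inv_mem hq)⟩
    subst hCK
    have e : θ = ξ := by_contra fun e => hξ.2.2 (by rw [mu_eq_zero hθ hξ.1 e, Nat.cast_zero])
    subst e
    rw [sup_eq_right.2 hR.C_le]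
  obtain ⟨Q₁, R₀, z, hLQ₁, hlt, hQQ₁, hRQ₁, hCR₀, hR₀, hz, hgen, hcent₁⟩ := exists_reduction h hR hne
  set C₁ := relFix h.K_norm Q₁ with hC₁
  have h₁ : Rel p L K C₁ Q₁ :=
    ⟨h.le, hLQ₁, h.K_norm, hlt.le.trans h.Q_norm_L, hlt.le.trans h.Q_norm_K, h.not_dvd,
      fun x hx => h.pow x (hlt.le hx), fun k => Iff.rfl⟩
  have hC₁Q₁ : C₁ ≤ Subgroup.normalizer (Q₁ : Set G) := by
    intro c hc
    refine Subgroup.mem_normalizer_iff.2 fun x => ⟨fun hx => ?_, fun hx => ?_⟩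
    · have := mul_mem (hLQ₁ (hc.2 x hx)) hx
      simpa using this
    · have := mul_mem (hLQ₁ ((inv_mem hc : c⁻¹ ∈ C₁).2 _ hx)) hx
      simpa [mul_assoc] using this
  have hnC₁ : ∀ {x : G}, x ∈ Subgroup.normalizer (L : Set G) → x ∈ Subgroup.normalizer (K : Set G) →
      x ∈ Subgroup.normalizer (Q₁ : Set G) → x ∈ Subgroup.normalizer (C₁ : Set G) :=
    fun hL hK hQ => h₁.mem_normalizer_C hL hK hQ
  have hRC₁ : R ≤ Subgroup.normalizer (C₁ : Set G) := fun r hr =>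
    hnC₁ (hR.norm_L hr) (hR.norm_K hr) (hRQ₁ hr)
  have hQC₁ : Q ≤ Subgroup.normalizer (C₁ : Set G) := fun x hx =>
    hnC₁ (h.Q_norm_L hx) (h.Q_norm_K hx) (hQQ₁ hx)
  have hCC₁ : C ≤ C₁ := fun c hc => ⟨h.C_le hc, fun x hx => ((h.mem_iff c).1 hc).2 x (hlt.le hx)⟩
  set R₁ := C₁ ⊔ R with hR₁
  have hC₁RK : R₁ ⊓ K ≤ C₁ := by
    rintro x ⟨hx1, hx2⟩
    obtain ⟨c, hc, r, hr, rfl⟩ := mem_sup' hRC₁ hx1
    have hrK : r ∈ K := by simpa using mul_mem (inv_mem hc.1) hx2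
    exact mul_mem hc (hCC₁ (hR.inf_le ⟨hr, hrK⟩))
  have hdat : RData p L K C₁ Q₁ R₁ := by
    refine ⟨le_sup_left, sup_le (fun c hc => h.K_norm hc.1) hR.norm_L,
      sup_le (fun c hc => Subgroup.le_normalizer hc.1) hR.norm_K, sup_le hC₁Q₁ hRQ₁, hC₁RK, fun hd => ?_,
      fun r hr r' hr' => comm_mem_sup hCC₁ hRC₁ hR.comm r hr r' hr'⟩
    rw [← Subgroup.relIndex_mul_relIndex L C₁ R₁ h₁.L_le le_sup_left, hR₁, relIndex_sup' hRC₁] at hd
    rcases hp.out.dvd_mul.1 hd with hd | hd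
    · exact h₁.not_dvd_C hd
    · rw [← Subgroup.inf_relIndex_right C₁ R] at hd
      exact hR.not_dvd (hd.trans (Subgroup.relIndex_dvd_of_le_left R (le_inf h₁.L_le (h.L_le.trans hR.C_le))))
  have hcard : Nat.card Q₁ < Nat.card Q := by
    refine Nat.lt_of_not_le fun hle => hlt.ne ?_
    exact SetLike.coe_injective (Set.eq_of_subset_of_ncard_le hlt.le
      (by rwa [← Nat.card_coe_set_eq, ← Nat.card_coe_set_eq]) (Set.toFinite _))
  obtain ⟨θ₁, hθ₁⟩ := h₁.exists_corr hθ (hlt.le.trans hs)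
  have hih := ih _ hcard h₁ hdat (hlt.le.trans hs) hθ₁ rfl
  have hθ₁Q : Q ≤ stab θ₁ := by
    intro x hx
    refine mem_stab.2 (h₁.unique hθ (hlt.le.trans hs) ?_ hθ₁)
    have h2 := h₁.corr_cj hθ₁ (h.Q_norm_L hx) (h.Q_norm_K hx) (hQQ₁ hx)
    rwa [mem_stab.1 (hs hx)] at h2
  have hKR : K ⊔ R₁ = K ⊔ R := by
    rw [hR₁, ← sup_assoc, sup_eq_left.2 h₁.C_le]
  rw [hKR] at hih
  rw [hih]
  -- the acting group modulo `Q₁`
  have hR₀L : R₀ ≤ Subgroup.normalizer (L : Set G) := hR₀.trans hR.norm_L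
  set Q' := relFix h.Q_norm_L R₀ with hQ'
  have hL' : L ≤ Q' := fun l hl => ⟨h.le_Q hl, fun r hr => by
    rw [mul_assoc, mul_assoc, ← mul_assoc r l⁻¹ r⁻¹]
    exact mul_mem hl ((mem_conj_iff (hR₀L hr) _).2 (inv_mem hl))⟩
  have hQsup : ∀ x ∈ Q, ∃ w ∈ Q₁, ∃ y ∈ Q', x = y * w := by
    intro x hx
    set N := Subgroup.normalizer (L : Set G)
    haveI : (L.subgroupOf N).Normal := Subgroup.normal_in_normalizer
    set π := QuotientGroup.mk' (L.subgroupOf N)
    have hQ₁N : Q₁ ≤ N := hlt.le.trans h.Q_norm_L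
    set A := (R₀.subgroupOf N).map π with hA
    set B := (Q₁.subgroupOf N).map π with hB
    have hAB : A ≤ Subgroup.normalizer (B : Set _) := by
      rintro _ ⟨r, hr, rfl⟩
      refine CoprimeAction.mem_normalizer_of_conj_mem ?_
      rintro _ ⟨w, hw, rfl⟩
      refine ⟨r * w * r⁻¹, Subgroup.mem_subgroupOf.2 ?_, by simp⟩
      exact (mem_conj_iff (hRQ₁ (hR₀ hr)) _).2 hw
    have hcardA : Nat.card A ∣ L.relIndex R₀ := by
      rw [hA, ← Subgroup.relIndex_bot_left, show (⊥ : Subgroup (N ⧸ L.subgroupOf N)) =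
          (L.subgroupOf N).map π from ((Subgroup.map_eq_bot_iff _).2 (by simp [π])).symm,
        Subgroup.relIndex_map_map]
      refine (Subgroup.relIndex_dvd_of_le_left _ le_sup_left).trans ?_
      have hsup : R₀.subgroupOf N ⊔ π.ker = R₀.subgroupOf N := by
        rw [sup_eq_left, QuotientGroup.ker_mk']
        exact fun y hy => hCR₀ (h.L_le hy)
      rw [hsup, Subgroup.relIndex_subgroupOf hR₀L]
    have hcardB : ∃ b, Nat.card B = p ^ b := by
      refine IsPGroup.iff_card.1 ?_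
      rintro ⟨_, w, hw, rfl⟩
      obtain ⟨a, ha⟩ := h.pow w (hlt.le hw)
      refine ⟨a, Subtype.ext ?_⟩
      show π w ^ p ^ a = 1
      rw [← map_pow]
      exact (QuotientGroup.eq_one_iff _).2 (Subgroup.mem_subgroupOf.2 ha)
    obtain ⟨b, hb⟩ := hcardB
    have hpA : ¬ p ∣ Nat.card A := fun hd => hR.not_dvd
      ((hd.trans hcardA).trans (Dvd.intro _ (Subgroup.relIndex_mul_relIndex L R₀ R (h.L_le.trans hCR₀) hR₀)))
    haveI : Group.IsNilpotent B := (IsPGroup.iff_card.2 ⟨b, hb⟩ : IsPGroup p B).isNilpotent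
    obtain ⟨c, hc, hcx⟩ := CoprimeAction.exists_centralizer_mem_coset hAB
      (by rw [hb]; exact ((hp.out.coprime_iff_not_dvd.2 hpA).symm).pow_right b)
      (Or.inr inferInstance) (π ⟨x, h.Q_norm_L hx⟩) (by
        rintro _ ⟨r, hr, rfl⟩
        refine ⟨⟨x, h.Q_norm_L hx⟩⁻¹ * (r * ⟨x, h.Q_norm_L hx⟩ * r⁻¹), Subgroup.mem_subgroupOf.2 ?_,
          by simp⟩
        show x⁻¹ * ((r : G) * x * (r : G)⁻¹) ∈ Q₁
        have h1 := (mem_conj_iff (hQQ₁ (inv_mem hx)) _).2 (hcent₁ r hr x hx)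
        simpa [mul_assoc] using h1)
    obtain ⟨w, hw, hwe⟩ := hcx
    have hwN : (w : G) ∈ Q₁ := hw
    refine ⟨(w : G)⁻¹, inv_mem hwN, x * w, ⟨mul_mem hx (hlt.le hwN), fun r hr => ?_⟩, by simp⟩
    have hc' : c = π (⟨x, h.Q_norm_L hx⟩ * w) := by rw [map_mul, hwe, mul_inv_cancel_left]
    have h2 := hc (π ⟨r, hR₀L hr⟩) ⟨⟨r, hR₀L hr⟩, hr, rfl⟩
    rw [hc', ← map_mul, ← map_mul] at h2
    have h3 := inv_mem ((mk_eq_mk_iff L _ _).1 h2)
    simpa [mul_assoc] using h3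
  have hR₀norm' : R₀ ≤ Subgroup.normalizer (Q' : Set G) := by
    intro r hr
    refine Subgroup.mem_normalizer_iff.2 fun x => ⟨fun hx => ?_, fun hx => ?_⟩
    · have h1 : r * x * r⁻¹ * x⁻¹ ∈ L := by
        have := inv_mem (hx.2 r hr)
        simpa [mul_assoc] using this
      have := mul_mem (hL' h1) hx
      simpa using this
    · have h1 : r⁻¹ * (r * x * r⁻¹) * r⁻¹⁻¹ * (r * x * r⁻¹)⁻¹ ∈ L := by
        have := inv_mem (hx.2 r⁻¹ (inv_mem hr))
        simpa [mul_assoc] using this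
      have := mul_mem (hL' h1) hx
      simpa [mul_assoc] using this
  have hQ'C₁ : Q' ≤ Subgroup.normalizer (C₁ : Set G) := fun x hx => hQC₁ hx.1
  have hrel' : Rel p L C₁ C Q' := by
    refine ⟨h₁.L_le, hL', fun c hc => h.K_norm hc.1, fun x hx => h.Q_norm_L hx.1, hQ'C₁, h₁.not_dvd_C,
      fun x hx => h.pow x hx.1, fun k => ⟨fun hk => ⟨hCC₁ hk, fun x hx => ((h.mem_iff k).1 hk).2 x hx.1⟩,
      fun hk => (h.mem_iff k).2 ⟨hk.1.1, fun x hx => ?_⟩⟩⟩
    obtain ⟨w, hw, y, hy, rfl⟩ := hQsup x hx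
    rw [show k * (y * w) * k⁻¹ * (y * w)⁻¹ =
      (k * y * k⁻¹ * y⁻¹) * (y * (k * w * k⁻¹ * w⁻¹) * y⁻¹) by group]
    exact mul_mem (hk.2 y hy) ((mem_conj_iff (h.Q_norm_L hy.1) _).2 (hk.1.2 w hw))
  have hzR₀ : z ∈ Subgroup.normalizer (R₀ : Set G) := by
    have h1 : ∀ y ∈ R, ∀ x ∈ R₀, y * x * y⁻¹ ∈ R₀ := by
      intro y hy x hx
      have := mul_mem (hCR₀ (hR.comm y hy x (hR₀ hx))) hx
      simpa using this
    refine Subgroup.mem_normalizer_iff.2 fun x => ⟨h1 z hz x, fun hx => ?_⟩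
    have := h1 z⁻¹ (inv_mem hz) _ hx
    simpa [mul_assoc] using this
  have hzQ' : z ∈ Subgroup.normalizer (Q' : Set G) := by
    have h1 : ∀ y ∈ R, ∀ x ∈ Q', y * x * y⁻¹ ∈ Q' := by
      intro y hy x hx
      refine ⟨(mem_conj_iff (hR.norm_Q hy) x).2 hx.1, fun r hr => ?_⟩
      have hr' : y⁻¹ * r * y ∈ R₀ := by
        have := mul_mem (hCR₀ (hR.comm y⁻¹ (inv_mem hy) r (hR₀ hr))) hr
        simpa [mul_assoc] using this
      have h2 := (mem_conj_iff (hR.norm_L hy) _).2 (hx.2 _ hr')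
      simpa [mul_assoc] using h2
    refine Subgroup.mem_normalizer_iff.2 fun x => ⟨h1 z hz x, fun hx => ?_⟩
    have := h1 z⁻¹ (inv_mem hz) _ hx
    simpa [mul_assoc] using this
  -- the correspondent for `Q'`
  have hQ'stab : Q' ≤ stab θ₁ := fun x hx => hθ₁Q hx.1
  have hcorr' : IsCorr p C Q' θ₁ ξ := by
    refine ⟨hξ.1, fun x hx => hξ.2.1 hx.1, fun h0 => hξ.2.2 ?_⟩
    rw [mu_trans_fixed hCC₁ (hθ.isCharOn.mono h₁.C_le) hξ.1 h.Q_norm_C hQC₁ hs hξ.2.1
      (h.pow_mem h₁.L_le), Finset.sum_eq_single θ₁, h0, mul_zero]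
    · intro η hη hne'
      rw [mem_fixedIrr] at hη
      by_cases hm : (mu C₁ θ η : ZMod p) = 0
      · rw [hm, zero_mul]
      · exact absurd (h₁.unique hθ (hlt.le.trans hs) ⟨hη.1, hlt.le.trans hη.2, hm⟩ hθ₁) hne'
    · exact fun hni => absurd (mem_fixedIrr.2 ⟨hθ₁.1, hθ₁Q⟩) hni
  have hinf' : R₀ ⊓ C₁ ≤ C := fun x hx => hR.inf_le ⟨hR₀ hx.1, hx.2.1⟩
  have hidx' : ¬ p ∣ L.relIndex R₀ := fun hd => hR.not_dvd
    (hd.trans (Dvd.intro _ (Subgroup.relIndex_mul_relIndex L R₀ R (h.L_le.trans hCR₀) hR₀)))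
  have hcent' : ∀ r ∈ R₀, ∀ x ∈ Q', r * x * r⁻¹ * x⁻¹ ∈ L := fun r hr x hx => by
    have := inv_mem (hx.2 r hr)
    simpa [mul_assoc] using this
  have key := extTo_step hrel' hCR₀ hR₀L (hR₀.trans hRC₁) hinf' hidx'
    (fun r hr r' hr' => hR.comm r (hR₀ hr) r' (hR₀ hr')) hcent' (hR.norm_L hz) (hRC₁ hz) hzQ' hzR₀
    hθ₁.1 hQ'stab hcorr'
  have hzH : z ∈ Subgroup.normalizer ((C₁ ⊔ R₀ : Subgroup G) : Set G) := by
    have h1 : ∀ y ∈ ({z, z⁻¹} : Set G), ∀ x ∈ C₁ ⊔ R₀, y * x * y⁻¹ ∈ C₁ ⊔ R₀ := by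
      intro y hy x hx
      have hy1 : y ∈ Subgroup.normalizer (C₁ : Set G) := by
        rcases hy with rfl | rfl
        · exact hRC₁ hz
        · exact inv_mem (hRC₁ hz)
      have hy2 : y ∈ Subgroup.normalizer (R₀ : Set G) := by
        rcases hy with rfl | rfl
        · exact hzR₀
        · exact inv_mem hzR₀
      obtain ⟨k, hk, r, hr, rfl⟩ := mem_sup' (hR₀.trans hRC₁) hx
      rw [show y * (k * r) * y⁻¹ = (y * k * y⁻¹) * (y * r * y⁻¹) by group]
      exact mul_mem (le_sup_left (b := R₀) ((mem_conj_iff hy1 k).2 hk))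
        (le_sup_right (a := C₁) ((mem_conj_iff hy2 r).2 hr))
    refine Subgroup.mem_normalizer_iff.2 fun x => ⟨h1 z (Or.inl rfl) x, fun hx => ?_⟩
    have := h1 z⁻¹ (Or.inr rfl) _ hx
    simpa [mul_assoc] using this
  have hR₁' : R₁ = (C₁ ⊔ R₀) ⊔ Subgroup.zpowers z := by rw [hR₁, sup_assoc, hgen]
  rw [hR₁', extTo_cyclic_iff le_sup_left hzH hθ₁.1]
  conv_rhs => rw [← hgen]
  rw [extTo_cyclic_iff hCR₀ hzR₀ hξ.1]
  exact key

end

end CfsgLib.RelMcKay
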