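import Mathlib
import Cfsg.Agent.Lib.RelMcKay.ExtEquiv

/-!
# Counting the characters over an invariant character by good elements
-/

set_option autoImplicit false
set_option linter.style.haveILetI false
set_option linter.unusedSectionVars false

open scoped ComplexConjugate Pointwise
open Cfsg CfsgLib.CharTheory

namespace CfsgLib.RelMcKay

noncomputable section

open scoped Classical

variable {G : Type*} [Group G] [Finite G] {p : ℕ} [hp : Fact p.Prime]

/-- The irreducible characters of `H` over `θ`. -/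
def overIrr (H K : Subgroup G) (θ : G → ℂ) : Finset (G → ℂ) :=
  (irrOn H).filter fun χ => mu K χ θ ≠ 0

theorem mem_overIrr {H K : Subgroup G} {θ χ : G → ℂ} :
    χ ∈ overIrr H K θ ↔ IsIrrOn H χ ∧ mu K χ θ ≠ 0 := by simp [overIrr]

/-- `r` is good for `θ`. -/
def GoodEl (K C R : Subgroup G) (θ : G → ℂ) (r : G) : Prop :=
  ∀ y ∈ R, r * y * r⁻¹ * y⁻¹ ∈ C → ExtTo K (K ⊔ Subgroup.zpowers r ⊔ Subgroup.zpowers y) θ

/-- The weight of an element: the number of partners if good, else zero. -/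
def goodWeight (K C R : Subgroup G) (θ : G → ℂ) (r : G) : ℕ :=
  if GoodEl K C R θ r then Nat.card {y : R // r * y * r⁻¹ * (y : G)⁻¹ ∈ C} else 0

section Setting

variable {K C R : Subgroup G} (hR : R ≤ Subgroup.normalizer (K : Set G)) (hC : R ⊓ K = C)
  {θ : G → ℂ} (hθ : IsIrrOn K θ) (hRθ : R ≤ stab θ)
include hR hC hθ hRθ

theorem sum_norm_sq_coset {r : G} (hr : r ∈ R) :
    avg K (fun k => ∑ χ ∈ overIrr (K ⊔ R) K θ, χ (k * r) * conj (χ (k * r))) =
      (Nat.card C : ℂ)⁻¹ * goodWeight K C R θ r := by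
  set H := K ⊔ R with hH
  haveI := Fintype.ofFinite K
  haveI := Fintype.ofFinite H
  have hrH : r ∈ H := le_sup_right (a := K) hr
  have hKH : K ≤ H := le_sup_left
  have hHK : H ≤ Subgroup.normalizer (K : Set G) := sup_le Subgroup.le_normalizer hR
  have hzr : Subgroup.zpowers r ≤ Subgroup.normalizer (K : Set G) := Subgroup.zpowers_le.2 (hR hr)
  set X := K ⊔ Subgroup.zpowers r with hX
  have hrX : r ∈ X := le_sup_right (a := K) (Subgroup.mem_zpowers r)
  have hXH : X ≤ H := sup_le le_sup_left (Subgroup.zpowers_le.2 hrH)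
  haveI := Subgroup.isCyclic_zpowers r
  obtain ⟨ψ, hψ, hψθ⟩ := exists_ext_cyclic hzr hθ (Subgroup.zpowers_le.2 (hRθ hr))
  have hψ1 : avg K (fun k => ψ (k * r) * conj (ψ (k * r))) = 1 := by
    have := avg_coset_mul_conj le_sup_left (sup_le Subgroup.le_normalizer hzr) hθ hθ hψ hψ hψθ hψθ hrX
      (fun _ => rfl)
    rwa [if_pos rfl] at this
  have hlin : ∀ f, IsIrrOn X f → (∀ x ∈ K, f x = θ x) →
      ∃ l : Lin K X, f = mulLin l ψ := by
    intro f hf hfθ
    haveI : (K.subgroupOf X).Normal := (Subgroup.normal_subgroupOf_iff_le_normalizer le_sup_left).2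
      (sup_le Subgroup.le_normalizer hzr)
    let e : K.subgroupOf X ≃* K := Subgroup.subgroupOfEquivOfLe le_sup_left
    obtain ⟨l, hl1, hl⟩ := Clifford.exists_linFun_of_extensions (N := K.subgroupOf X)
      (θ := fun n => θ (e n)) (isIrrCharacter_comp_mulEquiv hθ.1 e) hψ.1 (fun n => hψθ _ n.2)
      hf.1 (fun n => hfθ _ n.2)
    refine ⟨⟨l, fun x hx => hl1 ⟨x, hx⟩⟩, hf.ext (isIrrOn_mulLin _ hψ) fun x hx => ?_⟩
    rw [mulLin_of_mem _ _ hx]
    exact congrFun hl ⟨x, hx⟩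
  have hlr : ∀ (l : Lin K X) (k : G) (hk : k ∈ K),
      mulLin l ψ (k * r) = (l.1 ⟨r, hrX⟩ : ℂ) * ψ (k * r) := by
    intro l k hk
    rw [mulLin_of_mem _ _ (mul_mem (le_sup_left (b := Subgroup.zpowers r) hk) hrX),
      show (⟨k * r, mul_mem (le_sup_left (b := Subgroup.zpowers r) hk) hrX⟩ : X) =
        ⟨k, le_sup_left (b := Subgroup.zpowers r) hk⟩ * ⟨r, hrX⟩ from rfl, map_mul,
      l.2 ⟨k, le_sup_left (b := Subgroup.zpowers r) hk⟩ hk, one_mul]
  -- on the coset every character over `θ` is a multiple of `ψ`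
  have hscal : ∀ χ ∈ overIrr H K θ, ∃ a : ℂ, ∀ k ∈ K, χ (k * r) = a * ψ (k * r) := by
    intro χ hχ
    rw [mem_overIrr] at hχ
    have hHθ : H ≤ stab θ := sup_le hθ.le_stab hRθ
    have hcX : IsCharOn X χ := hχ.1.isCharOn.mono hXH
    -- every constituent on `X` lies over `θ`
    have hres : ∀ ω ∈ irrOn X, mu X χ ω ≠ 0 → ∀ x ∈ K, ω x = θ x := by
      intro ω hω hm
      rw [mem_irrOn] at hω
      refine res_eq_of_over hzr hθ (Subgroup.zpowers_le.2 (hRθ hr)) hω fun h0 => ?_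
      obtain ⟨η, hη, hmη⟩ := exists_mu_ne_zero (hω.isCharOn.mono le_sup_left)
        (by rw [hω.isCharOn.apply_one]; exact_mod_cast hω.deg_pos.ne')
      have hηθ : η ≠ θ := fun e => hmη (e ▸ h0)
      have hne : mu K χ η ≠ 0 := by
        rw [mu_trans le_sup_left hcX hη]
        intro h1
        exact Nat.mul_ne_zero hm hmη (Finset.sum_eq_zero_iff.1 h1 ω (mem_irrOn.2 hω))
      haveI : (K.subgroupOf H).Normal := (Subgroup.normal_subgroupOf_iff_le_normalizer hKH).2 hHK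
      haveI := Fintype.ofFinite (K.subgroupOf H)
      let e : K.subgroupOf H ≃* K := Subgroup.subgroupOfEquivOfLe hKH
      have hcon : ∀ {ζ : G → ℂ}, IsIrrOn K ζ → mu K χ ζ ≠ 0 →
          classInner (fun n : K.subgroupOf H => χ ((n : H) : G)) (fun n => ζ (e n)) ≠ 0 := by
        intro ζ hζ hζ0 h2
        have h3 : ip K χ ζ ≠ 0 := by
          rw [ip_eq_mu (hχ.1.isCharOn.mono hKH) hζ]
          exact_mod_cast hζ0
        rw [ip_eq, ← Clifford.classInner_comp_mulEquiv e] at h3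
        exact h3 h2
      obtain ⟨g, hg⟩ := Clifford.exists_conj_of_constituents (K.subgroupOf H) hχ.1.1
        (θ := fun n => θ (e n)) (η := fun n => η (e n))
        (isIrrCharacter_comp_mulEquiv hθ.1 e) (isIrrCharacter_comp_mulEquiv hη.1 e)
        (hcon hθ hχ.2) (hcon hη hne)
      refine hηθ (hη.ext hθ fun x hx => ?_)
      have h4 := congrFun hg (e.symm ⟨x, hx⟩)
      simp [Clifford.conjChar, e, Subgroup.subgroupOfEquivOfLe] at h4
      rw [h4]
      exact congrFun (mem_stab.1 (hHθ g.2)) x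
    refine ⟨∑ ω ∈ irrOn X, (mu X χ ω : ℂ) * if hω : ∃ l : Lin K X, ω = mulLin l ψ
      then (hω.choose.1 ⟨r, hrX⟩ : ℂ) else 0, fun k hk => ?_⟩
    rw [hcX.decomp (mul_mem (le_sup_left (b := Subgroup.zpowers r) hk) hrX), Finset.sum_mul]
    refine Finset.sum_congr rfl fun ω hω => ?_
    by_cases hm : mu X χ ω = 0
    · simp [hm]
    have hex : ∃ l : Lin K X, ω = mulLin l ψ := hlin ω (mem_irrOn.1 hω) (hres ω hω hm)
    rw [dif_pos hex]
    conv_lhs => rw [hex.choose_spec, hlr _ k hk]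
    rw [← hex.choose_spec]
    ring
  by_cases hgood : GoodEl K C R θ r
  swap
  · -- bad element: all characters over `θ` vanish on the coset
    rw [goodWeight, if_neg hgood, Nat.cast_zero, mul_zero]
    obtain ⟨y, hy, hc, hno⟩ : ∃ y ∈ R, r * y * r⁻¹ * y⁻¹ ∈ C ∧
        ¬ ExtTo K (X ⊔ Subgroup.zpowers y) θ := by
      by_contra h
      push Not at h
      exact hgood fun y hy hc => h y hy hc
    have hcK : r * y * r⁻¹ * y⁻¹ ∈ K := (hC ▸ hc : r * y * r⁻¹ * y⁻¹ ∈ R ⊓ K).2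
    have hyrk : y * r * y⁻¹ ∈ X := by
      have h1 : y * r * y⁻¹ = (r * y * r⁻¹ * y⁻¹)⁻¹ * r := by group
      rw [h1]
      exact mul_mem (le_sup_left (b := Subgroup.zpowers r) (inv_mem hcK)) hrX
    have hyX : y ∈ Subgroup.normalizer (X : Set G) := by
      refine CoprimeAction.mem_normalizer_of_conj_mem fun x hx => ?_
      have hle : X ≤ X.comap (MulAut.conj y).toMonoidHom := sup_le
        (fun k hk => le_sup_left (b := Subgroup.zpowers r) ((mem_conj_iff (hR hy) k).2 hk))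
        (Subgroup.zpowers_le.2 hyrk)
      exact hle hx
    have hcjθ : ∀ x ∈ K, cj y ψ x = θ x := fun x hx => by
      show ψ (y * x * y⁻¹) = θ x
      rw [hψθ _ ((mem_conj_iff (hR hy) x).2 hx)]
      exact congrFun (mem_stab.1 (hRθ hy)) x
    obtain ⟨l, hl⟩ := hlin _ (hψ.cj hyX) hcjθ
    have hl1 : (l.1 ⟨r, hrX⟩ : ℂ) ≠ 1 := by
      intro e
      refine hno ((extTo_cyclic_iff le_sup_left hyX hθ).2 ⟨ψ, hψ, ?_, hψθ⟩)
      rw [mem_stab, hl]
      refine (isIrrOn_mulLin _ hψ).ext hψ fun x hx => ?_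
      obtain ⟨k, hk, z, hz, rfl⟩ := mem_sup' hzr hx
      obtain ⟨n, rfl⟩ := Subgroup.mem_zpowers_iff.1 hz
      rw [mulLin_of_mem _ _ hx, show (⟨k * r ^ n, hx⟩ : X) =
          ⟨k, le_sup_left (b := Subgroup.zpowers r) hk⟩ * ⟨r, hrX⟩ ^ n from Subtype.ext (by simp),
        map_mul, map_zpow, l.2 ⟨k, le_sup_left (b := Subgroup.zpowers r) hk⟩ hk, one_mul,
        show l.1 ⟨r, hrX⟩ = 1 from Units.ext e, one_zpow, Units.val_one, one_mul]
    rw [avg_congr (F' := fun _ => (0 : ℂ)) fun k hk => ?_, avg_const]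
    refine Finset.sum_eq_zero fun χ hχ => ?_
    obtain ⟨a, ha⟩ := hscal χ hχ
    have hzero : χ (k * r) = 0 := by
      have h2 : y * (k * r) * y⁻¹ = ((y * k * y⁻¹) * (r * y * r⁻¹ * y⁻¹)⁻¹) * r := by group
      have h2K : (y * k * y⁻¹) * (r * y * r⁻¹ * y⁻¹)⁻¹ ∈ K :=
        mul_mem ((mem_conj_iff (hR hy) k).2 hk) (inv_mem hcK)
      have h3 : χ (y * (k * r) * y⁻¹) = χ (k * r) :=
        (mem_overIrr.1 hχ).1.classFun (le_sup_right (a := K) hy) _
      have h4 : ψ (y * (k * r) * y⁻¹) = (l.1 ⟨r, hrX⟩ : ℂ) * ψ (k * r) := by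
        rw [← hlr l k hk, ← hl]
        rfl
      rw [h2] at h3 h4
      rw [ha _ h2K, h4, ha k hk] at h3
      have h5 : ((l.1 ⟨r, hrX⟩ : ℂ) - 1) * (a * ψ (k * r)) = 0 := by linear_combination h3
      rw [ha k hk]
      exact (mul_eq_zero.1 h5).resolve_left (sub_ne_zero.2 hl1)
    rw [hzero, zero_mul]
  -- good element
  rw [goodWeight, if_pos hgood]
  let Cx : Subgroup G :=
    { carrier := {y | y ∈ H ∧ r * y * r⁻¹ * y⁻¹ ∈ K}
      one_mem' := ⟨one_mem H, by simp⟩
      mul_mem' := fun {a b} ha hb => ⟨mul_mem ha.1 hb.1, by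
        rw [show r * (a * b) * r⁻¹ * (a * b)⁻¹ =
          (r * a * r⁻¹ * a⁻¹) * (a * (r * b * r⁻¹ * b⁻¹) * a⁻¹) by group]
        exact mul_mem ha.2 ((mem_conj_iff (hHK ha.1) _).2 hb.2)⟩
      inv_mem' := fun {a} ha => ⟨inv_mem ha.1, by
        rw [show r * a⁻¹ * r⁻¹ * a⁻¹⁻¹ = a⁻¹ * (r * a * r⁻¹ * a⁻¹)⁻¹ * a⁻¹⁻¹ by group]
        exact (mem_conj_iff (hHK (inv_mem ha.1)) _).2 (inv_mem ha.2)⟩ }
  have hinvψ : ∀ y ∈ Cx, ∀ k ∈ K, ψ (y * (k * r) * y⁻¹) = ψ (k * r) := by
    intro y hy k hk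
    obtain ⟨k₀, hk₀, y', hy', rfl⟩ := mem_sup' hR hy.1
    have hc : r * y' * r⁻¹ * y'⁻¹ ∈ C := by
      rw [← hC]
      refine Subgroup.mem_inf.2 ⟨mul_mem (mul_mem (mul_mem hr hy') (inv_mem hr)) (inv_mem hy'), ?_⟩
      have h1 : (r * k₀ * r⁻¹)⁻¹ * (r * (k₀ * y') * r⁻¹ * (k₀ * y')⁻¹) * k₀ ∈ K :=
        mul_mem (mul_mem (inv_mem ((mem_conj_iff (hR hr) k₀).2 hk₀)) hy.2) hk₀
      rw [show r * y' * r⁻¹ * y'⁻¹ = (r * k₀ * r⁻¹)⁻¹ * (r * (k₀ * y') * r⁻¹ * (k₀ * y')⁻¹) * k₀ by group]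
      exact h1
    obtain ⟨F, hF, hFθ⟩ := hgood y' hy' hc
    obtain ⟨f, hf, hfF⟩ : ∃ f, IsIrrOn X f ∧ ∀ x ∈ X, f x = F x := by
      obtain ⟨f, hf, hfθ⟩ := ExtTo.mono le_sup_left (le_sup_left (b := Subgroup.zpowers y')) hθ ⟨F, hF, hFθ⟩
      obtain ⟨η, hη, hmu⟩ := exists_mu_ne_zero (hF.isCharOn.mono (le_sup_left (b := Subgroup.zpowers y')))
        (by rw [hF.isCharOn.apply_one]; exact_mod_cast hF.deg_pos.ne')
      refine ⟨η, hη, fun x hx => ?_⟩
      have hdec : deg F = ∑ ζ ∈ irrOn X, mu X F ζ * deg ζ :=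
        deg_eq_sum (hF.isCharOn.mono (le_sup_left (b := Subgroup.zpowers y')))
      rw [← Finset.add_sum_erase _ _ (mem_irrOn.2 hη)] at hdec
      have hηθ : ∀ x ∈ K, η x = θ x := by
        refine res_eq_of_over hzr hθ (Subgroup.zpowers_le.2 (hRθ hr)) hη fun h0 => ?_
        obtain ⟨ζ, hζ, hmz⟩ := exists_mu_ne_zero (hη.isCharOn.mono le_sup_left)
          (by rw [hη.isCharOn.apply_one]; exact_mod_cast hη.deg_pos.ne')
        have h2 := mu_trans (le_sup_left : K ≤ X)
          (hF.isCharOn.mono (le_sup_left (b := Subgroup.zpowers y'))) hζ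
        rw [mu_eq_of_res (H := X) hθ hFθ ζ hζ] at h2
        by_cases hz : ζ = θ
        · exact hmz (hz ▸ h0)
        · rw [if_neg hz, eq_comm, Finset.sum_eq_zero_iff] at h2
          exact (Nat.mul_ne_zero hmu hmz) (h2 η (mem_irrOn.2 hη))
      have hd1 : deg η = deg θ := by
        have h1 : η 1 = θ 1 := hηθ 1 (one_mem K)
        rw [hη.isCharOn.apply_one, hθ.isCharOn.apply_one] at h1
        exact_mod_cast h1
      have hd2 : deg F = deg θ := by
        have h1 : F 1 = θ 1 := hFθ 1 (one_mem K)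
        rw [hF.isCharOn.apply_one, hθ.isCharOn.apply_one] at h1
        exact_mod_cast h1
      have h3 : deg η ≤ mu X F η * deg η := Nat.le_mul_of_pos_left _ (Nat.pos_of_ne_zero hmu)
      simp only [← hX] at hdec hmu h3
      have hrest : ∑ ζ ∈ (irrOn X).erase η, mu X F ζ * deg ζ = 0 := by omega
      have hone : mu X F η = 1 := by
        refine Nat.eq_of_mul_eq_mul_right hη.deg_pos ?_
        rw [one_mul]; omega
      rw [(hF.isCharOn.mono (le_sup_left (b := Subgroup.zpowers y'))).decomp hx,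
        ← Finset.add_sum_erase _ _ (mem_irrOn.2 hη), hone, Nat.cast_one, one_mul,
        Finset.sum_eq_zero (fun ζ hζ => ?_), add_zero]
      rcases Nat.mul_eq_zero.1 (Finset.sum_eq_zero_iff.1 hrest ζ hζ) with h6 | h6
      · rw [h6, Nat.cast_zero, zero_mul]
      · exact absurd h6 (mem_irrOn.1 (Finset.mem_of_mem_erase hζ)).deg_pos.ne'
    have hfθ : ∀ x ∈ K, f x = θ x := fun x hx =>
      (hfF x (le_sup_left (b := Subgroup.zpowers r) hx)).trans (hFθ x hx)
    obtain ⟨l, hl⟩ := hlin f hf hfθ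
    -- `y'` fixes `f`, hence `ψ`
    have hy'F : ∀ x ∈ K, f (y' * (x * r) * y'⁻¹) = f (x * r) := by
      intro x hx
      have hxr : x * r ∈ X := mul_mem (le_sup_left (b := Subgroup.zpowers r) hx) hrX
      have hcy : y' * (x * r) * y'⁻¹ ∈ X := by
        rw [show y' * (x * r) * y'⁻¹ = (y' * x * y'⁻¹) * (r * y' * r⁻¹ * y'⁻¹)⁻¹ * r by group]
        exact mul_mem (mul_mem (le_sup_left (b := Subgroup.zpowers r) ((mem_conj_iff (hR hy') x).2 hx))
          (le_sup_left (b := Subgroup.zpowers r) (inv_mem (hC ▸ hc : r * y' * r⁻¹ * y'⁻¹ ∈ R ⊓ K).2))) hrX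
      rw [hfF _ hcy, hfF _ hxr]
      exact hF.classFun (le_sup_right (a := X) (Subgroup.mem_zpowers y')) _
    -- inner part from `K`
    have hinner : ψ (k₀ * (y' * (k * r) * y'⁻¹) * k₀⁻¹) = ψ (y' * (k * r) * y'⁻¹) :=
      hψ.classFun (le_sup_left (b := Subgroup.zpowers r) hk₀) _
    rw [show k₀ * y' * (k * r) * (k₀ * y')⁻¹ = k₀ * (y' * (k * r) * y'⁻¹) * k₀⁻¹ by group, hinner]
    have h2 : y' * (k * r) * y'⁻¹ = ((y' * k * y'⁻¹) * (r * y' * r⁻¹ * y'⁻¹)⁻¹) * r := by group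
    have h2K : (y' * k * y'⁻¹) * (r * y' * r⁻¹ * y'⁻¹)⁻¹ ∈ K :=
      mul_mem ((mem_conj_iff (hR hy') k).2 hk) (inv_mem (hC ▸ hc : r * y' * r⁻¹ * y'⁻¹ ∈ R ⊓ K).2)
    have h3 := hy'F k hk
    rw [h2, hl, hlr l _ h2K, hlr l k hk] at h3
    rw [h2]
    exact mul_left_cancel₀ (Units.ne_zero _) h3
  -- Parseval for the class function spread from the coset
  haveI := Fintype.ofFinite (IrrCharacter H)
  let φ : G → ℂ := fun g => if g * r⁻¹ ∈ K then ψ g else 0
  let Φ : H → ℂ := fun g => ∑ h : H, φ ((h : G) * g * (h : G)⁻¹)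
  have hΦclass : IsClassFunction H Φ := by
    intro a b
    exact Fintype.sum_equiv (Equiv.mulRight b) _ _ fun h => by simp [mul_assoc]
  have hcoef : ∀ χ : H → ℂ, IsClassFunction H χ → classInner Φ χ =
      ∑ k : K, ψ ((k : G) * r) * conj (extendByZero H χ ((k : G) * r)) := by
    intro χ hχ
    have e1 : ∀ h : H, ∑ g : H, φ ((h : G) * g * (h : G)⁻¹) * conj (χ g) =
        ∑ g : H, φ g * conj (χ g) := fun h =>
      Fintype.sum_equiv (MulAut.conj h).toEquiv _ _ fun g => by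
        show _ = φ ((h * g * h⁻¹ : H) : G) * conj (χ (h * g * h⁻¹))
        rw [hχ g h]
        simp
    simp only [classInner, Φ, Finset.sum_mul]
    rw [Finset.sum_comm]
    simp only [e1, Finset.sum_const, Finset.card_univ, nsmul_eq_mul, ← Nat.card_eq_fintype_card]
    rw [← mul_assoc, inv_mul_cancel₀ (Nat.cast_ne_zero.2 Nat.card_pos.ne'), one_mul]
    rw [← Finset.sum_filter_add_sum_filter_not Finset.univ (fun g : H => (g : G) * r⁻¹ ∈ K),
      Finset.sum_eq_zero (s := Finset.univ.filter fun g : H => ¬ (g : G) * r⁻¹ ∈ K) (fun g hg => by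
        simp only [φ, if_neg (Finset.mem_filter.1 hg).2, zero_mul]), add_zero]
    refine Finset.sum_bij (fun g hg => (⟨(g : G) * r⁻¹, (Finset.mem_filter.1 hg).2⟩ : K))
      (fun _ _ => Finset.mem_univ _) (fun a _ b _ e => Subtype.ext (mul_right_cancel (congrArg Subtype.val e)))
      (fun k _ => ⟨⟨k * r, mul_mem (hKH k.2) hrH⟩, Finset.mem_filter.2 ⟨Finset.mem_univ _, by simp⟩,
        Subtype.ext (by simp)⟩) (fun g hg => ?_)
    simp only [φ, if_pos (Finset.mem_filter.1 hg).2, inv_mul_cancel_right, Frobenius.extendByZero_coe]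
  have hΦval : ∀ k (hk : k ∈ K), Φ ⟨k * r, mul_mem (hKH hk) hrH⟩ = (Nat.card Cx : ℂ) * ψ (k * r) := by
    intro k hk
    have hiff : ∀ h : H, (h : G) * (k * r) * (h : G)⁻¹ * r⁻¹ ∈ K ↔ (h : G) ∈ Cx := by
      intro h
      have hN := hHK h.2
      have e : (h : G) * (k * r) * (h : G)⁻¹ * r⁻¹ =
          ((h : G) * k * (h : G)⁻¹) * (r * (h : G) * r⁻¹ * (h : G)⁻¹)⁻¹ := by group
      constructor
      · intro h1
        refine ⟨h.2, ?_⟩
        rw [e] at h1
        have := mul_mem (inv_mem ((mem_conj_iff hN k).2 hk)) h1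
        rw [inv_mul_cancel_left] at this
        exact inv_mem_iff.1 this
      · intro h1
        rw [e]
        exact mul_mem ((mem_conj_iff hN k).2 hk) (inv_mem h1.2)
    have e2 : Φ ⟨k * r, mul_mem (hKH hk) hrH⟩ =
        ∑ h : H, if (h : G) ∈ Cx then ψ (k * r) else 0 := by
      refine Finset.sum_congr rfl fun h _ => ?_
      by_cases hh : (h : G) ∈ Cx
      · rw [if_pos hh]
        simp only [φ, if_pos ((hiff h).2 hh)]
        exact hinvψ _ hh k hk
      · rw [if_neg hh]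
        simp only [φ, if_neg (fun h1 => hh ((hiff h).1 h1))]
    rw [e2, ← Finset.sum_filter, Finset.sum_const, nsmul_eq_mul]
    congr 2
    rw [← Nat.card_eq_finsetCard]
    exact Nat.card_congr
      { toFun := fun x => ⟨x.1.1, (Finset.mem_filter.1 x.2).2⟩
        invFun := fun y => ⟨⟨y.1, y.2.1⟩, Finset.mem_filter.2 ⟨Finset.mem_univ _, y.2⟩⟩
        left_inv := fun x => rfl
        right_inv := fun y => rfl }
  have hself : classInner Φ Φ = (Nat.card K : ℂ) * Nat.card Cx := by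
    rw [hcoef Φ hΦclass, Finset.sum_congr rfl fun (k : K) _ => by
      rw [Frobenius.extendByZero_of_mem H Φ (mul_mem (hKH k.2) hrH), hΦval k k.2, map_mul, Complex.conj_natCast,
        mul_left_comm]]
    rw [← Finset.mul_sum]
    rw [avg_eq, inv_mul_eq_one₀ (Nat.cast_ne_zero.2 Nat.card_pos.ne')] at hψ1
    rw [← hψ1, mul_comm]
  have hpars : classInner Φ Φ = ∑ χ : IrrCharacter H,
      classInner Φ (χ : H → ℂ) * conj (classInner Φ (χ : H → ℂ)) := by
    conv_lhs => arg 2; rw [eq_sum_classInner hΦclass]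
    rw [classInner_sum_right]
    simp only [classInner_smul_right]
    exact Finset.sum_congr rfl fun χ _ => mul_comm _ _
  -- the coefficients
  have hzero : ∀ χ, IsIrrOn H χ → mu K χ θ = 0 → avg K (fun k => χ (k * r) * conj (ψ (k * r))) = 0 := by
    intro χ hχ h0
    haveI := Fintype.ofFinite X
    haveI : (K.subgroupOf X).Normal := (Subgroup.normal_subgroupOf_iff_le_normalizer le_sup_left).2
      (sup_le Subgroup.le_normalizer hzr)
    haveI := Fintype.ofFinite (K.subgroupOf X)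
    let e : K.subgroupOf X ≃* K := Subgroup.subgroupOfEquivOfLe le_sup_left
    let F : X → ℂ := fun x => χ x * conj (ψ x)
    have hF : IsCharacter X F := isCharacter_mul (hχ.isCharOn.mono hXH) (isCharacter_conj hψ.isCharOn)
    have havg : ∀ x : X, Clifford.cosetAvg (K.subgroupOf X) F x =
        avg K (fun k => χ (k * x) * conj (ψ (k * x))) := by
      intro x
      rw [Clifford.cosetAvg, avg_eq, Nat.card_congr e.toEquiv]
      congr 1
      exact Fintype.sum_equiv e.toEquiv _ _ fun k => rfl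
    have h1 : Clifford.cosetAvg (K.subgroupOf X) F 1 = 0 := by
      rw [havg, avg_congr (F' := fun k => χ k * conj (θ k)) (fun k hk => by
          rw [show ((1 : X) : G) = 1 from rfl, mul_one, hψθ k hk]), ← ip_eq_avg,
        ip_eq_mu (hχ.isCharOn.mono hKH) hθ, h0, Nat.cast_zero]
    have h2 := congrFun (Clifford.eq_zero_of_isCharacter_apply_one (Clifford.isCharacter_cosetAvg _ hF) h1)
      ⟨r, hrX⟩
    rw [havg] at h2
    exact h2
  have hsum : avg K (fun k => ∑ χ ∈ overIrr H K θ, χ (k * r) * conj (χ (k * r))) =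
      ∑ χ ∈ irrOn H, avg K (fun k => χ (k * r) * conj (ψ (k * r))) *
        conj (avg K (fun k => χ (k * r) * conj (ψ (k * r)))) := by
    rw [avg_sum]
    rw [← Finset.sum_subset (Finset.filter_subset _ (irrOn H) : overIrr H K θ ⊆ irrOn H) fun χ hχ hn => by
      rw [hzero χ (mem_irrOn.1 hχ) (by
        by_contra hne
        exact hn (mem_overIrr.2 ⟨mem_irrOn.1 hχ, hne⟩)), zero_mul]]
    refine Finset.sum_congr rfl fun χ hχ => ?_
    obtain ⟨a, ha⟩ := hscal χ hχ
    rw [avg_congr (F' := fun k => (a * conj a) * (ψ (k * r) * conj (ψ (k * r)))) (fun k hk => by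
        rw [ha k hk, map_mul]; ring), avg_const_mul, hψ1, mul_one,
      avg_congr (H := K) (F := fun k => χ (k * r) * conj (ψ (k * r)))
        (F' := fun k => a * (ψ (k * r) * conj (ψ (k * r)))) (fun k hk => by
        rw [ha k hk]; ring), avg_const_mul, hψ1, mul_one]
  have hcard : (Nat.card Cx : ℂ) * (Nat.card C : ℂ) =
      (Nat.card K : ℂ) * Nat.card {y : R // r * y * r⁻¹ * (y : G)⁻¹ ∈ C} := by
    haveI := Fintype.ofFinite R
    have h1 := avg_sup hR (fun g => if g ∈ Cx then (1 : ℂ) else 0)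
    have h2 : avg (K ⊔ R) (fun g => if g ∈ Cx then (1 : ℂ) else 0) =
        (Nat.card H : ℂ)⁻¹ * Nat.card Cx := by
      rw [avg_eq]
      congr 1
      rw [← Finset.sum_filter, Finset.sum_const, nsmul_eq_mul, mul_one, ← Nat.card_eq_finsetCard]
      congr 1
      exact Nat.card_congr
        { toFun := fun x => ⟨x.1.1, (Finset.mem_filter.1 x.2).2⟩
          invFun := fun y => ⟨⟨y.1, y.2.1⟩, Finset.mem_filter.2 ⟨Finset.mem_univ _, y.2⟩⟩
          left_inv := fun x => rfl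
          right_inv := fun y => rfl }
    have h3 : ∀ y : R, avg K (fun k => if k * (y : G) ∈ Cx then (1 : ℂ) else 0) =
        if r * (y : G) * r⁻¹ * (y : G)⁻¹ ∈ C then 1 else 0 := by
      intro y
      have hiff : ∀ k ∈ K, k * (y : G) ∈ Cx ↔ r * (y : G) * r⁻¹ * (y : G)⁻¹ ∈ C := by
        intro k hk
        have e : r * (k * (y : G)) * r⁻¹ * (k * (y : G))⁻¹ =
            (r * k * r⁻¹) * (r * (y : G) * r⁻¹ * (y : G)⁻¹) * k⁻¹ := by group
        have hkr := (mem_conj_iff (hR hr) k).2 hk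
        constructor
        · intro h4
          rw [← hC]
          refine Subgroup.mem_inf.2 ⟨mul_mem (mul_mem (mul_mem hr y.2) (inv_mem hr)) (inv_mem y.2), ?_⟩
          have h5 := h4.2
          rw [e] at h5
          have := mul_mem (mul_mem (inv_mem hkr) h5) hk
          simpa [mul_assoc] using this
        · intro h4
          refine ⟨mul_mem (hKH hk) (le_sup_right (a := K) y.2), ?_⟩
          rw [e]
          exact mul_mem (mul_mem hkr (hC ▸ h4 : _ ∈ R ⊓ K).2) (inv_mem hk)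
      split_ifs with hy
      · rw [avg_congr (F' := fun _ => (1 : ℂ)) (fun k hk => if_pos ((hiff k hk).2 hy)), avg_const]
      · rw [avg_congr (F' := fun _ => (0 : ℂ)) (fun k hk => if_neg (fun h4 => hy ((hiff k hk).1 h4))), avg_const]
    rw [h2] at h1
    simp only [h3] at h1
    have h5 : ∑ y : R, (if r * (y : G) * r⁻¹ * (y : G)⁻¹ ∈ C then (1 : ℂ) else 0) =
        Nat.card {y : R // r * y * r⁻¹ * (y : G)⁻¹ ∈ C} := by
      rw [← Finset.sum_filter, Finset.sum_const, nsmul_eq_mul, mul_one, Nat.card_eq_fintype_card,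
        Fintype.card_subtype]
    rw [h5] at h1
    have h6 : Nat.card H * Nat.card C = Nat.card K * Nat.card R := by
      have e1 := Subgroup.relIndex_mul_relIndex ⊥ K H bot_le hKH
      rw [Subgroup.relIndex_bot_left, Subgroup.relIndex_bot_left, relIndex_sup' hR,
        ← Subgroup.inf_relIndex_right K R, inf_comm, hC] at e1
      have e2 := Subgroup.relIndex_mul_relIndex ⊥ C R bot_le (hC ▸ inf_le_left)
      rw [Subgroup.relIndex_bot_left, Subgroup.relIndex_bot_left] at e2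
      rw [← e1, ← e2]
      ring
    have h6' : (Nat.card H : ℂ) * Nat.card C = (Nat.card K : ℂ) * Nat.card R := by exact_mod_cast h6
    have hH0 : (Nat.card H : ℂ) ≠ 0 := Nat.cast_ne_zero.2 Nat.card_pos.ne'
    have hR0 : (Nat.card R : ℂ) ≠ 0 := Nat.cast_ne_zero.2 Nat.card_pos.ne'
    field_simp at h1
    apply mul_left_cancel₀ hR0
    linear_combination (Nat.card C : ℂ) * h1 +
      (Nat.card {y : R // r * y * r⁻¹ * (y : G)⁻¹ ∈ C} : ℂ) * h6'
  have hco : ∑ χ : IrrCharacter H, classInner Φ (χ : H → ℂ) * conj (classInner Φ (χ : H → ℂ)) =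
      (Nat.card K : ℂ) ^ 2 * ∑ χ ∈ irrOn H, avg K (fun k => χ (k * r) * conj (ψ (k * r))) *
        conj (avg K (fun k => χ (k * r) * conj (ψ (k * r)))) := by
    rw [Finset.mul_sum, ← Finset.sum_coe_sort (irrOn H)]
    refine Fintype.sum_equiv ((irrEquiv H).trans
      (Equiv.subtypeEquivRight fun f => mem_irrOn.symm)) _ _ fun χ => ?_
    have e : classInner Φ (χ : H → ℂ) = (Nat.card K : ℂ) *
        conj (avg K (fun k => (irrEquiv H χ : G → ℂ) (k * r) * conj (ψ (k * r)))) := by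
      rw [hcoef _ (IsIrrCharacter.isClassFunction χ.2), avg_eq, map_mul, map_inv₀, Complex.conj_natCast,
        ← mul_assoc, mul_inv_cancel₀ (Nat.cast_ne_zero.2 Nat.card_pos.ne'), one_mul, map_sum]
      refine Finset.sum_congr rfl fun k _ => ?_
      rw [map_mul, Complex.conj_conj, mul_comm]
      rfl
    rw [e, map_mul, Complex.conj_natCast, Complex.conj_conj]
    show _ = (Nat.card K : ℂ) ^ 2 * (avg K (fun k => (irrEquiv H χ : G → ℂ) (k * r) * conj (ψ (k * r))) *
      conj (avg K (fun k => (irrEquiv H χ : G → ℂ) (k * r) * conj (ψ (k * r)))))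
    ring
  rw [hsum]
  have hfin := hpars.symm.trans hself
  rw [hco, pow_two, mul_assoc] at hfin
  have hK0 : (Nat.card K : ℂ) ≠ 0 := Nat.cast_ne_zero.2 Nat.card_pos.ne'
  have h7 := mul_left_cancel₀ hK0 hfin
  rw [eq_inv_mul_iff_mul_eq₀ (Nat.cast_ne_zero.2 Nat.card_pos.ne')]
  apply mul_left_cancel₀ hK0
  linear_combination (Nat.card C : ℂ) * h7 + hcard

/-- The number of characters over an invariant character. -/
theorem card_overIrr [Fintype R] :
    (overIrr (K ⊔ R) K θ).card * (Nat.card R * Nat.card C) = ∑ r : R, goodWeight K C R θ r := by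
  have h1 : ((overIrr (K ⊔ R) K θ).card : ℂ) =
      avg (K ⊔ R) (fun g => ∑ χ ∈ overIrr (K ⊔ R) K θ, χ g * conj (χ g)) := by
    rw [avg_sum, Finset.sum_congr rfl fun χ hχ => by rw [← ip_eq_avg, ip_self (mem_overIrr.1 hχ).1],
      Finset.sum_const, nsmul_eq_mul, mul_one]
  rw [avg_sup hR, Finset.sum_congr rfl fun (r : R) _ => sum_norm_sq_coset hR hC hθ hRθ r.2,
    ← Finset.mul_sum] at h1
  have hR0 : (Nat.card R : ℂ) ≠ 0 := Nat.cast_ne_zero.2 Nat.card_pos.ne'
  have hC0 : (Nat.card C : ℂ) ≠ 0 := Nat.cast_ne_zero.2 Nat.card_pos.ne'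
  have h2 : ((overIrr (K ⊔ R) K θ).card : ℂ) * ((Nat.card R : ℂ) * Nat.card C) =
      ∑ r : R, (goodWeight K C R θ r : ℂ) := by
    rw [h1]
    field_simp
  exact_mod_cast h2

end Setting

/-- **Equal counts over corresponding characters.** -/
theorem card_overIrr_corr {L K C Q R : Subgroup G} (h : Rel p L K C Q)
    (hCR : C ≤ R) (hRL : R ≤ Subgroup.normalizer (L : Set G)) (hRK : R ≤ Subgroup.normalizer (K : Set G))
    (hRQ : R ≤ Subgroup.normalizer (Q : Set G)) (hinf : R ⊓ K ≤ C) (hidx : ¬ p ∣ L.relIndex R)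
    {θ ξ : G → ℂ} (hθ : IsIrrOn K θ) (hs : Q ≤ stab θ) (hξ : IsCorr p C Q θ ξ) (hRθ : R ≤ stab θ) :
    (overIrr (K ⊔ R) K θ).card = (overIrr R C ξ).card := by
  haveI := Fintype.ofFinite R
  have hRC : R ≤ Subgroup.normalizer (C : Set G) := fun r hr =>
    h.mem_normalizer_C (hRL hr) (hRK hr) (hRQ hr)
  have hRξ : R ≤ stab ξ := fun r hr => mem_stab.2 (h.unique hθ hs
    (by
      have h1 := h.corr_cj hξ (hRL hr) (hRK hr) (hRQ hr)
      rwa [mem_stab.1 (hRθ hr)] at h1) hξ)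
  have h1 := card_overIrr (R := R) hRK (le_antisymm hinf (le_inf hCR h.C_le)) hθ hRθ
  have h2 := card_overIrr (R := R) (K := C) hRC (inf_eq_right.2 hCR) hξ.1 hRξ
  rw [sup_eq_right.2 hCR] at h2
  have hgood : ∀ r ∈ R, GoodEl K C R θ r ↔ GoodEl C C R ξ r := by
    intro r hr
    refine forall₂_congr fun y hy => imp_congr_right fun hc => ?_
    set R₂ := C ⊔ Subgroup.zpowers r ⊔ Subgroup.zpowers y with hR₂
    have hR₂R : R₂ ≤ R := sup_le (sup_le hCR (Subgroup.zpowers_le.2 hr)) (Subgroup.zpowers_le.2 hy)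
    have hdat : RData p L K C Q R₂ := by
      refine ⟨le_sup_left.trans le_sup_left, hR₂R.trans hRL, hR₂R.trans hRK, hR₂R.trans hRQ,
        (inf_le_inf_right K hR₂R).trans hinf, fun hd => hidx (hd.trans (Dvd.intro _
          (Subgroup.relIndex_mul_relIndex L R₂ R (h.L_le.trans (le_sup_left.trans le_sup_left)) hR₂R))), ?_⟩
      -- commutators of the generated group lie in `C`
      have hsymm : ∀ {a b : G}, a * b * a⁻¹ * b⁻¹ ∈ C → b * a * b⁻¹ * a⁻¹ ∈ C := fun {a b} h3 => by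
        have := inv_mem h3
        simpa [mul_assoc] using this
      have hCany : ∀ c ∈ C, ∀ b ∈ R, c * b * c⁻¹ * b⁻¹ ∈ C := fun c hc' b hb => by
        rw [mul_assoc, mul_assoc, ← mul_assoc b c⁻¹ b⁻¹]
        exact mul_mem hc' ((mem_conj_iff (hRC hb) _).2 (inv_mem hc'))
      have hr' : R₂ ≤ fixingSubgroup' hRC r := sup_le (sup_le
        (fun c hc' => ⟨hCR hc', hsymm (hCany c hc' r hr)⟩)
        (Subgroup.zpowers_le.2 ⟨hr, by simp⟩)) (Subgroup.zpowers_le.2 ⟨hy, hc⟩)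
      have hy' : R₂ ≤ fixingSubgroup' hRC y := sup_le (sup_le
        (fun c hc' => ⟨hCR hc', hsymm (hCany c hc' y hy)⟩)
        (Subgroup.zpowers_le.2 ⟨hr, hsymm hc⟩)) (Subgroup.zpowers_le.2 ⟨hy, by simp⟩)
      intro b hb x hx
      have hb' : R₂ ≤ fixingSubgroup' hRC b := sup_le (sup_le
        (fun c hc' => ⟨hCR hc', hsymm (hCany c hc' b (hR₂R hb))⟩)
        (Subgroup.zpowers_le.2 ⟨hr, hsymm (hr' hb).2⟩)) (Subgroup.zpowers_le.2 ⟨hy, hsymm (hy' hb).2⟩)
      exact (hb' hx).2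
    have key := extTo_iff h hdat hθ hs hξ
    rw [hR₂, ← sup_assoc, ← sup_assoc, sup_eq_left.2 h.C_le] at key
    exact key
  have h3 : ∑ r : R, goodWeight K C R θ r = ∑ r : R, goodWeight C C R ξ r := by
    refine Finset.sum_congr rfl fun r _ => ?_
    simp only [goodWeight, hgood r r.2]
  rw [h3, ← h2] at h1
  exact Nat.eq_of_mul_eq_mul_right (Nat.mul_pos Nat.card_pos Nat.card_pos) h1

end

end CfsgLib.RelMcKay
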